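import Mathlib.GroupTheory.FixedPointFree
import Mathlib.GroupTheory.Nilpotent
import Mathlib.GroupTheory.Sylow
import Cfsg.Agent.S2800
import Cfsg.Agent.Fusion.PComplement
import Cfsg.Agent.S0031
import Cfsg.Agent.H59.ThompsonMap
import Cfsg.Agent.H72.FPFour

/-!
# Thompson's theorem on fixed-point-free automorphisms of prime order

A finite group with a fixed-point-free automorphism of prime order is nilpotent
(reduction to Thompson's normal p-complement criterion, S2800).
-/

set_option autoImplicit false

namespace Cfsg.Agent.Frobenius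

open Subgroup

universe u

variable {G : Type u} [Group G]

/-- The restriction of an automorphism to an invariant subgroup of a finite group. -/
noncomputable def restrictEquiv (φ : G ≃* G) (H : Subgroup G) (h : H.map (φ : G →* G) = H) :
    H ≃* H :=
  (H.equivMapOfInjective (φ : G →* G) φ.injective).trans (MulEquiv.subgroupCongr h)

theorem coe_restrictEquiv (φ : G ≃* G) (H : Subgroup G) (h : H.map (φ : G →* G) = H) (x : H) :
    (restrictEquiv φ H h x : G) = φ x := rfl

theorem iterate_restrictEquiv (φ : G ≃* G) (H : Subgroup G) (h : H.map (φ : G →* G) = H) (k : ℕ)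
    (x : H) : (((restrictEquiv φ H h)^[k] x : H) : G) = φ^[k] (x : G) := by
  induction k generalizing x with
  | zero => rfl
  | succ k ih => rw [Function.iterate_succ_apply, Function.iterate_succ_apply, ih, coe_restrictEquiv]

theorem map_inf_centralizer (φ : G ≃* G) {P : Subgroup G} (h : P.map (φ : G →* G) = P) :
    (P ⊓ centralizer (P : Set G)).map (φ : G →* G) = P ⊓ centralizer (P : Set G) := by
  rw [H59.center_map (φ : G →* G) P φ.injective.injOn, h]

/-- Characteristic closure operations commute with automorphisms. -/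
theorem map_normalizer' (φ : G ≃* G) {P : Subgroup G} (h : P.map (φ : G →* G) = P) :
    (normalizer (P : Set G)).map (φ : G →* G) = normalizer (P : Set G) := by
  have := Subgroup.map_equiv_normalizer_eq P φ
  rw [show P.map φ.toMonoidHom = P from h] at this
  exact this

theorem map_centralizer' (φ : G ≃* G) {P : Subgroup G} (h : P.map (φ : G →* G) = P) :
    (centralizer (P : Set G)).map (φ : G →* G) = centralizer (P : Set G) := by
  have hiff : ∀ z, φ z ∈ P ↔ z ∈ P := fun z => by
    conv_lhs => rw [← h]
    exact ⟨fun ⟨w, hw, e⟩ => φ.injective e ▸ hw, fun hz => ⟨z, hz, rfl⟩⟩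
  ext x
  simp only [Subgroup.mem_map, Subgroup.mem_centralizer_iff, SetLike.mem_coe, MonoidHom.coe_coe]
  constructor
  · rintro ⟨y, hy, rfl⟩ z hz
    obtain ⟨w, rfl⟩ := φ.surjective z
    rw [← map_mul, ← map_mul, hy w ((hiff w).1 hz)]
  · intro hx
    refine ⟨φ.symm x, fun z hz => ?_, φ.apply_symm_apply x⟩
    apply φ.injective
    rw [map_mul, map_mul, φ.apply_symm_apply, hx _ ((hiff z).2 hz)]

/-- The averaging step: a fixed-point-free automorphism of prime order forces `m ^ |Q|` to
centralise `Q`, for an invariant abelian normal `M` and invariant subgroup `Q`. -/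
theorem pow_card_commute [Finite G] (φ : G ≃* G) (hφ : ∀ g, φ g = g → g = 1) {p : ℕ}
    (hp : p.Prime) (hpow : ∀ g, φ^[p] g = g) (Q M : Subgroup G) (hM : M.Normal)
    (hMc : ∀ a ∈ M, ∀ b ∈ M, a * b = b * a) (hMi : M.map (φ : G →* G) = M)
    (hQi : Q.map (φ : G →* G) = Q) {m : G} (hm : m ∈ M) {x : G} (hx : x ∈ Q) :
    x * m ^ Nat.card Q = m ^ Nat.card Q * x := by
  classical
  cases nonempty_fintype Q
  have : IsMulCommutative M := ⟨⟨fun a b => Subtype.ext (hMc a a.2 b b.2)⟩⟩
  open scoped IsMulCommutative in
  let c : G → M →* M := fun g => (MulAut.conjNormal g : MulAut M).toMonoidHom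
  let f : M ≃* M := restrictEquiv φ M hMi
  let ψ : Q → (M →* M) := fun q => (c (q : G)).comp f.toMonoidHom
  let σ : Q ≃* Q := restrictEquiv φ Q hQi
  have hσ : MonoidHom.FixedPointFree (σ : Q →* Q) := fun q hq =>
    Subtype.ext (hφ _ (congrArg Subtype.val hq))
  -- partial products of `q, σ q, σ² q, …`
  let P : ℕ → Q → Q := fun i q => ((List.range i).map fun k => σ^[k] q).prod
  have hPsucc : ∀ i q, P (i + 1) q = q * σ (P i q) := by
    intro i q
    simp only [P, List.range_succ_eq_map, List.map_cons, List.prod_cons, List.map_map,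
      Function.iterate_zero_apply, map_list_prod]
    congr 2
    refine List.map_congr_left fun k _ => ?_
    simp [Function.iterate_succ_apply']
  have hiter : ∀ i q (a : M), ((ψ q)^[i] a : G) = P i q * φ^[i] (a : G) * (P i q : G)⁻¹ := by
    intro i
    induction i with
    | zero => intro q a; simp [P]
    | succ i ih =>
      intro q a
      rw [Function.iterate_succ_apply', hPsucc]
      change ((c (q : G)) (f ((ψ q)^[i] a)) : G) = _
      simp only [c, f, MulEquiv.coe_toMonoidHom, MulAut.conjNormal_apply, coe_restrictEquiv, ih,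
        map_mul, map_inv, Subgroup.coe_mul, ← Function.iterate_succ_apply', σ]
      group
  have hσp : (⇑(σ : Q →* Q))^[p] = _root_.id :=
    funext fun q => Subtype.ext (by
      have := iterate_restrictEquiv φ Q hQi p q
      simp only [MonoidHom.coe_coe]
      exact this.trans (hpow _))
  have hψ : ∀ q, MonoidHom.FixedPointFree (ψ q) := by
    intro q a ha
    obtain ⟨y, hy⟩ := (Finite.injective_iff_surjective.1
      (fun u v huv => by
        have e : (u : Q)⁻¹ * σ u = v⁻¹ * σ v := huv
        have : σ (u * v⁻¹) = u * v⁻¹ := by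
          rw [map_mul, map_inv]
          rw [eq_inv_mul_iff_mul_eq] at e
          rw [← e]; group
        exact mul_inv_eq_one.1 (hσ _ this)) : Function.Surjective fun u : Q => u⁻¹ * σ u) q
    have hy' : (y : G)⁻¹ * φ y = q := by rw [← hy]; rfl
    have h1 : (q : G) * φ a * (q : G)⁻¹ = a := congrArg Subtype.val ha
    have h2 : φ ((y : G) * a * (y : G)⁻¹) = (y : G) * a * (y : G)⁻¹ := by
      conv_rhs => rw [← h1, ← hy']
      simp only [map_mul, map_inv]
      group
    have h3 := hφ _ h2
    exact Subtype.ext (by simpa [mul_inv_eq_one, mul_eq_left] using h3)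
  have hψp : ∀ q, (⇑(ψ q))^[p] = _root_.id := by
    intro q
    funext a
    apply Subtype.ext
    rw [hiter, hpow, show P p q = 1 from hσ.prod_pow_eq_one hσp q]
    simp
  -- the norm map
  open scoped IsMulCommutative in
  let N : M → M := fun a => ∏ q : Q, c (q : G) a
  open scoped IsMulCommutative in
  have key : ∀ a : M, a ^ Nat.card Q = N a := by
    intro a
    have hrow : ∀ q, ∏ i ∈ Finset.range p, (ψ q)^[i] a = 1 := by
      intro q
      have := (hψ q).prod_pow_eq_one (hψp q) a
      rwa [← List.prod_toFinset _ List.nodup_range, List.toFinset_range] at this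
    have hf : ∏ i ∈ Finset.range p, f^[i] a = 1 := by
      have hfp : (⇑(f : M →* M))^[p] = _root_.id := funext fun b => Subtype.ext (by
        simp only [MonoidHom.coe_coe]
        exact (iterate_restrictEquiv φ M hMi p b).trans (hpow _))
      have := (show MonoidHom.FixedPointFree (f : M →* M) from fun b hb =>
        Subtype.ext (hφ _ (congrArg Subtype.val hb))).prod_pow_eq_one hfp a
      simp only [MonoidHom.coe_coe] at this
      rwa [← List.prod_toFinset _ List.nodup_range, List.toFinset_range] at this
    have hcol : ∀ i ∈ Finset.range p, ∏ q : Q, (ψ q)^[i] a =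
        (if i = 0 then a ^ Nat.card Q * (N a)⁻¹ else 1) * N (f^[i] a) := by
      intro i hi
      rw [Finset.mem_range] at hi
      rcases Nat.eq_zero_or_pos i with rfl | hi0
      · simp [Nat.card_eq_fintype_card]
      · rw [if_neg hi0.ne', one_mul]
        have hinj : Function.Injective (P i) := by
          intro u v huv
          have hs : ∀ q, MonoidHom.FixedPointFree (σ : Q →* Q) → ∃ y : Q, y⁻¹ * σ y = q := fun q hfp =>
            H72.displace_surjective σ hfp q
          obtain ⟨y, hy⟩ := hs u hσ
          obtain ⟨z, hz⟩ := hs v hσ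
          have hP : ∀ (w q : Q), w⁻¹ * σ w = q → P i q = w⁻¹ * σ^[i] w := by
            intro w q hw
            clear hi hi0 huv
            induction i with
            | zero => simp [P]
            | succ i ih =>
              rw [hPsucc, ih, Function.iterate_succ_apply', ← hw, map_mul, map_inv]
              group
          rw [hP y u hy, hP z v hz] at huv
          have hfix : σ^[i] (y * z⁻¹) = y * z⁻¹ := by
            have e : σ^[i] y = y * z⁻¹ * σ^[i] z := by
              rw [mul_assoc y, ← huv]; group
            rw [iterate_map_mul, iterate_map_inv, e]; group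
          -- a fixed point of `σ^i` with `0 < i < p` is fixed by `σ`
          have hper : Function.IsPeriodicPt σ (Nat.gcd i p) (y * z⁻¹) :=
            Function.IsPeriodicPt.gcd hfix (congrFun hσp (y * z⁻¹))
          have hg : Nat.gcd i p = 1 :=
            (hp.coprime_iff_not_dvd.2 fun hd => absurd (Nat.le_of_dvd hi0 hd) (by omega)).symm
          rw [hg] at hper
          have : y * z⁻¹ = 1 := hσ _ hper
          rw [← hy, ← hz, mul_inv_eq_one.1 this]
        have hbij : Function.Bijective (P i) := ⟨hinj, Finite.injective_iff_surjective.1 hinj⟩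
        refine Fintype.prod_bijective (P i) hbij _ _ fun q => Subtype.ext ?_
        rw [hiter]
        simp only [c, f, MulEquiv.coe_toMonoidHom, MulAut.conjNormal_apply]
        rw [iterate_restrictEquiv]
    have htot : ∏ i ∈ Finset.range p, ∏ q : Q, (ψ q)^[i] a = 1 := by
      rw [Finset.prod_comm]; simp [hrow]
    rw [Finset.prod_congr rfl hcol, Finset.prod_mul_distrib,
      Finset.prod_ite_eq' (Finset.range p) 0, if_pos (Finset.mem_range.2 hp.pos)] at htot
    have hN : ∏ i ∈ Finset.range p, N (f^[i] a) = N (∏ i ∈ Finset.range p, f^[i] a) := by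
      simp only [N, map_prod]
      rw [Finset.prod_comm]
    rw [hN, hf, show N 1 = 1 by simp [N], mul_one] at htot
    exact mul_inv_eq_one.1 htot
  open scoped IsMulCommutative in
  have hfixed : c x (N ⟨m, hm⟩) = N ⟨m, hm⟩ := by
    simp only [N, map_prod]
    refine Fintype.prod_equiv (Equiv.mulLeft (⟨x, hx⟩ : Q)) _ _ fun q => ?_
    simp [c]
  rw [← key] at hfixed
  have h : x * m ^ Nat.card Q * x⁻¹ = m ^ Nat.card Q := by
    have := congrArg Subtype.val hfixed
    simpa [c] using this
  exact mul_inv_eq_iff_eq_mul.1 h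

theorem sylow_normal_of_isNilpotent [Finite G] [Group.IsNilpotent G] (q : ℕ) [Fact q.Prime]
    (P : Sylow q G) : (P : Subgroup G).Normal :=
  Sylow.normal_of_normalizerCondition Group.normalizerCondition_of_isNilpotent P

/-- **Thompson's theorem**, inductive form. -/
theorem isNilpotent_of_fpf (n : ℕ) {p : ℕ} (hp : p.Prime) :
    ∀ (G : Type u) [Group G] [Finite G] (φ : G ≃* G), Nat.card G = n → (∀ g, φ g = g → g = 1) →
      (∀ g, φ^[p] g = g) → Group.IsNilpotent G := by
  induction n using Nat.strong_induction_on with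
  | _ n ih =>
  intro G _ _ φ hn hfpf hpow
  have hsub : ∀ H : Subgroup G, H.map (φ : G →* G) = H → H ≠ ⊤ → Group.IsNilpotent H := by
    intro H hH hne
    refine ih (Nat.card H) ?_ H (restrictEquiv φ H hH) rfl (fun g hg => Subtype.ext ?_)
      (fun g => Subtype.ext ?_)
    · rw [← hn]
      exact lt_of_le_of_ne (Nat.le_of_dvd Nat.card_pos H.card_subgroup_dvd_card)
        (fun h => hne (Subgroup.eq_top_of_card_eq H h))
    · exact hfpf _ (congrArg Subtype.val hg)
    · exact (iterate_restrictEquiv φ H hH p g).trans (hpow g)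
  have hquot : ∀ N : Subgroup G, ∀ _ : N.Normal, N.map (φ : G →* G) = N → N ≠ ⊥ →
      Group.IsNilpotent (G ⧸ N) := by
    intro N _ hN hne
    let ψ := QuotientGroup.congr N N φ hN
    have hψ : ∀ g : G, ψ g = ((φ g : G) : G ⧸ N) := fun g => rfl
    refine ih (Nat.card (G ⧸ N)) ?_ (G ⧸ N) ψ rfl ?_ ?_
    · rw [← hn, ← Subgroup.index, ← N.index_mul_card]
      exact lt_mul_of_one_lt_right (Nat.pos_of_ne_zero N.index_ne_zero_of_finite)
        ((Subgroup.one_lt_card_iff_ne_bot N).2 hne)
    · exact H72.fpf_of_surjective (QuotientGroup.mk' N) (QuotientGroup.mk'_surjective N) φ ψ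
        (fun g => rfl) hfpf
    · intro x
      induction x using QuotientGroup.induction_on with
      | H g =>
      have : ∀ k, ψ^[k] (g : G ⧸ N) = ((φ^[k] g : G) : G ⧸ N) := fun k => by
        induction k with
        | zero => rfl
        | succ k ihk => rw [Function.iterate_succ_apply', Function.iterate_succ_apply', ihk, hψ]
      rw [this, hpow]
  by_cases hab : ∃ M : Subgroup G, M.Normal ∧ M ≠ ⊥ ∧ M.map (φ : G →* G) = M ∧
      ∀ a ∈ M, ∀ b ∈ M, a * b = b * a
  · obtain ⟨M, hMn, hM1, hMi, hMc⟩ := hab
    have hnil := hquot M hMn hMi hM1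
    have key : ∀ s : ℕ, Fact s.Prime → ∀ P : Sylow s G, (P : Subgroup G).Normal := by
      intro s _ P
      obtain ⟨Q, hQ⟩ := S0031.result φ hfpf s
      -- the preimage of the normal Sylow subgroup of the quotient
      let Qb : Sylow s (G ⧸ M) := Q.mapSurjective (QuotientGroup.mk'_surjective M)
      have hQbn : (Qb : Subgroup (G ⧸ M)).Normal := sylow_normal_of_isNilpotent s Qb
      set T : Subgroup G := (Q : Subgroup G) ⊔ M with hT
      have hTn : T.Normal := by
        have := Subgroup.Normal.comap hQbn (QuotientGroup.mk' M)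
        rw [show (Qb : Subgroup (G ⧸ M)) = (Q : Subgroup G).map (QuotientGroup.mk' M) from rfl,
          Subgroup.comap_map_eq, QuotientGroup.ker_mk'] at this
        exact this
      obtain ⟨a, ha⟩ := Q.2.exists_card_eq
      have hMQ : M ≤ normalizer ((Q : Subgroup G) : Set G) := by
        intro m hm
        set e := (Nat.card G).factorization s with he
        -- split `m` into its `s`-part and `s'`-part
        obtain ⟨u, v, huv⟩ : IsCoprime ((s ^ a : ℕ) : ℤ) ((orderOf m / s ^ ((orderOf m).factorization s) : ℕ) : ℤ) := by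
          rw [Int.isCoprime_iff_nat_coprime]
          exact Nat.Coprime.pow_left a (Nat.coprime_ordCompl Fact.out (orderOf_pos m).ne')
        set n' := orderOf m / s ^ ((orderOf m).factorization s) with hn'
        have h1 : m ^ (s ^ a) ∈ normalizer ((Q : Subgroup G) : Set G) := by
          refine Subgroup.mem_normalizer_iff.2 fun y => ?_
          have hc : ∀ z ∈ (Q : Subgroup G), m ^ (s ^ a) * z * (m ^ (s ^ a))⁻¹ = z := fun z hz => by
            have := pow_card_commute φ hfpf hp hpow Q M hMn hMc hMi hQ hm hz
            rw [ha] at this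
            rw [← this, mul_inv_cancel_right]
          constructor
          · exact fun hy => (hc y hy).symm ▸ hy
          · intro hy
            have := hc _ hy
            have e : y = m ^ (s ^ a) * y * (m ^ (s ^ a))⁻¹ := by
              have h2 := congrArg (fun z => (m ^ (s ^ a))⁻¹ * z * m ^ (s ^ a)) this
              simpa [mul_assoc] using h2.symm
            exact e ▸ hy
        have h2 : m ^ n' ∈ normalizer ((Q : Subgroup G) : Set G) := by
          refine Subgroup.le_normalizer ?_
          let S : Subgroup G :=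
            { carrier := {x | x ∈ M ∧ x ^ (s ^ e) = 1}
              one_mem' := ⟨M.one_mem, one_pow _⟩
              mul_mem' := fun {x y} hx hy => ⟨M.mul_mem hx.1 hy.1, by
                rw [(show Commute x y from hMc x hx.1 y hy.1).mul_pow, hx.2, hy.2, one_mul]⟩
              inv_mem' := fun {x} hx => ⟨M.inv_mem hx.1, by rw [inv_pow, hx.2, inv_one]⟩ }
          have : S.Normal := ⟨fun x hx g => ⟨hMn.conj_mem x hx.1 g, by rw [conj_pow, hx.2]; simp⟩⟩
          have hS : IsPGroup s S := fun x => ⟨e, Subtype.ext x.2.2⟩
          have hle : S ≤ (Q : Subgroup G) :=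
            le_trans le_sup_right (Q.3 (Q.2.to_sup_of_normal_right hS) le_sup_left).le
          refine hle ⟨M.pow_mem hm _, ?_⟩
          rw [← pow_mul, ← orderOf_dvd_iff_pow_eq_one]
          have hd : s ^ ((orderOf m).factorization s) ∣ s ^ e :=
            pow_dvd_pow _ ((Nat.factorization_le_iff_dvd (orderOf_pos m).ne'
              Nat.card_pos.ne').2 (orderOf_dvd_natCard m) s)
          exact (Nat.ordProj_mul_ordCompl_eq_self (orderOf m) s).symm.dvd.trans
            (by rw [mul_comm _ (s ^ e)]; exact mul_dvd_mul_right hd _)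
        have : m = (m ^ (s ^ a)) ^ u * (m ^ n') ^ v := by
          rw [← zpow_natCast m (s ^ a), ← zpow_natCast m n', ← zpow_mul, ← zpow_mul, ← zpow_add,
            mul_comm _ u, mul_comm _ v, huv, zpow_one]
        rw [this]
        exact Subgroup.mul_mem _ (Subgroup.zpow_mem _ h1 u) (Subgroup.zpow_mem _ h2 v)
      have hQT : ((Q : Subgroup G).subgroupOf T).Normal :=
        (Subgroup.normal_subgroupOf_iff_le_normalizer le_sup_left).2
          (sup_le Subgroup.le_normalizer hMQ)
      -- Frattini
      have hQn : (Q : Subgroup G).Normal := by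
        have := hTn
        let Q' : Sylow s T := Q.subtype le_sup_left
        have hQ'n : (Q' : Subgroup T).Normal := hQT
        have hfr := Sylow.normalizer_sup_eq_top Q'
        have hmap : (Q' : Subgroup T).map T.subtype = (Q : Subgroup G) :=
          Subgroup.map_subgroupOf_eq_of_le le_sup_left
        rw [hmap, sup_eq_left.2 (sup_le Subgroup.le_normalizer hMQ)] at hfr
        exact Subgroup.normalizer_eq_top_iff.1 hfr
      have := Sylow.unique_of_normal Q hQn
      rwa [Subsingleton.elim P Q]
    exact ((Group.isNilpotent_of_finite_tfae (G := G)).out 0 3).2 key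
  -- no invariant abelian normal subgroup
  push Not at hab
  have hnoab : ∀ M : Subgroup G, M.Normal → M.map (φ : G →* G) = M →
      (∀ a ∈ M, ∀ b ∈ M, a * b = b * a) → M = ⊥ := fun M h1 h2 h3 => by
    by_contra h
    obtain ⟨a, ha, b, hb, hne⟩ := hab M h1 h h2
    exact hne (h3 a ha b hb)
  have hnonil : ∀ N : Subgroup G, N.Normal → N.map (φ : G →* G) = N → Group.IsNilpotent N →
      N = ⊥ := by
    intro N hN hNi hNn
    by_contra hne
    have hc := hnoab (N ⊓ centralizer (N : Set G)) inferInstance (map_inf_centralizer φ hNi)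
      (fun a ha b hb => (ha.2 b hb.1).symm)
    have : Nontrivial N := (Subgroup.nontrivial_iff_ne_bot N).2 hne
    have : Nontrivial (Subgroup.center N) :=
      (Subgroup.nontrivial_iff_ne_bot _).2 (Group.IsNilpotent.center_ne_bot N)
    obtain ⟨⟨z, hz⟩, hz1⟩ := exists_ne (1 : Subgroup.center N)
    refine hz1 (Subtype.ext (Subtype.ext ?_))
    have hmem : (z : G) ∈ N ⊓ centralizer (N : Set G) :=
      ⟨z.2, fun y hy => congrArg Subtype.val ((Subgroup.mem_center_iff.1 hz) ⟨y, hy⟩)⟩
    rw [hc, Subgroup.mem_bot] at hmem
    simpa using hmem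
  rcases (Nat.card G).primeFactors.eq_empty_or_nonempty with h0 | hne
  · have : Nat.card G = 1 := by
      rcases Nat.primeFactors_eq_empty.1 h0 with h | h
      · exact absurd h Nat.card_pos.ne'
      · exact h
    have := (Nat.card_eq_one_iff_unique.1 this).1
    infer_instance
  by_cases h2 : ∀ q ∈ (Nat.card G).primeFactors, q = 2
  · have : Fact (Nat.Prime 2) := ⟨Nat.prime_two⟩
    exact (IsPGroup.of_card (n := (Nat.card G).primeFactorsList.length) (p := 2)
      (Nat.eq_prime_pow_of_unique_prime_dvd Nat.card_pos.ne' fun {d} hd hdd =>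
        h2 d (Nat.mem_primeFactors.2 ⟨hd, hdd, Nat.card_pos.ne'⟩))).isNilpotent
  push Not at h2
  obtain ⟨q, hq, hq2⟩ := h2
  obtain ⟨hqp, hqd, -⟩ := Nat.mem_primeFactors.1 hq
  have := Fact.mk hqp
  obtain ⟨P, hP⟩ := S0031.result φ hfpf q
  have hPne : (P : Subgroup G) ≠ ⊥ := P.ne_bot_of_dvd_card hqd
  have hcompl : ∀ X : Subgroup G, X.map (φ : G →* G) = X → X ≠ ⊤ →
      HasNormalPComplement q X := fun X hX hne => by
    have := hsub X hX hne
    exact Fusion.hasNormalPComplement_of_isNilpotent
  have hGc : HasNormalPComplement q G := by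
    refine S2800.result P (Or.inl hq2) (hcompl _ (map_centralizer' φ (map_inf_centralizer φ hP)) ?_)
      (hcompl _ (map_normalizer' φ (by
        rw [← H59.thompsonAOf_map (φ : G →* G) _ φ.injective.injOn, hP])) ?_)
    · intro htop
      have : Nontrivial (P : Subgroup G) := (Subgroup.nontrivial_iff_ne_bot _).2 hPne
      have hbot := hnoab ((P : Subgroup G) ⊓ centralizer ((P : Subgroup G) : Set G))
        ⟨fun x hx g => by
          have hg : g ∈ centralizer (((P : Subgroup G) ⊓ centralizer ((P : Subgroup G) : Set G) :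
              Subgroup G) : Set G) := htop ▸ Subgroup.mem_top g
          have e : g * x * g⁻¹ = x := by rw [← hg x hx, mul_inv_cancel_right]
          exact e.symm ▸ hx⟩
        (map_inf_centralizer φ hP) (fun a ha b hb => (ha.2 b hb.1).symm)
      have := P.2.center_nontrivial
      obtain ⟨⟨z, hz⟩, hz1⟩ := exists_ne (1 : Subgroup.center (P : Subgroup G))
      refine hz1 (Subtype.ext (Subtype.ext ?_))
      have hmem : (z : G) ∈ (P : Subgroup G) ⊓ centralizer ((P : Subgroup G) : Set G) :=
        ⟨z.2, fun y hy => congrArg Subtype.val ((Subgroup.mem_center_iff.1 hz) ⟨y, hy⟩)⟩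
      rw [hbot, Subgroup.mem_bot] at hmem
      simpa using hmem
    · intro htop
      refine H59.thompsonAOf_ne_bot hPne (hnonil _ (Subgroup.normalizer_eq_top_iff.1 htop)
        (by rw [← H59.thompsonAOf_map (φ : G →* G) _ φ.injective.injOn, hP]) ?_)
      exact (P.2.to_le (H59.thompsonAOf_le _)).isNilpotent
  obtain ⟨S, N, hNn, hNS⟩ := hGc
  have hNq : ¬ q ∣ Nat.card N := Fusion.not_dvd_card_of_isComplement' S hNS
  have hNeq : N = pResidual q G :=
    Fusion.eq_pResidual hNq (Fusion.isPGroup_quotient_of_isComplement' S hNS)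
  have hNi : N.map (φ : G →* G) = N := by
    rw [hNeq]
    exact Fusion.map_pResidual_of_surjective (φ : G →* G) φ.surjective
  have hNtop : N ≠ ⊤ := fun h => hNq (by rw [h, Subgroup.card_top]; exact hqd)
  have hN1 : N = ⊥ := hnonil N hNn hNi (hsub N hNi hNtop)
  have hStop : (S : Subgroup G) = ⊤ := by
    apply Subgroup.eq_top_of_card_eq
    rw [← hNS.card_mul_card, hN1, Subgroup.card_bot, one_mul]
  have : IsPGroup q G := fun g => by
    obtain ⟨k, hk⟩ := S.2 ⟨g, hStop ▸ Subgroup.mem_top g⟩
    exact ⟨k, congrArg Subtype.val hk⟩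
  exact this.isNilpotent

end Cfsg.Agent.Frobenius
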