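import Cfsg.Agent.Frobenius.Structure
import Cfsg.Agent.Frobenius.FPFAut

/-!
# The Frobenius kernel is nilpotent
-/

set_option autoImplicit false

namespace Cfsg.Agent.Frobenius

open Subgroup

variable {G : Type*} [Group G] [Finite G] {H : Subgroup G}

/-- A normal subgroup on which some element of prime order acts without fixed points is
nilpotent. -/
theorem isNilpotent_of_centralizer {K : Subgroup G} [K.Normal] {p : ℕ} (hp : p.Prime) {h : G}
    (hord : h ^ p = 1) (hfix : ∀ k ∈ K, h * k = k * h → k = 1) : Group.IsNilpotent K := by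
  refine isNilpotent_of_fpf _ hp K (MulAut.conjNormal h : MulAut K) rfl (fun k hk => ?_) fun k => ?_
  · have e : h * (k : G) * h⁻¹ = k := by simpa using congrArg Subtype.val hk
    exact Subtype.ext (hfix k k.2 (mul_inv_eq_iff_eq_mul.1 e))
  · have hit : ∀ j, ((⇑(MulAut.conjNormal h : MulAut K))^[j] k : G) = h ^ j * k * (h ^ j)⁻¹ := by
      intro j
      induction j with
      | zero => simp
      | succ j ih => rw [Function.iterate_succ_apply', MulAut.conjNormal_apply, ih, pow_succ']; group
    exact Subtype.ext (by rw [hit, hord]; simp)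

theorem kernel_isNilpotent (hH : IsFrobeniusComplement H) : Group.IsNilpotent (kernel hH) := by
  have := kernel_normal hH
  obtain ⟨p, hp, hpd⟩ := Nat.exists_prime_and_dvd (one_lt_card hH).ne'
  have := Fact.mk hp
  obtain ⟨h, hh⟩ := exists_prime_orderOf_dvd_card' (G := H) p hpd
  refine isNilpotent_of_centralizer hp (h := (h : G)) ?_ fun k hk hcom => ?_
  · rw [← Subgroup.coe_pow, ← hh, pow_orderOf_eq_one, Subgroup.coe_one]
  · refine fixedPointFree hH (kernel_isComplement hH) h.2 (fun e => ?_) hk hcom
    rw [show h = 1 from Subtype.ext e, orderOf_one] at hh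
    exact hp.one_lt.ne hh

end Cfsg.Agent.Frobenius
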