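import Cfsg.Agent.Frobenius.Basic

/-!
# Frobenius actions, subgroups of complement order, complements of even order
-/

set_option autoImplicit false

namespace Cfsg.Agent.Frobenius

open Subgroup Pointwise

section Action

variable {L X : Type*} [Group L] [MulAction L X]

theorem stabilizer_isFrobeniusComplement
    (hfix : ∀ g : L, g ≠ 1 → ∀ a b : X, g • a = a → g • b = b → a = b) (a : X)
    (h1 : MulAction.stabilizer L a ≠ ⊥) (h2 : MulAction.stabilizer L a ≠ ⊤) :
    IsFrobeniusComplement (MulAction.stabilizer L a) := by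
  refine isFrobeniusComplement_of h1 h2 fun g x hx hx1 hgx => ?_
  rw [MulAction.mem_stabilizer_iff] at hx hgx ⊢
  rw [mul_assoc, mul_smul, inv_smul_eq_iff, mul_smul] at hgx
  exact hfix x hx1 _ _ hgx hx

theorem notMem_kernel_stabilizer {a : X} {g : L}
    (hg : g ∉ frobeniusKernel (MulAction.stabilizer L a)) :
    ∃ c : L, g • (c • a) = c • a := by
  obtain ⟨-, q, hq⟩ := (notMem_kernel_iff _ g).1 hg
  induction q using QuotientGroup.induction_on with
  | H c =>
  rw [smul_coset_eq_iff, MulAction.mem_stabilizer_iff, mul_assoc, mul_smul, inv_smul_eq_iff,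
    mul_smul] at hq
  exact ⟨c, hq⟩

theorem kernel_stabilizer_eq (htrans : ∀ a b : X, ∃ g : L, g • a = b) (a : X) :
    frobeniusKernel (MulAction.stabilizer L a) = {g : L | g = 1 ∨ ∀ w : X, g • w ≠ w} := by
  ext g
  constructor
  · intro hg
    refine hg.imp id fun h w hw => ?_
    obtain ⟨c, rfl⟩ := htrans a w
    apply h c
    rw [mem_conj_iff, MulAction.mem_stabilizer_iff, mul_assoc, mul_smul, inv_smul_eq_iff, mul_smul]
    exact hw
  · intro hg
    by_contra h
    obtain ⟨c, hc⟩ := notMem_kernel_stabilizer h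
    rcases hg with rfl | hg
    · exact h (one_mem_kernel _)
    · exact hg _ hc

/-- If every non-identity element fixes exactly one point then there is a common fixed point. -/
theorem exists_fixed_point [Finite L] [Nontrivial L]
    (hfix : ∀ g : L, g ≠ 1 → ∀ a b : X, g • a = a → g • b = b → a = b)
    (hex : ∀ g : L, g ≠ 1 → ∃ a : X, g • a = a) : ∃ a : X, ∀ g : L, g • a = a := by
  by_contra hcon
  push Not at hcon
  have htop : ∀ a : X, MulAction.stabilizer L a ≠ ⊤ := by
    intro a h
    obtain ⟨g, hg⟩ := hcon a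
    exact hg (MulAction.mem_stabilizer_iff.1 (h ▸ Subgroup.mem_top g))
  have hne : ∀ (g : L) (a : X), g ≠ 1 → g • a = a → MulAction.stabilizer L a ≠ ⊥ := by
    intro g a hg ha h
    have : g ∈ MulAction.stabilizer L a := ha
    rw [h] at this
    exact hg this
  obtain ⟨g, hg⟩ := exists_ne (1 : L)
  obtain ⟨a, ha⟩ := hex g hg
  have hA := stabilizer_isFrobeniusComplement hfix a (hne g a hg ha) (htop a)
  set A := MulAction.stabilizer L a with hAdef
  obtain ⟨y, hyA, hy1⟩ := Set.exists_ne_of_one_lt_ncard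
    (s := frobeniusKernel A) (by rw [← Nat.card_coe_set_eq, card_kernel hA]; exact one_lt_index hA) 1
  obtain ⟨b, hb⟩ := hex y hy1
  have hB := stabilizer_isFrobeniusComplement hfix b (hne y b hy1 hb) (htop b)
  set B := MulAction.stabilizer L b with hBdef
  have horb : ∀ c : L, c • a ≠ b := by
    intro c hc
    subst hc
    rcases hyA with h | h
    · exact hy1 h
    · refine h c ?_
      rw [mem_conj_iff, hAdef, MulAction.mem_stabilizer_iff, mul_assoc, mul_smul, inv_smul_eq_iff,
        mul_smul]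
      exact hb
  have hsub : (frobeniusKernel A)ᶜ ⊆ frobeniusKernel B \ {1} := by
    intro z hz
    obtain ⟨hz1, -⟩ := (notMem_kernel_iff A z).1 hz
    refine ⟨?_, hz1⟩
    by_contra hzB
    obtain ⟨c, hc⟩ := notMem_kernel_stabilizer hz
    obtain ⟨d, hd⟩ := notMem_kernel_stabilizer hzB
    have := hfix z hz1 _ _ hc hd
    exact horb (d⁻¹ * c) (by rw [mul_smul, this, inv_smul_smul])
  have h1 := Set.ncard_le_ncard hsub
  rw [Set.ncard_sdiff_singleton_of_mem (one_mem_kernel B), ← Nat.card_coe_set_eq,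
    ← Nat.card_coe_set_eq, card_kernel hB] at h1
  have h2 : Nat.card (frobeniusKernel A) + Nat.card ↥(frobeniusKernel A)ᶜ = Nat.card L := by
    rw [Nat.card_coe_set_eq, Nat.card_coe_set_eq, Set.ncard_add_ncard_compl]
  rw [card_kernel hA] at h2
  have hA2 : 2 * A.index ≤ Nat.card L := by
    rw [← A.index_mul_card, mul_comm 2]
    exact Nat.mul_le_mul_left _ (one_lt_card hA)
  have hB2 : 2 * B.index ≤ Nat.card L := by
    rw [← B.index_mul_card, mul_comm 2]
    exact Nat.mul_le_mul_left _ (one_lt_card hB)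
  have := one_lt_index hB
  omega

end Action

variable {G : Type*} [Group G] {H : Subgroup G} [Finite G]

/-- The order of a kernel element divides the index. -/
theorem orderOf_dvd_index (hH : IsFrobeniusComplement H) {x : G} (hx : x ∈ frobeniusKernel H) :
    orderOf x ∣ H.index := by
  rcases eq_or_ne x 1 with rfl | hx1
  · simp
  rw [← Nat.card_zpowers, Subgroup.index]
  refine dvd_card_of_free (Subgroup.zpowers x) (X := G ⧸ H) fun k a hka => ?_
  by_contra hk
  have hk' : (k : G) ≠ 1 := fun h => hk (Subtype.ext h)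
  have hka' : (k : G) • a = a := hka
  obtain ⟨i, hi⟩ := Subgroup.mem_zpowers_iff.1 k.2
  have hxa : x • a = a := by
    refine fixed_unique hH hk' ?_ hka'
    rw [← mul_smul, ← hi, ← zpow_add_one, add_comm, zpow_one_add, mul_smul, hi, hka']
  exact ((mem_kernel_iff H x).1 hx).resolve_left hx1 a hxa

theorem exists_conj_ge_of_card_dvd (hH : IsFrobeniusComplement H) (L : Subgroup G)
    (hL : Nat.card L ∣ Nat.card H) : ∃ x : G, L ≤ MulAut.conj x • H := by
  rcases eq_or_ne L ⊥ with rfl | hne
  · exact ⟨1, bot_le⟩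
  have : Nontrivial L := (Subgroup.nontrivial_iff_ne_bot L).2 hne
  obtain ⟨a, ha⟩ := exists_fixed_point (L := L) (X := G ⧸ H)
    (fun g hg a b => fixed_unique hH (g := (g : G)) (fun h => hg (Subtype.ext h)))
    (fun g hg => by
      have : (g : G) ∉ frobeniusKernel H := by
        intro h
        have h1 := orderOf_dvd_index hH h
        have h2 : orderOf (g : G) ∣ Nat.card H := by
          rw [Subgroup.orderOf_coe]; exact (orderOf_dvd_natCard g).trans hL
        have := (coprime_card_index hH).coprime_dvd_left h2 |>.coprime_dvd_right h1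
        rw [Nat.coprime_self, orderOf_eq_one_iff] at this
        exact hg (Subtype.ext this)
      obtain ⟨-, a, ha⟩ := (notMem_kernel_iff H _).1 this
      exact ⟨a, ha⟩)
  induction a using QuotientGroup.induction_on with
  | H a =>
  exact ⟨a, fun g hg => (mem_conj_iff H a g).2 ((smul_coset_eq_iff H g a).1 (ha ⟨g, hg⟩))⟩

section Involution

variable {t : G}

/-- Elementary involution argument. -/
theorem kernel_of_involution (hH : IsFrobeniusComplement H) (ht : t ∈ H) (ht1 : t ≠ 1)
    (ht2 : t * t = 1) :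
    (∀ x ∈ frobeniusKernel H, ∀ y ∈ frobeniusKernel H, x * y ∈ frobeniusKernel H) ∧
    (∀ x ∈ frobeniusKernel H, t * x * t⁻¹ = x⁻¹) ∧
    ∀ x ∈ frobeniusKernel H, ∀ y ∈ frobeniusKernel H, x * y = y * x := by
  let u : G ⧸ H → G := fun a => a.out * t * a.out⁻¹
  have u1 : ∀ a, u a ≠ 1 := fun a h => ht1 (by simpa [u, mul_inv_eq_one] using h)
  have u2 : ∀ a, u a * u a = 1 := fun a => by
    have e : t * (t * a.out⁻¹) = a.out⁻¹ := by rw [← mul_assoc, ht2, one_mul]
    simp [u, mul_assoc, e]
  have ufix : ∀ a, u a • a = a := fun a => by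
    conv_rhs => rw [← a.out_eq]
    conv_lhs => arg 2; rw [← a.out_eq]
    refine (smul_coset_eq_iff H _ _).2 ?_
    simpa [u, mul_assoc] using ht
  have uinj : Function.Injective u := fun a b h =>
    fixed_unique hH (u1 a) (ufix a) (h ▸ ufix b)
  have umem : ∀ a b, u a * u b ∈ frobeniusKernel H := by
    intro a b
    rw [mem_kernel_iff]
    by_cases h1 : u a * u b = 1
    · exact Or.inl h1
    refine Or.inr fun c hc => h1 ?_
    have hinvol : ∀ d, u d • u d • c = c := fun d => by rw [← mul_smul, u2, one_smul]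
    have hba : (u b * u a) • c = c := by
      have : (u a * u b)⁻¹ = u b * u a := by
        rw [mul_inv_rev, inv_eq_of_mul_eq_one_right (u2 a), inv_eq_of_mul_eq_one_right (u2 b)]
      rw [← this, inv_smul_eq_iff, hc]
    have hac : u a • c = c := by
      refine fixed_unique hH h1 ?_ hc
      rw [← mul_smul, show u a * u b * u a = u a * (u b * u a) from mul_assoc _ _ _, mul_smul, hba]
    have hbc : u b • c = c := by
      have := hc
      rwa [mul_smul, ← eq_inv_smul_iff, inv_eq_of_mul_eq_one_right (u2 a), hac] at this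
    have ea := fixed_unique hH (u1 a) (ufix a) hac
    have eb := fixed_unique hH (u1 b) (ufix b) hbc
    rw [ea, ← eb, u2]
  have hsurj : ∀ a, ∀ x ∈ frobeniusKernel H, ∃ b, x = u a * u b := by
    intro a x hx
    have hi : Function.Injective (fun b => (⟨u a * u b, umem a b⟩ : frobeniusKernel H)) :=
      fun b c h => uinj (mul_left_cancel (congrArg Subtype.val h))
    obtain ⟨b, hb⟩ := (hi.bijective_of_nat_card_le
      (le_of_eq (by rw [card_kernel hH]; rfl))).2 ⟨x, hx⟩
    exact ⟨b, (congrArg Subtype.val hb).symm⟩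
  have hmul : ∀ x ∈ frobeniusKernel H, ∀ y ∈ frobeniusKernel H, x * y ∈ frobeniusKernel H := by
    intro x hx y hy
    obtain ⟨b, rfl⟩ := hsurj ((1 : G) : G ⧸ H) x hx
    obtain ⟨c, rfl⟩ := hsurj b y hy
    rw [mul_assoc, ← mul_assoc (u b), u2, one_mul]
    exact umem _ _
  have key : ∀ x ∈ frobeniusKernel H, t * x * t⁻¹ = x⁻¹ := by
    intro x hx
    obtain ⟨h, hh, hh'⟩ : ∃ h ∈ H, (((1 : G) : G ⧸ H)).out = h :=
      ⟨_, by
        have := QuotientGroup.eq.1 (QuotientGroup.out_eq' ((1 : G) : G ⧸ H))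
        simpa using this, rfl⟩
    have hu : ∀ z ∈ frobeniusKernel H, (h * t * h⁻¹) * z * (h * t * h⁻¹)⁻¹ = z⁻¹ := by
      intro z hz
      obtain ⟨b, rfl⟩ := hsurj ((1 : G) : G ⧸ H) z hz
      have e : h * t * h⁻¹ = u ((1 : G) : G ⧸ H) := by simp only [u, hh']
      rw [e, inv_eq_of_mul_eq_one_right (u2 _), ← mul_assoc (u _), u2, one_mul,
        eq_inv_iff_mul_eq_one, mul_assoc, ← mul_assoc (u ((1 : G) : G ⧸ H)), u2, one_mul, u2]
    have := hu (h * x * h⁻¹) (kernel_conj H hx h)
    rw [show h * t * h⁻¹ * (h * x * h⁻¹) * (h * t * h⁻¹)⁻¹ = h * (t * x * t⁻¹) * h⁻¹ by group,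
      show (h * x * h⁻¹)⁻¹ = h * x⁻¹ * h⁻¹ by group] at this
    exact mul_left_cancel (mul_right_cancel this)
  refine ⟨hmul, key, fun x hx y hy => ?_⟩
  have h := key _ (hmul x hx y hy)
  rw [show t * (x * y) * t⁻¹ = (t * x * t⁻¹) * (t * y * t⁻¹) by group, key x hx, key y hy,
    ← mul_inv_rev, inv_inj] at h
  exact h.symm

end Involution

end Cfsg.Agent.Frobenius
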