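import Cfsg.Agent.Frobenius.Structure
import Cfsg.Agent.S0016

/-!
# Sylow subgroups of Frobenius complements
-/

set_option autoImplicit false

namespace Cfsg.Agent.Frobenius

open Subgroup Pointwise

variable {G : Type*} [Group G] [Finite G] {H : Subgroup G}

/-- A `p`-subgroup of a Frobenius complement has only one subgroup of order `p`. -/
theorem unique_card_eq_prime (hH : IsFrobeniusComplement H) {p : ℕ} [hp : Fact p.Prime]
    {P : Subgroup G} (hPH : P ≤ H) (hP : IsPGroup p P) (A B : Subgroup P) (hA : Nat.card A = p)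
    (hB : Nat.card B = p) : A = B := by
  have : Nontrivial P := by
    by_contra hn
    rw [not_nontrivial_iff_subsingleton] at hn
    have : Nat.card A = 1 := Nat.card_unique
    exact hp.out.one_lt.ne' (hA.symm.trans this)
  have := hP.center_nontrivial
  obtain ⟨z, hz⟩ := exists_prime_orderOf_dvd_card' (G := Subgroup.center P) p (by
    obtain ⟨k, hk⟩ := (hP.to_subgroup (Subgroup.center P)).exists_card_eq
    rw [hk]
    refine dvd_pow_self p ?_
    rintro rfl
    exact (Finite.one_lt_card (α := Subgroup.center P)).ne' (by rw [hk, pow_zero]))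
  set Z : Subgroup P := Subgroup.zpowers (z : P) with hZ
  have hZcard : Nat.card Z = p := by rw [hZ, Nat.card_zpowers, Subgroup.orderOf_coe, hz]
  have hZc : Z ≤ Subgroup.center P := Subgroup.zpowers_le.2 z.2
  have : Z.Normal := ⟨fun x hx g => by rwa [Subgroup.mem_center_iff.1 (hZc hx) g, mul_inv_cancel_right]⟩
  suffices key : ∀ C : Subgroup P, Nat.card C = p → C = Z from (key A hA).trans (key B hB).symm
  intro C hC
  by_contra hne
  have hdis : Disjoint Z C := by
    rw [disjoint_iff]
    by_contra hbot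
    have h1 : ∀ D : Subgroup P, Nat.card D = p → Z ⊓ C ≤ D → Z ⊓ C = D := by
      intro D hD hle
      refine Subgroup.eq_of_le_of_card_ge hle ?_
      rcases (Nat.dvd_prime hp.out).1 (hD ▸ Subgroup.card_dvd_of_le hle) with h | h
      · exact absurd (Subgroup.eq_bot_of_card_eq _ h) hbot
      · rw [hD, h]
    exact hne ((h1 C hC inf_le_right).symm.trans (h1 Z hZcard inf_le_left))
  have hcard : Nat.card ↥(Z ⊔ C) = p ^ 2 := by
    have e : ((Z ⊔ C : Subgroup P) : Set P) = (Z : Set P) * (C : Set P) := Subgroup.normal_mul Z C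
    have h1 : Nat.card ((Z ⊔ C : Subgroup P) : Set P) = Nat.card (Z × C) := by
      refine (Nat.card_eq_of_bijective
        (fun x : Z × C => (⟨(x.1 : P) * x.2, e ▸ Set.mul_mem_mul x.1.2 x.2.2⟩ :
          ((Z ⊔ C : Subgroup P) : Set P))) ⟨fun x y h => ?_, fun y => ?_⟩).symm
      · exact Subgroup.mul_injective_of_disjoint hdis (congrArg Subtype.val h)
      · have hy : (y : P) ∈ (Z : Set P) * (C : Set P) := by rw [← e]; exact y.2
        obtain ⟨a, ha, b, hb, hab⟩ := Set.mem_mul.1 hy
        exact ⟨(⟨a, ha⟩, ⟨b, hb⟩), Subtype.ext hab⟩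
    rw [Nat.card_prod, hZcard, hC, ← sq] at h1
    exact h1
  have hle : (Z ⊔ C).map P.subtype ≤ H := (Subgroup.map_subtype_le _).trans hPH
  have hcyc : IsCyclic (Z ⊔ C : Subgroup P) :=
    (Subgroup.equivMapOfInjective _ _ P.subtype_injective).isCyclic.2
      (isCyclic_of_card_sq_le hH hle p
        (by rw [Subgroup.card_map_of_injective P.subtype_injective, hcard]))
  have huniq : Z.subgroupOf (Z ⊔ C) = C.subgroupOf (Z ⊔ C) := by
    classical
    cases nonempty_fintype (Z ⊔ C : Subgroup P)
    have hmax := IsCyclic.card_pow_eq_one_le (α := (Z ⊔ C : Subgroup P)) hp.out.pos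
    have hroot : ∀ D : Subgroup P, D ≤ Z ⊔ C → Nat.card D = p → ∀ x : (Z ⊔ C : Subgroup P),
        x ∈ D.subgroupOf (Z ⊔ C) ↔ x ^ p = 1 := by
      intro D hD hDc x
      have hsub : ((D.subgroupOf (Z ⊔ C) : Set (Z ⊔ C : Subgroup P))) ⊆
          {x : (Z ⊔ C : Subgroup P) | x ^ p = 1} := fun y hy => by
        have := pow_card_eq_one' (x := (⟨y, hy⟩ : D.subgroupOf (Z ⊔ C)))
        rw [Nat.card_congr (Subgroup.subgroupOfEquivOfLe hD).toEquiv, hDc] at this
        exact congrArg Subtype.val this
      have := Set.eq_of_subset_of_ncard_le hsub (by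
        rw [← Nat.card_coe_set_eq (D.subgroupOf (Z ⊔ C) : Set (Z ⊔ C : Subgroup P))]
        change _ ≤ Nat.card (D.subgroupOf (Z ⊔ C))
        rw [Nat.card_congr (Subgroup.subgroupOfEquivOfLe hD).toEquiv, hDc,
          Set.ncard_eq_toFinset_card', Set.toFinset_ofFinset]
        exact hmax)
      exact Set.ext_iff.1 this x
    ext x
    rw [hroot Z le_sup_left hZcard, hroot C le_sup_right hC]
  rw [Subgroup.subgroupOf_inj, inf_eq_left.2 le_sup_left, inf_eq_left.2 le_sup_right] at huniq
  exact hne huniq.symm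

/-- Sylow subgroups of a Frobenius complement are cyclic or generalised quaternion. -/
theorem sylow_cyclic_or_quaternion (hH : IsFrobeniusComplement H) (p : ℕ) [Fact p.Prime]
    (P : Sylow p H) :
    IsCyclic P ∨ (p = 2 ∧ ∃ n : ℕ, Nonempty (P ≃* QuaternionGroup (2 ^ n))) := by
  let e : (P : Subgroup H) ≃* (P : Subgroup H).map H.subtype :=
    Subgroup.equivMapOfInjective _ _ H.subtype_injective
  have hu := unique_card_eq_prime hH (Subgroup.map_subtype_le (P : Subgroup H)) (P.2.map H.subtype)
  exact Cfsg.Agent.S0016.result p P.2 fun A B hA hB => by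
    have := hu (A.map e.toMonoidHom) (B.map e.toMonoidHom)
      (by rw [Subgroup.card_map_of_injective e.injective, hA])
      (by rw [Subgroup.card_map_of_injective e.injective, hB])
    exact Subgroup.map_injective e.injective this

end Cfsg.Agent.Frobenius
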