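import Cfsg.Agent.Frobenius.Nilpotent
import Cfsg.Agent.Frobenius.Sylow
import Cfsg.Agent.Frobenius.Action
import Mathlib.GroupTheory.SpecificGroups.ZGroup
import Mathlib.GroupTheory.Solvable
import Mathlib.GroupTheory.Nilpotent

/-!
# Basic structure of 2-Frobenius groups and auxiliary facts on Frobenius groups
-/

set_option autoImplicit false

namespace Cfsg.Agent.Frobenius

open Subgroup

universe u v

variable {G : Type u} [Group G] [Finite G] {H : Subgroup G}

/-- An element commuting with a non-identity kernel element lies in the kernel. -/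
theorem mem_kernel_of_commute (hH : IsFrobeniusComplement H) {x g : G} (hx : x ∈ kernel hH)
    (hx1 : x ≠ 1) (hc : g * x = x * g) : g ∈ kernel hH := by
  by_contra hg
  rw [mem_kernel] at hg
  obtain ⟨hg1, a, ha⟩ := (notMem_kernel_iff H g).1 hg
  induction a using QuotientGroup.induction_on with
  | H a =>
  rw [smul_coset_eq_iff] at ha
  haveI := kernel_normal hH
  have hxa : a⁻¹ * x * a ∈ kernel hH := by
    simpa using Subgroup.Normal.conj_mem inferInstance x hx a⁻¹
  have := fixedPointFree hH (kernel_isComplement hH) ha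
    (fun e => hg1 (by simpa [mul_assoc, inv_mul_eq_one] using e)) hxa (by
      calc a⁻¹ * g * a * (a⁻¹ * x * a) = a⁻¹ * (g * x) * a := by group
        _ = a⁻¹ * (x * g) * a := by rw [hc]
        _ = a⁻¹ * x * a * (a⁻¹ * g * a) := by group)
  exact hx1 (by simpa [mul_assoc, inv_mul_eq_one] using this)

/-- A Frobenius complement has at most one involution. -/
theorem involution_unique (hH : IsFrobeniusComplement H) {s t : G} (hs : s ∈ H) (hs1 : s ≠ 1)
    (hs2 : s * s = 1) (ht : t ∈ H) (ht1 : t ≠ 1) (ht2 : t * t = 1) : s = t := by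
  obtain ⟨-, hsi, -⟩ := kernel_of_involution hH hs hs1 hs2
  obtain ⟨-, hti, -⟩ := kernel_of_involution hH ht ht1 ht2
  obtain ⟨x, hx, hx1⟩ := (Subgroup.ne_bot_iff_exists_ne_one.1 (kernel_ne_bot hH)).elim
    fun x hx => (⟨x.1, x.2, fun e => hx (Subtype.ext e)⟩ : ∃ y, y ∈ kernel hH ∧ y ≠ 1)
  by_contra hne
  have hst : t⁻¹ * s ≠ 1 := fun e => hne (inv_mul_eq_one.1 e).symm
  refine hx1 (fixedPointFree hH (kernel_isComplement hH) (H.mul_mem (H.inv_mem ht) hs) hst hx ?_)
  have e1 : s * x * s⁻¹ = t * x * t⁻¹ := by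
    rw [hsi x ((mem_kernel hH).1 hx), hti x ((mem_kernel hH).1 hx)]
  calc t⁻¹ * s * x = t⁻¹ * (s * x * s⁻¹) * s := by group
    _ = t⁻¹ * (t * x * t⁻¹) * s := by rw [e1]
    _ = x * (t⁻¹ * s) := by group

/-- A nilpotent Frobenius complement of odd order is cyclic. -/
theorem isCyclic_of_nilpotent_odd (hH : IsFrobeniusComplement H) [Group.IsNilpotent H]
    (hodd : Odd (Nat.card H)) : IsCyclic H := by
  haveI : IsZGroup H := ⟨fun p hp P => by
    haveI := Fact.mk hp
    rcases sylow_cyclic_or_quaternion hH p P with h | ⟨-, n, ⟨e⟩⟩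
    · exact h
    · exfalso
      have hd : Nat.card P ∣ Nat.card H := Subgroup.card_subgroup_dvd_card _
      rw [Nat.card_congr e.toEquiv, Nat.card_eq_fintype_card, QuaternionGroup.card] at hd
      exact (Nat.not_even_iff_odd.2 hodd) (even_iff_two_dvd.2 (dvd_trans ⟨2 * 2 ^ n, by ring⟩ hd))⟩
  infer_instance

/-- A Frobenius complement whose kernel is cyclic is cyclic. -/
theorem isCyclic_of_cyclic_kernel (hH : IsFrobeniusComplement H) [IsCyclic (kernel hH)] :
    IsCyclic H := by
  haveI := kernel_normal hH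
  obtain ⟨g, hg⟩ := IsCyclic.exists_generator (α := kernel hH)
  have hg1 : (g : G) ≠ 1 := fun e => kernel_ne_bot hH ((Subgroup.eq_bot_iff_forall _).2 fun x hx => by
    obtain ⟨i, hi⟩ := Subgroup.mem_zpowers_iff.1 (hg ⟨x, hx⟩)
    have := congrArg Subtype.val hi
    simpa [e] using this.symm)
  have hact : ∀ a : H, ∃ i : ℤ, (a : G) * g * (a : G)⁻¹ = (g : G) ^ i := fun a => by
    obtain ⟨i, hi⟩ := Subgroup.mem_zpowers_iff.1
      (hg ⟨_, Subgroup.Normal.conj_mem inferInstance (g : G) g.2 (a : G)⟩)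
    exact ⟨i, by simpa using (congrArg Subtype.val hi).symm⟩
  have hcomm : ∀ a b : H, a * b = b * a := by
    intro a b
    obtain ⟨i, hi⟩ := hact a
    obtain ⟨j, hj⟩ := hact b
    have e1 : ∀ (c : G) (k : ℤ), c * (g : G) ^ k * c⁻¹ = (c * g * c⁻¹) ^ k := fun c k => by
      rw [← MulAut.conj_apply, ← MulAut.conj_apply, map_zpow]
    have e : ((a : G) * b) * g * ((a : G) * b)⁻¹ = ((b : G) * a) * g * ((b : G) * a)⁻¹ := by
      calc ((a : G) * b) * g * ((a : G) * b)⁻¹ = (a : G) * ((b : G) * g * (b : G)⁻¹) * (a : G)⁻¹ := by group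
        _ = (g : G) ^ (i * j) := by rw [hj, e1, hi, zpow_mul]
        _ = (b : G) * ((a : G) * g * (a : G)⁻¹) * (b : G)⁻¹ := by rw [hi, e1, hj, ← zpow_mul, mul_comm j]
        _ = _ := by group
    by_contra hne
    refine hg1 (fixedPointFree hH (kernel_isComplement hH) (h := ((b : G) * a)⁻¹ * ((a : G) * b))
      (H.mul_mem (H.inv_mem (H.mul_mem b.2 a.2)) (H.mul_mem a.2 b.2))
      (fun e' => hne (Subtype.ext (inv_mul_eq_one.1 e').symm)) g.2 ?_)
    calc ((b : G) * a)⁻¹ * ((a : G) * b) * g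
        = ((b : G) * a)⁻¹ * (((a : G) * b) * g * ((a : G) * b)⁻¹) * ((a : G) * b) := by group
      _ = ((b : G) * a)⁻¹ * (((b : G) * a) * g * ((b : G) * a)⁻¹) * ((a : G) * b) := by rw [e]
      _ = (g : G) * (((b : G) * a)⁻¹ * ((a : G) * b)) := by group
  haveI : IsZGroup H := ⟨fun p hp P => by
    haveI := Fact.mk hp
    rcases sylow_cyclic_or_quaternion hH p P with h | ⟨-, n, ⟨e⟩⟩
    · exact h
    · cases n with
      | zero =>
        refine e.isCyclic.2 (isCyclic_of_orderOf_eq_card (QuaternionGroup.xa 0) ?_)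
        rw [QuaternionGroup.orderOf_xa, Nat.card_eq_fintype_card, QuaternionGroup.card]
        norm_num
      | succ m =>
        exfalso
        have h := congrArg e (Subtype.ext (hcomm (e.symm (QuaternionGroup.a 1)).1
          (e.symm (QuaternionGroup.xa 0)).1) : (e.symm (QuaternionGroup.a 1)) *
            e.symm (QuaternionGroup.xa 0) = e.symm (QuaternionGroup.xa 0) * e.symm (QuaternionGroup.a 1))
        rw [map_mul, map_mul, MulEquiv.apply_symm_apply, MulEquiv.apply_symm_apply,
          QuaternionGroup.a_mul_xa, QuaternionGroup.xa_mul_a, QuaternionGroup.xa.injEq] at h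
        have h2 : ((2 : ℕ) : ZMod (2 * 2 ^ (m + 1))) = 0 := by push_cast; linear_combination -h
        rw [ZMod.natCast_eq_zero_iff] at h2
        have := Nat.le_of_dvd two_pos h2
        have := Nat.two_pow_pos m
        rw [pow_succ] at *
        omega⟩
  haveI : IsMulCommutative H := ⟨⟨hcomm⟩⟩
  haveI : Group.IsNilpotent H := by
    open scoped IsMulCommutative in exact CommGroup.isNilpotent
  infer_instance

/-- A Frobenius group acting on a module on which the kernel is fixed-point-free: a cyclic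
complement piece of prime order has non-trivial fixed points. -/
theorem exists_fixed_of_kernel {Q : Type u} [Group Q] [Finite Q] (K : Subgroup Q) [K.Normal]
    {V : Type v} [CommGroup V] [Finite V] [Nontrivial V] (φ : Q →* MulAut V)
    (hcop : (Nat.card K).Coprime (Nat.card V)) (hK : ∀ v, (∀ k ∈ K, φ k v = v) → v = 1)
    {y : Q} {q : ℕ} (hq : 0 < q) (hyq : y ^ q = 1)
    (hfree : ∀ i, 0 < i → i < q → ∀ k ∈ K, k * y ^ i = y ^ i * k → k = 1) :
    ∃ v : V, v ≠ 1 ∧ φ y v = v := by
  classical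
  cases nonempty_fintype K
  by_contra hno
  simp only [not_exists, not_and] at hno
  obtain ⟨v, hv⟩ := exists_ne (1 : V)
  have hN : ∀ w : V, ∏ i ∈ Finset.range q, φ (y ^ i) w = 1 := by
    intro w
    by_contra h1
    refine hno _ h1 ?_
    rw [map_prod]
    have hstep : ∀ i, φ y (φ (y ^ i) w) = φ (y ^ (i + 1)) w := fun i => by
      rw [← MulAut.mul_apply, ← map_mul, ← pow_succ']
    simp only [hstep]
    have h1' := Finset.prod_range_succ' (fun i => φ (y ^ i) w) q
    rw [Finset.prod_range_succ, hyq, pow_zero] at h1'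
    exact mul_right_cancel h1'.symm
  have hS : ∀ w : V, ∏ k : K, φ (k : Q) w = 1 := fun w => hK _ fun a ha => by
    rw [map_prod]
    refine Fintype.prod_equiv (Equiv.mulLeft (⟨a, ha⟩ : K)) _ _ fun k => ?_
    rw [← MulAut.mul_apply, ← map_mul]
    rfl
  have htot : ∏ i ∈ Finset.range q, ∏ k : K, φ ((k : Q) * y ^ i * (k : Q)⁻¹) v = 1 := by
    rw [Finset.prod_comm]
    refine Finset.prod_eq_one fun k _ => ?_
    simp only [map_mul, MulAut.mul_apply]
    rw [← map_prod, hN, map_one]
  have hnz : ∀ i ∈ Finset.range q, i ≠ 0 → ∏ k : K, φ ((k : Q) * y ^ i * (k : Q)⁻¹) v = 1 := by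
    intro i hi hi0
    let f : K → K := fun k => ⟨(k : Q) * (y ^ i * (k : Q)⁻¹ * (y ^ i)⁻¹),
      K.mul_mem k.2 (Subgroup.Normal.conj_mem inferInstance _ (K.inv_mem k.2) _)⟩
    have hf : Function.Bijective f := by
      refine Finite.injective_iff_bijective.1 fun a b hab => ?_
      have e : (a : Q) * (y ^ i * (a : Q)⁻¹ * (y ^ i)⁻¹) = (b : Q) * (y ^ i * (b : Q)⁻¹ * (y ^ i)⁻¹) :=
        congrArg Subtype.val hab
      have h1 := hfree i (Nat.pos_of_ne_zero hi0) (Finset.mem_range.1 hi) ((b : Q)⁻¹ * a)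
        (K.mul_mem (K.inv_mem b.2) a.2) (by
          calc (b : Q)⁻¹ * a * y ^ i
              = (b : Q)⁻¹ * ((a : Q) * (y ^ i * (a : Q)⁻¹ * (y ^ i)⁻¹)) * y ^ i * a := by group
            _ = (b : Q)⁻¹ * ((b : Q) * (y ^ i * (b : Q)⁻¹ * (y ^ i)⁻¹)) * y ^ i * a := by rw [e]
            _ = y ^ i * ((b : Q)⁻¹ * a) := by group)
      exact Subtype.ext (inv_mul_eq_one.1 h1).symm
    calc ∏ k : K, φ ((k : Q) * y ^ i * (k : Q)⁻¹) v = ∏ k : K, φ (f k : Q) (φ (y ^ i) v) :=
          Finset.prod_congr rfl fun k _ => by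
            rw [← MulAut.mul_apply, ← map_mul]
            congr 2
            simp only [f]
            group
      _ = ∏ k : K, φ (k : Q) (φ (y ^ i) v) := hf.prod_comp fun k => φ (k : Q) (φ (y ^ i) v)
      _ = 1 := hS _
  rw [Finset.prod_eq_single 0 hnz (fun h => absurd (Finset.mem_range.2 hq) h)] at htot
  simp only [pow_zero, mul_one, mul_inv_cancel, map_one, MulAut.one_apply, Finset.prod_const,
    Finset.card_univ] at htot
  rw [← Nat.card_eq_fintype_card] at htot
  exact hv (orderOf_eq_one_iff.1 (Nat.eq_one_of_dvd_coprimes hcop (orderOf_dvd_of_pow_eq_one htot)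
    (orderOf_dvd_natCard v)))

end Cfsg.Agent.Frobenius
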