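import Cfsg.Prelude.Def_Solvable
import Mathlib.GroupTheory.GroupAction.Quotient
import Mathlib.GroupTheory.Complement
import Mathlib.GroupTheory.Subgroup.Centralizer
import Mathlib.GroupTheory.Index
import Mathlib.GroupTheory.OrderOfElement

/-!
# Elementary theory of Frobenius complements and kernels

Everything here is elementary (no character theory): uniqueness of fixed cosets, the size of
the kernel, the congruence `[G:H] ≡ 1 (mod |H|)`, complements with normal partner.
-/

set_option autoImplicit false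

namespace Cfsg.Agent.Frobenius

open Subgroup Pointwise

variable {G : Type*} [Group G] {H : Subgroup G}

theorem mem_conj_iff (H : Subgroup G) (g x : G) :
    x ∈ MulAut.conj g • H ↔ g⁻¹ * x * g ∈ H := by
  rw [Subgroup.mem_pointwise_smul_iff_inv_smul_mem, ← map_inv, MulAut.smul_def, MulAut.conj_apply,
    inv_inv]

/-- Two elements `x` and `g⁻¹ * x * g` of a Frobenius complement: `g` is in it unless `x = 1`. -/
theorem mem_of_conj_mem (hH : IsFrobeniusComplement H) {g x : G} (hx : x ∈ H) (hx1 : x ≠ 1)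
    (hc : g⁻¹ * x * g ∈ H) : g ∈ H := by
  by_contra hg
  have h := hH.2.2 g hg
  have : x ∈ H ⊓ MulAut.conj g • H := ⟨hx, (mem_conj_iff H g x).2 hc⟩
  rw [h, Subgroup.mem_bot] at this
  exact hx1 this

/-- Constructor in terms of elements. -/
theorem isFrobeniusComplement_of (h1 : H ≠ ⊥) (h2 : H ≠ ⊤)
    (h3 : ∀ g x : G, x ∈ H → x ≠ 1 → g⁻¹ * x * g ∈ H → g ∈ H) : IsFrobeniusComplement H := by
  refine ⟨h1, h2, fun g hg => ?_⟩
  rw [Subgroup.eq_bot_iff_forall]
  intro x hx
  by_contra hx1
  exact hg (h3 g x hx.1 hx1 ((mem_conj_iff H g x).1 hx.2))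

theorem exists_ne_one (hH : IsFrobeniusComplement H) : ∃ h ∈ H, h ≠ (1 : G) :=
  H.ne_bot_iff_exists_ne_one.1 hH.1 |>.elim fun a ha =>
    ⟨a, a.2, fun h => ha (Subtype.ext h)⟩

theorem normalizer_eq (hH : IsFrobeniusComplement H) : normalizer (H : Set G) = H := by
  refine le_antisymm (fun g hg => ?_) le_normalizer
  obtain ⟨h, hh, h1⟩ := exists_ne_one hH
  refine mem_of_conj_mem hH hh h1 ?_
  have := (Subgroup.mem_normalizer_iff''.1 hg h).1 hh
  exact this

theorem centralizer_le (hH : IsFrobeniusComplement H) {x : G} (hx : x ∈ H) (hx1 : x ≠ 1) :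
    centralizer ({x} : Set G) ≤ H := by
  intro g hg
  refine mem_of_conj_mem hH hx hx1 ?_
  rw [Subgroup.mem_centralizer_singleton_iff] at hg
  have : g⁻¹ * x * g = x := by rw [mul_assoc, ← hg, inv_mul_cancel_left]
  rwa [this]

theorem smul_coset_eq_iff (H : Subgroup G) (g a : G) :
    g • (a : G ⧸ H) = (a : G ⧸ H) ↔ a⁻¹ * g * a ∈ H := by
  rw [MulAction.Quotient.smul_coe, QuotientGroup.eq, smul_eq_mul]
  rw [← inv_mem_iff]
  simp [mul_assoc]

theorem fixed_unique (hH : IsFrobeniusComplement H) {g : G} (hg : g ≠ 1) {a b : G ⧸ H}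
    (ha : g • a = a) (hb : g • b = b) : a = b := by
  induction a using QuotientGroup.induction_on with
  | H a =>
  induction b using QuotientGroup.induction_on with
  | H b =>
  rw [smul_coset_eq_iff] at ha hb
  rw [QuotientGroup.eq]
  refine mem_of_conj_mem hH ha (fun h => hg ?_) ?_
  · simpa [mul_assoc, inv_mul_eq_one] using h
  · simpa [mul_assoc] using hb

theorem mem_kernel_iff (H : Subgroup G) (x : G) :
    x ∈ frobeniusKernel H ↔ x = 1 ∨ ∀ a : G ⧸ H, x • a ≠ a := by
  constructor
  · rintro (h | h)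
    · exact Or.inl h
    · refine Or.inr fun a => ?_
      induction a using QuotientGroup.induction_on with
      | H a => rw [Ne, smul_coset_eq_iff, ← mem_conj_iff]; exact h a
  · rintro (h | h)
    · exact Or.inl h
    · refine Or.inr fun g => ?_
      rw [mem_conj_iff, ← smul_coset_eq_iff]; exact h g

theorem notMem_kernel_iff (H : Subgroup G) (x : G) :
    x ∉ frobeniusKernel H ↔ x ≠ 1 ∧ ∃ a : G ⧸ H, x • a = a := by
  rw [mem_kernel_iff]; push Not; rfl

theorem one_mem_kernel (H : Subgroup G) : (1 : G) ∈ frobeniusKernel H := Or.inl rfl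

theorem kernel_conj (H : Subgroup G) {x : G} (hx : x ∈ frobeniusKernel H) (g : G) :
    g * x * g⁻¹ ∈ frobeniusKernel H := by
  rcases hx with h | h
  · exact Or.inl (by simp [h])
  · refine Or.inr fun a => ?_
    rw [mem_conj_iff]
    have := h (g⁻¹ * a)
    rw [mem_conj_iff] at this
    simpa [mul_assoc] using this

theorem kernel_inv (H : Subgroup G) {x : G} (hx : x ∈ frobeniusKernel H) :
    x⁻¹ ∈ frobeniusKernel H := by
  rcases hx with h | h
  · exact Or.inl (by simp [h])
  · refine Or.inr fun a => ?_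
    rw [Subgroup.inv_mem_iff]; exact h a

theorem kernel_inter {x : G} (hx : x ∈ frobeniusKernel H) (hxH : x ∈ H) : x = 1 := by
  rcases hx with h | h
  · exact h
  · exact absurd (by rw [mem_conj_iff]; simpa using hxH) (h 1)

section Finite

variable [Finite G]

/-- The elements outside the kernel correspond to pairs (coset, non-identity element of `H`). -/
theorem card_kernel_compl (hH : IsFrobeniusComplement H) :
    Nat.card ↥(frobeniusKernel H)ᶜ = H.index * (Nat.card H - 1) := by
  classical
  have : Fintype H := Fintype.ofFinite H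
  let f : (G ⧸ H) × {h : H // h ≠ 1} → ↥(frobeniusKernel H)ᶜ := fun p =>
    ⟨p.1.out * (p.2.1 : G) * p.1.out⁻¹, by
      rw [Set.mem_compl_iff, notMem_kernel_iff]
      refine ⟨fun h => p.2.2 (Subtype.ext ?_), (p.1.out : G ⧸ H), ?_⟩
      · simpa [mul_inv_eq_one, mul_eq_left] using h
      · rw [smul_coset_eq_iff]
        simp [mul_assoc]⟩
  have hfix : ∀ p, (f p : G) • p.1 = p.1 := fun p => by
    conv_rhs => rw [← p.1.out_eq]
    conv_lhs => arg 2; rw [← p.1.out_eq]
    refine (smul_coset_eq_iff H _ _).2 ?_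
    simp [f, mul_assoc]
  have hinj : Function.Injective f := by
    rintro ⟨a, h⟩ ⟨b, k⟩ hab
    have hne : (f (a, h) : G) ≠ 1 := ((notMem_kernel_iff H _).1 (f (a, h)).2).1
    have e : a = b := fixed_unique hH hne (hfix (a, h)) (hab ▸ hfix (b, k))
    subst e
    have := congrArg Subtype.val hab
    simp only [f, mul_left_inj, mul_right_inj, SetLike.coe_eq_coe] at this
    exact Prod.ext rfl (Subtype.ext this)
  have hsurj : Function.Surjective f := by
    rintro ⟨x, hx⟩
    obtain ⟨hx1, a, ha⟩ := (notMem_kernel_iff H x).1 hx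
    have hm : a.out⁻¹ * x * a.out ∈ H := by
      rw [← smul_coset_eq_iff, QuotientGroup.out_eq']; exact ha
    refine ⟨(a, ⟨⟨_, hm⟩, fun h => hx1 ?_⟩), Subtype.ext (by simp [f, mul_assoc])⟩
    simpa [mul_assoc, inv_mul_eq_one] using congrArg Subtype.val h
  rw [← Nat.card_eq_of_bijective f ⟨hinj, hsurj⟩, Nat.card_prod, Subgroup.index]
  congr 1
  rw [Nat.card_eq_fintype_card, Nat.card_eq_fintype_card, Fintype.card_subtype_compl]
  simp

theorem card_kernel (hH : IsFrobeniusComplement H) :
    Nat.card (frobeniusKernel H) = H.index := by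
  have h1 := card_kernel_compl hH
  have h2 : Nat.card (frobeniusKernel H) + Nat.card ↥(frobeniusKernel H)ᶜ = Nat.card G := by
    rw [Nat.card_coe_set_eq, Nat.card_coe_set_eq, Set.ncard_add_ncard_compl]
  have h3 := H.index_mul_card
  have hpos : 0 < Nat.card H := Nat.card_pos
  rw [h1, ← h3] at h2
  obtain ⟨k, hk⟩ : ∃ k, Nat.card H = k + 1 := ⟨_, (Nat.succ_pred_eq_of_pos hpos).symm⟩
  rw [hk, Nat.add_sub_cancel, Nat.mul_succ] at h2
  omega

theorem dvd_card_of_free (K : Type*) [Group K] {X : Type*} [MulAction K X] [Finite X]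
    (h : ∀ (k : K) (x : X), k • x = x → k = 1) : Nat.card K ∣ Nat.card X := by
  have e := MulAction.selfEquivSigmaOrbitsQuotientStabilizer K X
  have hs : ∀ x : X, MulAction.stabilizer K x = ⊥ := fun x =>
    (Subgroup.eq_bot_iff_forall _).2 fun k hk => h k x hk
  rw [Nat.card_congr e]
  have : Fintype (Quotient (MulAction.orbitRel K X)) := Fintype.ofFinite _
  have hfin : Finite ((ω : Quotient (MulAction.orbitRel K X)) × K ⧸ MulAction.stabilizer K ω.out) :=
    Finite.of_equiv X e
  have : ∀ ω : Quotient (MulAction.orbitRel K X), Finite (K ⧸ MulAction.stabilizer K ω.out) :=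
    fun ω => Finite.of_injective
      (fun q : K ⧸ MulAction.stabilizer K ω.out =>
        (⟨ω, q⟩ : (ω : Quotient (MulAction.orbitRel K X)) × K ⧸ MulAction.stabilizer K ω.out))
      (fun a b hab => eq_of_heq (Sigma.mk.inj hab).2)
  rw [Nat.card_sigma]
  refine Finset.dvd_sum fun ω _ => ?_
  rw [hs, ← Subgroup.index, Subgroup.index_bot]

theorem card_dvd_index_sub_one (hH : IsFrobeniusComplement H) : Nat.card H ∣ H.index - 1 := by
  let S : SubMulAction H (G ⧸ H) :=
    { carrier := {((1 : G) : G ⧸ H)}ᶜ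
      smul_mem' := fun c {x} hx hcx => hx ?_ }
  · have key := dvd_card_of_free H (X := S) (fun k x hkx => by
      by_contra hk
      refine x.2 (fixed_unique hH (g := (k : G)) (fun h => hk (Subtype.ext h)) ?_ ?_)
      · exact congrArg Subtype.val hkx
      · rw [smul_coset_eq_iff]; simp)
    have hc : Nat.card S = H.index - 1 := by
      change Nat.card ↥({((1 : G) : G ⧸ H)}ᶜ : Set (G ⧸ H)) = _
      rw [Nat.card_coe_set_eq, Set.ncard_compl, Set.ncard_singleton]
      rfl
    rwa [hc] at key
  · simp only [Set.mem_singleton_iff] at hcx ⊢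
    have : ((c : G))⁻¹ • ((1 : G) : G ⧸ H) = ((1 : G) : G ⧸ H) := by
      rw [smul_coset_eq_iff]; simp
    rw [← this, ← hcx]
    exact (inv_smul_smul (c : G) x).symm

theorem index_mod (hH : IsFrobeniusComplement H) :
    H.index % Nat.card H = 1 % Nat.card H := by
  have hpos : 1 ≤ H.index := Nat.one_le_iff_ne_zero.2 H.index_ne_zero_of_finite
  exact ((Nat.modEq_iff_dvd' hpos).2 (card_dvd_index_sub_one hH)).symm

theorem one_lt_card (hH : IsFrobeniusComplement H) : 1 < Nat.card H :=
  (Subgroup.one_lt_card_iff_ne_bot H).2 hH.1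

theorem one_lt_index (hH : IsFrobeniusComplement H) : 1 < H.index := by
  have h0 := H.index_ne_zero_of_finite
  have h1 : H.index ≠ 1 := fun h => hH.2.1 (Subgroup.index_eq_one.1 h)
  omega

theorem coprime_card_index (hH : IsFrobeniusComplement H) :
    (Nat.card H).Coprime H.index := by
  obtain ⟨k, hk⟩ := card_dvd_index_sub_one hH
  have : H.index = 1 + Nat.card H * k := by have := one_lt_index hH; omega
  rw [this]
  simp

/-- If a normal subgroup complements a Frobenius complement, it is the kernel. -/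
theorem coe_eq_kernel {N : Subgroup G} [N.Normal] (hH : IsFrobeniusComplement H)
    (hc : IsComplement' N H) : (N : Set G) = frobeniusKernel H := by
  refine Set.eq_of_subset_of_ncard_le (fun x hx => ?_) ?_ (Set.toFinite _)
  · by_contra h
    obtain ⟨hx1, a, ha⟩ := (notMem_kernel_iff H x).1 h
    induction a using QuotientGroup.induction_on with
    | H a =>
    rw [smul_coset_eq_iff] at ha
    have hN : a⁻¹ * x * a ∈ N := by simpa using Subgroup.Normal.conj_mem ‹N.Normal› x hx a⁻¹
    have := hc.disjoint.le_bot (Subgroup.mem_inf.2 ⟨hN, ha⟩)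
    rw [Subgroup.mem_bot] at this
    exact hx1 (by simpa [mul_assoc, inv_mul_eq_one] using this)
  · rw [← Nat.card_coe_set_eq, card_kernel hH, ← Nat.card_coe_set_eq]
    exact le_of_eq hc.index_eq_card

/-- A subgroup whose carrier is the kernel is a normal complement of `H`. -/
theorem of_coe_eq_kernel {N : Subgroup G} (hH : IsFrobeniusComplement H)
    (hN : (N : Set G) = frobeniusKernel H) :
    N.Normal ∧ IsComplement' N H ∧ Nat.card N = H.index := by
  have hmem : ∀ x, x ∈ N ↔ x ∈ frobeniusKernel H := fun x => by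
    rw [← SetLike.mem_coe, hN]
  have hcard : Nat.card N = H.index := by
    rw [← card_kernel hH, ← hN]; rfl
  refine ⟨⟨fun x hx g => (hmem _).2 (kernel_conj H ((hmem x).1 hx) g)⟩, ?_, hcard⟩
  refine Subgroup.isComplement'_of_card_mul_and_disjoint ?_ ?_
  · rw [hcard, H.index_mul_card]
  · rw [disjoint_iff, Subgroup.eq_bot_iff_forall]
    exact fun x hx => kernel_inter ((hmem x).1 hx.1) hx.2

end Finite

/-- A normal subgroup with a complement acting without fixed points. -/
theorem of_fixedPointFree {K : Subgroup G} [K.Normal] (hc : IsComplement' K H) (hK : K ≠ ⊥)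
    (hH : H ≠ ⊥) (hfpf : ∀ h ∈ H, h ≠ 1 → ∀ k ∈ K, h * k = k * h → k = 1) :
    IsFrobeniusComplement H := by
  refine isFrobeniusComplement_of hH ?_ fun g x hx hx1 hgx => ?_
  · intro h
    have := hc.disjoint.eq_bot
    rw [h, inf_top_eq] at this
    exact hK this
  · obtain ⟨⟨k, a⟩, rfl⟩ := hc.2 g
    simp only at *
    have hm : (k : G)⁻¹ * x * (k : G) ∈ H := by
      have := H.mul_mem (H.mul_mem a.2 hgx) (H.inv_mem a.2)
      simpa [mul_assoc] using this
    have hkk : x⁻¹ * ((k : G)⁻¹ * x * k) = 1 := by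
      rw [← Subgroup.mem_bot, ← hc.disjoint.eq_bot]
      refine ⟨?_, H.mul_mem (H.inv_mem hx) hm⟩
      have := K.mul_mem (Subgroup.Normal.conj_mem ‹K.Normal› _ (K.inv_mem k.2) x⁻¹) k.2
      simpa [mul_assoc] using this
    have : (k : G) = 1 := hfpf x hx hx1 k k.2 (by
      have := inv_mul_eq_one.1 hkk
      calc x * (k : G) = (k : G) * ((k : G)⁻¹ * x * k) := by group
        _ = (k : G) * x := by rw [← this])
    simp [this]

/-- In a Frobenius group a non-identity complement element centralises nothing in a normal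
complement. -/
theorem fixedPointFree {K : Subgroup G} (hH : IsFrobeniusComplement H) (hc : IsComplement' K H)
    {h k : G} (hh : h ∈ H) (h1 : h ≠ 1) (hk : k ∈ K) (hcom : h * k = k * h) : k = 1 := by
  have : k ∈ H := centralizer_le hH hh h1 (by
    rw [Subgroup.mem_centralizer_singleton_iff]; exact hcom.symm)
  exact Subgroup.mem_bot.1 (hc.disjoint.eq_bot ▸ Subgroup.mem_inf.2 ⟨hk, this⟩)

/-- Transport along an isomorphism. -/
theorem map_equiv {G' : Type*} [Group G'] (e : G ≃* G') (hH : IsFrobeniusComplement H) :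
    IsFrobeniusComplement (H.map e.toMonoidHom) := by
  refine isFrobeniusComplement_of ?_ ?_ fun g x hx hx1 hgx => ?_
  · rw [Ne, Subgroup.map_eq_bot_iff_of_injective H e.injective]; exact hH.1
  · intro h
    apply hH.2.1
    rw [eq_top_iff]
    intro x _
    have : e x ∈ H.map e.toMonoidHom := h ▸ Subgroup.mem_top _
    simpa [Subgroup.mem_map_equiv] using this
  · rw [Subgroup.mem_map_equiv] at hx hgx ⊢
    refine mem_of_conj_mem hH hx (fun h => hx1 ?_) ?_
    · simpa using congrArg e h
    · simpa using hgx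

end Cfsg.Agent.Frobenius
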