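import Cfsg.Agent.Frobenius.Basic
import Mathlib.GroupTheory.SemidirectProduct
import Mathlib.Algebra.CharP.Two
import Mathlib.Algebra.Group.Shrink
import Mathlib.LinearAlgebra.Matrix.SpecialLinearGroup
import Mathlib.LinearAlgebra.Matrix.ToLinearEquiv
import Mathlib.LinearAlgebra.Matrix.CharP
import Mathlib.Algebra.Field.ZMod
import Mathlib.RingTheory.Finiteness.Defs
import Mathlib.RingTheory.Adjoin.Basic
import Mathlib.RingTheory.Nakayama
import Mathlib.GroupTheory.FiniteAbelian.Basic
import Mathlib.Algebra.Ring.GeomSum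
import Mathlib.RingTheory.Finiteness.Nakayama
import Mathlib.Algebra.CharP.Lemmas

/-!
# Constructing Frobenius groups

`exists_of_action`, `exists_of_module`, `exists_of_divisionRing`, `exists_of_sl2` each show that a
finite group is (abstractly) a Frobenius complement.
-/

set_option autoImplicit false

namespace Cfsg.Agent.Frobenius

open Subgroup

universe u v

/-- `C` is isomorphic to a Frobenius complement of index `|N|` of some finite group. -/
theorem exists_of_action' {C : Type u} [Group C] [Finite C] [Nontrivial C] {N : Type v} [Group N]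
    [Finite N] [Nontrivial N] (φ : C →* MulAut N)
    (hfpf : ∀ c : C, c ≠ 1 → ∀ n : N, φ c n = n → n = 1) :
    ∃ (L : Type) (_ : Group L) (_ : Finite L) (H : Subgroup L),
      IsFrobeniusComplement H ∧ H.index = Nat.card N ∧ Nonempty (C ≃* H) := by
  let S := N ⋊[φ] C
  have : Finite S := Finite.of_equiv (N × C) SemidirectProduct.equivProd.symm
  let K : Subgroup S := (SemidirectProduct.rightHom).ker
  let H : Subgroup S := (SemidirectProduct.inr (φ := φ)).range
  have hinr : Function.Injective (SemidirectProduct.inr : C →* S) := SemidirectProduct.inr_injective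
  have hF : IsFrobeniusComplement H := by
    refine isFrobeniusComplement_of ?_ ?_ ?_
    · obtain ⟨c, hc⟩ := exists_ne (1 : C)
      intro h
      have : (SemidirectProduct.inr c : S) ∈ H := ⟨c, rfl⟩
      rw [h, Subgroup.mem_bot] at this
      exact hc (hinr (by rw [this, map_one]))
    · obtain ⟨n, hn⟩ := exists_ne (1 : N)
      intro h
      have : (SemidirectProduct.inl n : S) ∈ H := h ▸ Subgroup.mem_top _
      obtain ⟨c, hc⟩ := this
      exact hn (by simpa using congrArg SemidirectProduct.left hc.symm)
    · intro g x hx hx1 hgx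
      obtain ⟨c, rfl⟩ := hx
      have hc : c ≠ 1 := fun h => hx1 (by simp [h])
      obtain ⟨d, hd⟩ := hgx
      have e := congrArg SemidirectProduct.left
        (show g * (SemidirectProduct.inr d : S) = (SemidirectProduct.inr c : S) * g by
          rw [hd]; group)
      change g.left * φ g.right 1 = 1 * φ c g.left at e
      rw [map_one, mul_one, one_mul] at e
      have hl := hfpf c hc g.left e.symm
      exact ⟨g.right, SemidirectProduct.ext (by simp [hl]) rfl⟩
  have : Small.{0} S := Countable.toSmall S
  let f : S ≃* Shrink.{0} S := Shrink.mulEquiv.symm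
  have : Finite (Shrink.{0} S) := Finite.of_equiv S f.toEquiv
  let e : C ≃* H.map f.toMonoidHom :=
    (MonoidHom.ofInjective hinr).trans (H.equivMapOfInjective f.toMonoidHom f.injective)
  refine ⟨Shrink.{0} S, inferInstance, inferInstance, H.map f.toMonoidHom, map_equiv f hF, ?_, ⟨e⟩⟩
  refine Nat.eq_of_mul_eq_mul_left (Nat.card_pos (α := C)) ?_
  conv_lhs => rw [Nat.card_congr e.toEquiv, Subgroup.card_mul_index, ← Nat.card_congr f.toEquiv,
    SemidirectProduct.card, mul_comm]

/-- `C` is isomorphic to a Frobenius complement of some finite group (a proposition with the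
shape used in the listed statements). -/
theorem exists_of_action {C : Type u} [Group C] [Finite C] [Nontrivial C] {N : Type v} [Group N]
    [Finite N] [Nontrivial N] (φ : C →* MulAut N)
    (hfpf : ∀ c : C, c ≠ 1 → ∀ n : N, φ c n = n → n = 1) :
    ∃ (L : Type) (_ : Group L) (_ : Finite L) (H : Subgroup L),
      IsFrobeniusComplement H ∧ Nonempty (C ≃* H) := by
  obtain ⟨L, i1, i2, H, hH, -, he⟩ := exists_of_action' φ hfpf
  exact ⟨L, i1, i2, H, hH, he⟩

/-- Linear version: a finite module over any monoid-hom image. -/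
theorem exists_of_module {C : Type u} [Group C] [Finite C] [Nontrivial C] {M : Type v}
    [AddCommGroup M] [Finite M] [Nontrivial M] (ρ : C →* AddMonoid.End M)
    (hfpf : ∀ c : C, c ≠ 1 → ∀ m : M, ρ c m = m → m = 0) :
    ∃ (L : Type) (_ : Group L) (_ : Finite L) (H : Subgroup L),
      IsFrobeniusComplement H ∧ Nonempty (C ≃* H) := by
  have hinv : ∀ (c : C) (m : M), ρ c⁻¹ (ρ c m) = m := fun c m => by
    change (ρ c⁻¹ * ρ c) m = m
    rw [← map_mul, inv_mul_cancel, map_one]; rfl
  let A : C → AddAut M := fun c =>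
    { toFun := ρ c
      invFun := ρ c⁻¹
      left_inv := hinv c
      right_inv := fun m => by simpa using hinv c⁻¹ m
      map_add' := map_add _ }
  refine exists_of_action (N := Multiplicative M)
    { toFun := fun c => AddEquiv.toMultiplicative (A c)
      map_one' := MulEquiv.ext fun m => by
        change Multiplicative.ofAdd (ρ 1 m.toAdd) = m
        rw [map_one]; rfl
      map_mul' := fun a b => MulEquiv.ext fun m => by
        change Multiplicative.ofAdd (ρ (a * b) m.toAdd) = Multiplicative.ofAdd (ρ a (ρ b m.toAdd))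
        rw [map_mul]; rfl }
    fun c hc n hn => ?_
  exact Multiplicative.toAdd.injective (hfpf c hc n.toAdd (Multiplicative.ofAdd.injective hn))

/-- A finite group of units of a division ring is a Frobenius complement. -/
theorem exists_of_divisionRing {D : Type v} [DivisionRing D] {C : Type u} [Group C] [Finite C]
    [Nontrivial C] (f : C →* D) (hf : Function.Injective f) :
    ∃ (L : Type) (_ : Group L) (_ : Finite L) (H : Subgroup L),
      IsFrobeniusComplement H ∧ Nonempty (C ≃* H) := by
  classical
  -- the ℤ-subalgebra generated by the image is a finitely generated abelian group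
  let R : Subalgebra ℤ D := Algebra.adjoin ℤ (Set.range f)
  have hR : R.toSubmodule = Submodule.span ℤ (Set.range f) := by
    change (Algebra.adjoin ℤ (Set.range f)).toSubmodule = _
    rw [Algebra.adjoin_eq_span, ← MonoidHom.coe_mrange, Submonoid.closure_eq]
  have hfg : (R.toSubmodule).FG := hR ▸ Submodule.fg_span (Set.finite_range f)
  have : Module.Finite ℤ R := Module.Finite.iff_fg.2 hfg
  -- choose a suitable prime
  obtain ⟨ℓ, hℓ, hℓC, hℓR⟩ : ∃ ℓ : ℕ, ℓ.Prime ∧ (Nat.card C).Coprime ℓ ∧
      ∀ r : ℤ, (ℓ : ℤ) ∣ r - 1 → (r : D) ≠ 0 := by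
    obtain ⟨p, hp⟩ := CharP.exists D
    rcases CharP.char_is_prime_or_zero D p with hpp | h0
    · refine ⟨p, hpp, ?_, fun r hr h => ?_⟩
      · rw [Nat.coprime_comm, hpp.coprime_iff_not_dvd]
        intro hdvd
        have := Fact.mk hpp
        obtain ⟨c, hc⟩ := exists_prime_orderOf_dvd_card' p hdvd
        have h1 : f c ^ p = 1 := by rw [← map_pow, ← hc, pow_orderOf_eq_one, map_one]
        have h2 : (f c - 1) ^ p = 0 := by
          rw [sub_pow_char_of_commute p (Commute.one_right _), h1, one_pow, sub_self]
        have h3 : c = 1 := hf (by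
          rw [map_one]; exact sub_eq_zero.1 (eq_zero_of_pow_eq_zero h2))
        rw [h3, orderOf_one] at hc
        exact hpp.one_lt.ne hc
      · rw [CharP.intCast_eq_zero_iff D p] at h
        have := dvd_sub h hr
        simp only [sub_sub_cancel] at this
        exact hpp.not_dvd_one (by exact_mod_cast this)
    · subst h0
      have : CharZero D := CharP.charP_to_charZero D
      obtain ⟨ℓ, hle, hℓ⟩ := Nat.exists_infinite_primes (Nat.card C + 1)
      refine ⟨ℓ, hℓ, ?_, fun r hr h => ?_⟩
      · rw [Nat.coprime_comm, hℓ.coprime_iff_not_dvd]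
        intro h
        have := Nat.le_of_dvd Nat.card_pos h
        omega
      · rw [Int.cast_eq_zero] at h
        subst h
        exact hℓ.not_dvd_one (by
          have := hr.neg_right
          simp only [zero_sub, neg_neg] at this
          exact_mod_cast this)
  -- M = R / ℓR
  let P : Submodule R R := Submodule.span R {((ℓ : ℕ) : R)}
  have hP : ∀ x ∈ P, ∃ y : R, x = (ℓ : ℕ) • y := by
    intro x hx
    obtain ⟨y, rfl⟩ := Submodule.mem_span_singleton.1 hx
    exact ⟨y, by rw [smul_eq_mul, nsmul_eq_mul, Nat.cast_comm]⟩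
  have hℓM : ∀ m : R ⧸ P, (ℓ : ℤ) • m = 0 := fun m => by
    induction m using Submodule.Quotient.induction_on with
    | H x =>
    rw [← Submodule.Quotient.mk_smul, Submodule.Quotient.mk_eq_zero]
    refine Submodule.mem_span_singleton.2 ⟨x, ?_⟩
    rw [smul_eq_mul, natCast_zsmul, nsmul_eq_mul, Nat.cast_comm]
  have : Module.Finite ℤ (R ⧸ P) :=
    Module.Finite.of_surjective (P.mkQ.restrictScalars ℤ) P.mkQ_surjective
  have : Finite (R ⧸ P) := Module.finite_of_fg_torsion _ fun m =>
    ⟨⟨(ℓ : ℤ), mem_nonZeroDivisors_iff_ne_zero.2 (by exact_mod_cast hℓ.ne_zero)⟩, hℓM m⟩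
  have : Nontrivial (R ⧸ P) := by
    rw [Submodule.Quotient.nontrivial_iff]
    intro htop
    obtain ⟨r, hr1, hr⟩ := Submodule.exists_sub_one_mem_and_smul_eq_zero_of_fg_of_le_smul
      (Ideal.span {(ℓ : ℤ)}) (⊤ : Submodule ℤ R) Module.Finite.fg_top (by
        intro x _
        obtain ⟨y, rfl⟩ := hP x (htop ▸ Submodule.mem_top)
        rw [← natCast_zsmul]
        exact Submodule.smul_mem_smul (Ideal.mem_span_singleton_self _) Submodule.mem_top)
    refine hℓR r (Ideal.mem_span_singleton.1 hr1) ?_
    have h := congrArg Subtype.val (hr (1 : R) Submodule.mem_top)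
    simpa [zsmul_eq_mul] using h
  let g : C →* R := f.codRestrict R fun c => Algebra.subset_adjoin ⟨c, rfl⟩
  refine exists_of_module (M := R ⧸ P)
    ((Module.toAddMonoidEnd R (R ⧸ P)).toMonoidHom.comp g) fun c hc m hm => ?_
  have hm' : g c • m = m := hm
  have hk : ∀ k : ℕ, (g c) ^ k • m = m := by
    intro k
    induction k with
    | zero => simp
    | succ k ih => rw [pow_succ, mul_smul, hm', ih]
  have hsum : ∑ k ∈ Finset.range (orderOf c), (g c) ^ k = 0 := by
    apply Subtype.ext
    have h1 : (f c - 1) * ∑ k ∈ Finset.range (orderOf c), (f c) ^ k = 0 := by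
      rw [mul_geom_sum, ← map_pow, pow_orderOf_eq_one, map_one, sub_self]
    rcases mul_eq_zero.1 h1 with h | h
    · exact absurd (hf (by rw [map_one]; exact sub_eq_zero.1 h)) hc
    · simpa [g] using h
  have h0 : (orderOf c : ℤ) • m = 0 := by
    have := congrArg (fun r : R => r • m) hsum
    simp only [Finset.sum_smul, hk, zero_smul, Finset.sum_const, Finset.card_range] at this
    rwa [natCast_zsmul]
  obtain ⟨a, b, hab⟩ : IsCoprime (orderOf c : ℤ) (ℓ : ℤ) := by
    rw [Int.isCoprime_iff_nat_coprime]
    exact (hℓC.coprime_dvd_left (orderOf_dvd_natCard c))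
  rw [← one_smul ℤ m, ← hab, add_smul, mul_smul, mul_smul, h0, hℓM, smul_zero, smul_zero, add_zero]

/-- A finite group of order prime to `p` inside `SL(2,p)` is a Frobenius complement. -/
theorem exists_of_sl2 {C : Type u} [Group C] [Finite C] [Nontrivial C] (p : ℕ) [Fact p.Prime]
    (hcop : (Nat.card C).Coprime p)
    (f : C →* Matrix.SpecialLinearGroup (Fin 2) (ZMod p)) (hf : Function.Injective f) :
    ∃ (L : Type) (_ : Group L) (_ : Finite L) (H : Subgroup L),
      IsFrobeniusComplement H ∧ Nonempty (C ≃* H) := by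
  refine exists_of_module (M := Fin 2 → ZMod p)
    { toFun := fun c => ((f c : Matrix (Fin 2) (Fin 2) (ZMod p)).mulVecLin).toAddMonoidHom
      map_one' := by ext v : 1; simp; rfl
      map_mul' := fun a b => by
        ext v : 1
        simp
        rfl } fun c hc v hv => ?_
  by_contra hv0
  obtain ⟨A, hA⟩ : ∃ A : Matrix (Fin 2) (Fin 2) (ZMod p), A = (f c : Matrix _ _ _) := ⟨_, rfl⟩
  have hdet : A.det = 1 := hA ▸ (f c).2
  have hsing : (A - 1).det = 0 := Matrix.exists_mulVec_eq_zero_iff.1 ⟨v, hv0, by
    rw [Matrix.sub_mulVec, Matrix.one_mulVec, sub_eq_zero, hA]; exact hv⟩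
  have hN : (A - 1) * (A - 1) = 0 := by
    rw [Matrix.det_fin_two] at hdet
    simp only [Matrix.det_fin_two, Matrix.sub_apply, Matrix.one_apply_eq, Matrix.one_apply_ne,
      ne_eq, Fin.zero_eq_one_iff, Fin.one_eq_zero_iff, OfNat.ofNat_ne_one, not_false_eq_true,
      sub_zero] at hsing
    ext i j
    fin_cases i <;> fin_cases j <;>
      simp [Matrix.mul_apply, Fin.sum_univ_two, Matrix.one_apply] <;>
      grind
  have hp : A ^ p = 1 := by
    have : A = 1 + (A - 1) := by abel
    rw [this, add_pow_char_of_commute p (Commute.one_left _), one_pow,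
      pow_eq_zero_of_le (Nat.Prime.two_le Fact.out) (by rw [sq, hN]), add_zero]
  have hcp : c ^ p = 1 := hf (Subtype.ext (by rw [map_one, map_pow]; simp [← hA, hp]))
  have h1 : orderOf c = 1 := Nat.eq_one_of_dvd_coprimes hcop (orderOf_dvd_natCard c)
    (orderOf_dvd_of_pow_eq_one hcp)
  exact hc (orderOf_eq_one_iff.1 h1)

/-- Reverse the direction of the isomorphism. -/
theorem exists_symm {C : Type u} [Group C]
    (h : ∃ (L : Type) (_ : Group L) (_ : Finite L) (H : Subgroup L),
      IsFrobeniusComplement H ∧ Nonempty (C ≃* H)) :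
    ∃ (L : Type) (_ : Group L) (_ : Finite L) (H : Subgroup L),
      IsFrobeniusComplement H ∧ Nonempty (H ≃* C) := by
  obtain ⟨L, i, j, H, hH, ⟨e⟩⟩ := h
  exact ⟨L, i, j, H, hH, ⟨e.symm⟩⟩

end Cfsg.Agent.Frobenius
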