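import Cfsg.Agent.S3378
import Cfsg.Agent.H66.SLTwoFive
import Cfsg.Agent.H25.SL23
import Cfsg.Agent.Frobenius.Construct

/-!
# The binary tetrahedral and icosahedral groups as Frobenius complements
-/

set_option autoImplicit false

namespace Cfsg.Agent.Frobenius.Binary

open Matrix

/-- An element of order 4 of `SL(2,5)`. -/
def c5 : SpecialLinearGroup (Fin 2) (ZMod 5) := ⟨!![0, 1; 4, 0], by decide⟩

/-- An element of order 3 of `SL(2,5)`. -/
def g5 : SpecialLinearGroup (Fin 2) (ZMod 5) := ⟨!![1, 1; 2, 3], by decide⟩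

theorem rel5 : H25.SL23Rel c5 g5 :=
  ⟨by decide +kernel, by decide +kernel, by decide +kernel, by decide +kernel, by decide +kernel⟩

theorem g5_notMem_range (x : QuaternionGroup 2) :
    H25.quaternionHom c5 (g5 * c5 * g5⁻¹) rel5.c4 rel5.ysq rel5.inv x ≠ g5 := by
  revert x
  decide +kernel

/-- `SL(2,3)` embeds in `SL(2,5)`. -/
theorem exists_sl23_into_sl25 : ∃ f : SpecialLinearGroup (Fin 2) (ZMod 3) →*
    SpecialLinearGroup (Fin 2) (ZMod 5), Function.Injective f := by
  have hg : g5 ∉ Subgroup.closure ({c5, g5 * c5 * g5⁻¹} : Set _) := by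
    intro hm
    have hle : Subgroup.closure ({c5, g5 * c5 * g5⁻¹} : Set _) ≤
        (H25.quaternionHom c5 (g5 * c5 * g5⁻¹) rel5.c4 rel5.ysq rel5.inv).range := by
      rw [Subgroup.closure_le]
      rintro w (rfl | rfl)
      · exact ⟨QuaternionGroup.a 1, by decide +kernel⟩
      · exact ⟨QuaternionGroup.xa 0, by decide +kernel⟩
    obtain ⟨x, hx⟩ := hle hm
    exact g5_notMem_range x hx
  obtain ⟨f, hf, -, -⟩ := H25.exists_model_hom rel5 (by decide +kernel) hg
  obtain ⟨e⟩ := H25.nonempty_model_equiv_SL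
  exact ⟨f.comp e.symm.toMonoidHom, hf.comp e.symm.injective⟩

/-- An element of order 3 of `SL(2,11)`. -/
def x11 : SpecialLinearGroup (Fin 2) (ZMod 11) := ⟨!![0, 2; 5, 10], by decide⟩

/-- An element of order 5 of `SL(2,11)`. -/
def y11 : SpecialLinearGroup (Fin 2) (ZMod 11) := ⟨!![0, 1; 10, 3], by decide⟩

/-- The central involution of `SL(2,11)`. -/
def z11 : SpecialLinearGroup (Fin 2) (ZMod 11) := ⟨!![10, 0; 0, 10], by decide⟩

theorem words_injective : ∀ w ∈ H66.slWords,
    (w.map fun b => cond b x11 y11).prod = 1 →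
      (w.map fun b => cond b H66.xSL H66.ySL).prod = 1 := by
  decide +kernel

theorem rels_sl25 : ∀ r ∈ S3378.rels,
    FreeGroup.lift ![H66.xSL, H66.ySL, H66.zSL] r = 1 := by
  rintro r (rfl | rfl | rfl | rfl | rfl | rfl)
  · simpa using H66.xSL_pow
  · simpa using H66.ySL_pow
  · simpa using H66.zSL_pow
  · simpa using S3378.inv_conj_eq H66.zSL_comm_x
  · simpa using S3378.inv_conj_eq H66.zSL_comm_y
  · simp [H66.xySL_pow]

theorem rels_sl211 : ∀ r ∈ S3378.rels, FreeGroup.lift ![x11, y11, z11] r = 1 := by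
  rintro r (rfl | rfl | rfl | rfl | rfl | rfl)
  · simpa using (show x11 ^ 3 = 1 by decide +kernel)
  · simpa using (show y11 ^ 5 = 1 by decide +kernel)
  · simpa using (show z11 ^ 2 = 1 by decide +kernel)
  · simpa using S3378.inv_conj_eq (show z11 * x11 = x11 * z11 by decide +kernel)
  · simpa using S3378.inv_conj_eq (show z11 * y11 = y11 * z11 by decide +kernel)
  · simp [show (x11 * y11) ^ 2 = z11 by decide +kernel]

/-- `SL(2,5)` embeds in `SL(2,11)`. -/
theorem exists_sl25_into_sl211 : ∃ f : SpecialLinearGroup (Fin 2) (ZMod 5) →*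
    SpecialLinearGroup (Fin 2) (ZMod 11), Function.Injective f := by
  let φ := PresentedGroup.toGroup rels_sl25
  let ψ := PresentedGroup.toGroup rels_sl211
  let wd : List Bool → PresentedGroup S3378.rels := fun w =>
    (w.map fun b => cond b (PresentedGroup.of (0 : Fin 3)) (PresentedGroup.of 1)).prod
  have hφ : ∀ w, φ (wd w) = (w.map fun b => cond b H66.xSL H66.ySL).prod := fun w => by
    simp only [wd, map_list_prod, List.map_map]
    congr 1
    exact List.map_congr_left fun b _ => by cases b <;> simp [φ]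
  have hψ : ∀ w, ψ (wd w) = (w.map fun b => cond b x11 y11).prod := fun w => by
    simp only [wd, map_list_prod, List.map_map]
    congr 1
    exact List.map_congr_left fun b _ => by cases b <;> simp [ψ]
  have hsur : Function.Surjective φ := fun g => by
    obtain ⟨w, -, rfl⟩ := List.mem_map.1 (H66.mem_slWords g)
    exact ⟨wd w, hφ w⟩
  obtain ⟨e⟩ := S3378.presented_SL
  haveI : Finite (PresentedGroup S3378.rels) := Finite.of_equiv _ e.symm.toEquiv
  have hbij : Function.Bijective φ :=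
    (Nat.bijective_iff_surjective_and_card φ).mpr ⟨hsur, Nat.card_congr e.toEquiv⟩
  let i := MulEquiv.ofBijective φ hbij
  refine ⟨ψ.comp i.symm.toMonoidHom, (injective_iff_map_eq_one _).2 fun g hg => ?_⟩
  obtain ⟨w, hw, rfl⟩ := List.mem_map.1 (H66.mem_slWords g)
  have hi : i.symm ((w.map fun b => cond b H66.xSL H66.ySL).prod) = wd w := by
    rw [MulEquiv.symm_apply_eq]
    exact (hφ w).symm
  refine words_injective w hw ?_
  rw [← hψ w, ← hi]
  exact hg

/-- `SL(2,3)` is a Frobenius complement. -/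
theorem sl23 : ∃ (L : Type) (_ : Group L) (_ : Finite L) (H : Subgroup L),
    Cfsg.IsFrobeniusComplement H ∧ Nonempty (SpecialLinearGroup (Fin 2) (ZMod 3) ≃* H) := by
  obtain ⟨f, hf⟩ := exists_sl23_into_sl25
  haveI : Fact (Nat.Prime 5) := ⟨by norm_num⟩
  haveI : Nontrivial (SpecialLinearGroup (Fin 2) (ZMod 3)) := ⟨⟨H25.slG, 1, by decide⟩⟩
  refine exists_of_sl2 5 ?_ f hf
  rw [Nat.card_eq_fintype_card, show Fintype.card (SpecialLinearGroup (Fin 2) (ZMod 3)) = 24 by
    decide +kernel]
  decide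

/-- `SL(2,5)` is a Frobenius complement. -/
theorem sl25 : ∃ (L : Type) (_ : Group L) (_ : Finite L) (H : Subgroup L),
    Cfsg.IsFrobeniusComplement H ∧ Nonempty (SpecialLinearGroup (Fin 2) (ZMod 5) ≃* H) := by
  obtain ⟨f, hf⟩ := exists_sl25_into_sl211
  haveI : Fact (Nat.Prime 11) := ⟨by norm_num⟩
  haveI : Nontrivial (SpecialLinearGroup (Fin 2) (ZMod 5)) :=
    ⟨⟨H66.ySL, 1, by decide +kernel⟩⟩
  refine exists_of_sl2 11 ?_ f hf
  rw [H66.card_SL25]
  decide

end Cfsg.Agent.Frobenius.Binary
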