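import Cfsg.Agent.Frobenius.FPFModule
import Mathlib.Algebra.Module.ZMod
import Mathlib.LinearAlgebra.Dual.Lemmas
import Mathlib.GroupTheory.SpecificGroups.Cyclic

/-!
# Direct products of Frobenius complements
-/

set_option autoImplicit false

namespace Cfsg.Agent.Frobenius

universe u u' v v'

/-- A subgroup, up to embedding, of a Frobenius complement is a Frobenius complement. -/
theorem exists_of_injective {C : Type u} [Group C] [Finite C] [Nontrivial C]
    {L : Type v} [Group L] [Finite L] {H : Subgroup L} (hH : IsFrobeniusComplement H)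
    (f : C →* H) (hf : Function.Injective f) :
    ∃ (L' : Type) (_ : Group L') (_ : Finite L') (H' : Subgroup L'),
      IsFrobeniusComplement H' ∧ Nonempty (C ≃* H') := by
  obtain ⟨ℓ, hle, hℓ⟩ := Nat.exists_infinite_primes (Nat.card C + 1)
  haveI := Fact.mk hℓ
  have hnd : ¬ ℓ ∣ Nat.card C := fun h => by
    have := Nat.le_of_dvd Nat.card_pos h
    omega
  obtain ⟨V, _, _, _, ρ, -, hfpf⟩ :=
    FPFRep.exists_finite_module hnd ((FPFRep.of_complement hH f hf).2 ℓ)
  exact exists_of_module ρ hfpf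

/-- Non-zero homomorphisms between elementary abelian groups. -/
theorem nontrivial_hom {ℓ : ℕ} [Fact ℓ.Prime] {V W : Type*} [AddCommGroup V] [AddCommGroup W]
    [Nontrivial V] [Nontrivial W] [Module (ZMod ℓ) V] [Module (ZMod ℓ) W] :
    Nontrivial (V →+ W) := by
  obtain ⟨v, hv⟩ := exists_ne (0 : V)
  obtain ⟨w, hw⟩ := exists_ne (0 : W)
  obtain ⟨φ, hφ⟩ := Submodule.exists_dual_map_eq_bot_of_notMem (R := ZMod ℓ)
    (p := (⊥ : Submodule (ZMod ℓ) V)) (x := v) (by simpa using hv) inferInstance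
  refine ⟨⟨(φ.smulRight w).toAddMonoidHom, 0, fun h => ?_⟩⟩
  exact (smul_ne_zero hφ.1 hw) (DFunLike.congr_fun h v)

/-- Products of complements of coprime orders. -/
theorem exists_prod {A : Type u} {B : Type u'} [Group A] [Finite A] [Nontrivial A] [Group B] [Finite B]
    {ℓ : ℕ} [Fact ℓ.Prime] (hco : (Nat.card A).Coprime (Nat.card B))
    {V : Type v} {W : Type v'} [AddCommGroup V] [AddCommGroup W] [Finite V] [Finite W] [Nontrivial V]
    [Nontrivial W] (hV : ∀ x : V, ℓ • x = 0) (hW : ∀ x : W, ℓ • x = 0)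
    (ρ : A →* AddMonoid.End V) (σ : B →* AddMonoid.End W)
    (hρ : ∀ a, a ≠ 1 → ∀ x, ρ a x = x → x = 0) (hσ : ∀ b, b ≠ 1 → ∀ x, σ b x = x → x = 0) :
    ∃ (L : Type) (_ : Group L) (_ : Finite L) (H : Subgroup L),
      IsFrobeniusComplement H ∧ Nonempty ((A × B) ≃* H) := by
  haveI : Nontrivial (V →+ W) := @nontrivial_hom ℓ _ V W _ _ _ _
    (AddCommGroup.zmodModule hV) (AddCommGroup.zmodModule hW)
  haveI : Finite (V →+ W) := Finite.of_injective (fun f => ⇑f) DFunLike.coe_injective
  let τ : A × B →* AddMonoid.End (V →+ W) :=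
    { toFun := fun c => AddMonoidHom.mk'
        (fun f => (σ c.2 : W →+ W).comp (f.comp (ρ c.1⁻¹ : V →+ V)))
        (fun f g => by
          ext x
          exact map_add (σ c.2) _ _)
      map_one' := by
        refine AddMonoidHom.ext fun f => AddMonoidHom.ext fun x => ?_
        change σ (1 : B) (f (ρ (1 : A)⁻¹ x)) = f x
        rw [inv_one, map_one, map_one]
        rfl
      map_mul' := fun c d => by
        refine AddMonoidHom.ext fun f => AddMonoidHom.ext fun x => ?_
        change σ (c.2 * d.2) (f (ρ (c.1 * d.1)⁻¹ x)) = σ c.2 (σ d.2 (f (ρ d.1⁻¹ (ρ c.1⁻¹ x))))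
        rw [mul_inv_rev, map_mul, map_mul]
        rfl }
  refine exists_of_module τ fun c hc f hf => ?_
  have hpow : ∀ n : ℕ, τ (c ^ n) f = f := by
    intro n
    induction n with
    | zero => rw [pow_zero, map_one]; rfl
    | succ n ih => rw [pow_succ, map_mul]; exact (congrArg (τ (c ^ n)) hf).trans ih
  by_cases ha : c.1 ^ Nat.card B = 1
  · have h1 : c.1 = 1 := orderOf_eq_one_iff.1
      (Nat.eq_one_of_dvd_coprimes hco (orderOf_dvd_natCard _) (orderOf_dvd_of_pow_eq_one ha))
    have h2 : c.2 ≠ 1 := fun e => hc (Prod.ext h1 e)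
    ext x
    refine hσ c.2 h2 _ ?_
    have e := DFunLike.congr_fun hf x
    change σ c.2 (f (ρ c.1⁻¹ x)) = f x at e
    rwa [h1, inv_one, map_one] at e
  · have hb : (c ^ Nat.card B).2 = 1 := pow_card_eq_one'
    have ha' : ((c ^ Nat.card B).1)⁻¹ ≠ 1 := fun e => ha (inv_eq_one.1 e)
    set d := c ^ Nat.card B with hd
    have hinj : Function.Injective (fun x : V => ρ d.1⁻¹ x - x) := fun x y e => by
      simp only at e
      refine sub_eq_zero.1 (hρ _ ha' (x - y) ?_)
      rw [map_sub]
      exact sub_eq_sub_iff_sub_eq_sub.1 e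
    ext x
    obtain ⟨y, rfl⟩ := (Finite.surjective_of_injective hinj) x
    have e := DFunLike.congr_fun (hpow (Nat.card B)) y
    change σ d.2 (f (ρ d.1⁻¹ y)) = f y at e
    rw [hb, map_one] at e
    rw [map_sub, AddMonoidHom.zero_apply, sub_eq_zero]
    exact e

/-- Two commuting independent elements of the same prime order do not fit in a complement. -/
theorem coprime_of_prod {A : Type u} {B : Type u'} [Group A] [Finite A] [Group B] [Finite B]
    {L : Type v} [Group L] [Finite L] {H : Subgroup L} (hH : IsFrobeniusComplement H)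
    (e : (A × B) ≃* H) : (Nat.card A).Coprime (Nat.card B) := by
  refine Nat.coprime_of_dvd fun p hp hpA hpB => ?_
  haveI := Fact.mk hp
  obtain ⟨a, ha⟩ := exists_prime_orderOf_dvd_card' (G := A) p hpA
  obtain ⟨b, hb⟩ := exists_prime_orderOf_dvd_card' (G := B) p hpB
  let g : A × B →* L := H.subtype.comp e.toMonoidHom
  have hg : Function.Injective g := H.subtype_injective.comp e.injective
  let Q : Subgroup (A × B) := (Subgroup.zpowers a).prod (Subgroup.zpowers b)
  let q : ↥Q ≃* ↥(Subgroup.zpowers a) × ↥(Subgroup.zpowers b) := Subgroup.prodEquiv _ _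
  have hcard : Nat.card (Q.map g) = p ^ 2 := by
    rw [Subgroup.card_map_of_injective hg, Nat.card_congr q.toEquiv, Nat.card_prod,
      Nat.card_zpowers, Nat.card_zpowers, ha, hb, sq]
  have hle : Q.map g ≤ H := by
    rintro _ ⟨x, -, rfl⟩
    exact (e x).2
  have hcyc : IsCyclic (↥(Subgroup.zpowers a) × ↥(Subgroup.zpowers b)) :=
    ((Q.equivMapOfInjective g hg).symm.trans q).isCyclic.1 (isCyclic_of_card_sq_le hH hle p hcard)
  obtain ⟨-, -, hc⟩ := Group.isCyclic_prod_iff.1 hcyc
  rw [Nat.card_zpowers, Nat.card_zpowers, ha, hb, Nat.coprime_self] at hc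
  exact hp.ne_one hc

end Cfsg.Agent.Frobenius
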