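import Cfsg.Agent.Frobenius.FPFRep
import Mathlib.LinearAlgebra.Matrix.ToLin
import Mathlib.LinearAlgebra.Matrix.GeneralLinearGroup.Defs
import Mathlib.LinearAlgebra.FreeModule.Finite.Basic

/-!
# Fixed-point-free modules from the norm ideal
-/

set_option autoImplicit false

namespace Cfsg.Agent.Frobenius.FPFRep

open MonoidAlgebra

universe u v

variable {G : Type u} [Group G]

/-- The norm ideal as a left ideal. -/
def idealJ (k : Type v) [CommRing k] (G : Type u) [Group G] : Ideal (MonoidAlgebra k G) where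
  carrier := J k G
  add_mem' := fun ha hb => Submodule.add_mem _ ha hb
  zero_mem' := Submodule.zero_mem _
  smul_mem' := fun a _ hv => mul_mem_left a hv

variable [Finite G]

/-- In coprime characteristic the quotient by any left ideal containing the norm ideal is
fixed-point-free. -/
theorem eq_zero_of_fixed {k : Type v} [Field k] (hk : (Nat.card G : k) ≠ 0)
    (I : Ideal (MonoidAlgebra k G)) (hI : idealJ k G ≤ I) {g : G} (hg : g ≠ 1)
    (v : MonoidAlgebra k G ⧸ I) (hv : of k G g • v = v) : v = 0 := by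
  obtain ⟨a, rfl⟩ := Submodule.Quotient.mk_surjective _ v
  have hpow : ∀ i : ℕ, of k G g ^ i • (Submodule.Quotient.mk a : MonoidAlgebra k G ⧸ I) =
      Submodule.Quotient.mk a := by
    intro i
    induction i with
    | zero => rw [pow_zero, one_smul]
    | succ i ih => rw [pow_succ, mul_smul, hv, ih]
  have h0 : normElt k g • (Submodule.Quotient.mk a : MonoidAlgebra k G ⧸ I) = 0 := by
    rw [← Submodule.Quotient.mk_smul, Submodule.Quotient.mk_eq_zero, smul_eq_mul]
    exact hI (mul_mem_right a (normElt_mem hg))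
  rw [normElt, Finset.sum_smul, Finset.sum_congr rfl fun i _ => hpow i, Finset.sum_const,
    Finset.card_range] at h0
  have hq : (orderOf g : k) ≠ 0 := by
    intro h
    obtain ⟨c, hc⟩ := orderOf_dvd_natCard g
    exact hk (by rw [hc, Nat.cast_mul, h, zero_mul])
  rw [← Nat.cast_smul_eq_nsmul k] at h0
  exact (smul_eq_zero.1 h0).resolve_left hq

/-- An irreducible fixed-point-free matrix representation. -/
theorem exists_irreducible {K : Type v} [Field K] [CharZero K]
    (h : (1 : MonoidAlgebra K G) ∉ J K G) :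
    ∃ (n : ℕ) (ρ : G →* GL (Fin n) K), 0 < n ∧
      (∀ W : Submodule K (Fin n → K),
        (∀ g : G, ∀ w ∈ W, ((ρ g : GL (Fin n) K) : Matrix (Fin n) (Fin n) K).mulVec w ∈ W) →
          W = ⊥ ∨ W = ⊤) ∧
      ∀ g : G, g ≠ 1 → ∀ v : Fin n → K,
        ((ρ g : GL (Fin n) K) : Matrix (Fin n) (Fin n) K).mulVec v = v → v = 0 := by
  have hne : idealJ K G ≠ ⊤ := fun e => h ((Ideal.eq_top_iff_one _).1 e)
  obtain ⟨M, hM, hle⟩ := Ideal.exists_le_maximal _ hne
  haveI : Module.Finite K (MonoidAlgebra K G) :=
    Module.Finite.equiv (MonoidAlgebra.coeffLinearEquiv K).symm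
  let V := MonoidAlgebra K G ⧸ M
  haveI : Module.Finite K V :=
    Module.Finite.of_surjective ((M.mkQ).restrictScalars K) (Submodule.mkQ_surjective _)
  let b := Module.finBasis K V
  let act : MonoidAlgebra K G →ₐ[K] Module.End K V := Algebra.lsmul K K V
  let ρ : G →* GL (Fin (Module.finrank K V)) K :=
    (Units.map (LinearMap.toMatrixAlgEquiv b).toAlgHom.toMonoidHom).comp
      ((act.toMonoidHom.comp (of K G)).toHomUnits)
  have hρ : ∀ g v, ((ρ g : GL _ K) : Matrix _ _ K).mulVec (b.equivFun v) =
      b.equivFun (of K G g • v) := fun g v =>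
    LinearMap.toMatrix_mulVec_repr b b (act (of K G g)) v
  refine ⟨Module.finrank K V, ρ, ?_, ?_, ?_⟩
  · haveI : Nontrivial V := Submodule.Quotient.nontrivial_iff.2 hM.ne_top
    exact Module.finrank_pos
  · intro W hW
    let U : Ideal (MonoidAlgebra K G) :=
      { carrier := {x | b.equivFun (Submodule.Quotient.mk x : V) ∈ W}
        add_mem' := fun {x y} hx hy => by
          simp only [Set.mem_setOf_eq, Submodule.Quotient.mk_add, map_add] at *
          exact W.add_mem hx hy
        zero_mem' := by simp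
        smul_mem' := fun a x hx => by
          simp only [Set.mem_setOf_eq, Submodule.Quotient.mk_smul] at *
          generalize (Submodule.Quotient.mk x : V) = w at hx ⊢
          induction a using MonoidAlgebra.induction_on with
          | of g => rw [← hρ]; exact hW g _ hx
          | add a c ha hc => rw [add_smul, map_add]; exact W.add_mem ha hc
          | smul c a ha => rw [smul_assoc, map_smul]; exact W.smul_mem c ha }
    have hMU : M ≤ U := fun x hx => by
      change b.equivFun (Submodule.Quotient.mk x : V) ∈ W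
      rw [(Submodule.Quotient.mk_eq_zero M).2 hx, map_zero]
      exact W.zero_mem
    by_cases hU : U = ⊤
    · refine Or.inr (eq_top_iff.2 fun w _ => ?_)
      obtain ⟨x, hx⟩ := Submodule.Quotient.mk_surjective M (b.equivFun.symm w)
      have hxU : x ∈ U := hU ▸ Submodule.mem_top
      change b.equivFun (Submodule.Quotient.mk x : V) ∈ W at hxU
      rwa [hx, LinearEquiv.apply_symm_apply] at hxU
    · refine Or.inl (eq_bot_iff.2 fun w hw => ?_)
      obtain ⟨x, hx⟩ := Submodule.Quotient.mk_surjective M (b.equivFun.symm w)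
      have hxU : x ∈ U := by
        change b.equivFun (Submodule.Quotient.mk x : V) ∈ W
        rwa [hx, LinearEquiv.apply_symm_apply]
      rw [← hM.eq_of_le hU hMU, ← Submodule.Quotient.mk_eq_zero M, hx] at hxU
      rw [Submodule.mem_bot, ← LinearEquiv.map_eq_zero_iff b.equivFun.symm]
      exact hxU
  · intro g hg v hv
    obtain ⟨u, rfl⟩ := b.equivFun.surjective v
    rw [hρ, b.equivFun.injective.eq_iff] at hv
    rw [eq_zero_of_fixed (Nat.cast_ne_zero.2 Nat.card_pos.ne') M hle hg u hv, map_zero]

/-- A finite fixed-point-free module modulo `ℓ`. -/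
theorem exists_finite_module {ℓ : ℕ} [Fact ℓ.Prime] (hℓ : ¬ ℓ ∣ Nat.card G)
    (h : (1 : MonoidAlgebra (ZMod ℓ) G) ∉ J (ZMod ℓ) G) :
    ∃ (V : Type u) (_ : AddCommGroup V) (_ : Finite V) (_ : Nontrivial V)
      (ρ : G →* AddMonoid.End V), (∀ v : V, ℓ • v = 0) ∧
      ∀ g : G, g ≠ 1 → ∀ v, ρ g v = v → v = 0 := by
  let I := idealJ (ZMod ℓ) G
  have hne : I ≠ ⊤ := fun e => h ((Ideal.eq_top_iff_one _).1 e)
  haveI : Finite (MonoidAlgebra (ZMod ℓ) G) := Finite.of_injective (fun x => ⇑x.coeff) fun x y e => coeff_injective (DFunLike.coe_injective e)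
  haveI : Finite (MonoidAlgebra (ZMod ℓ) G ⧸ I) := Quotient.finite _
  refine ⟨MonoidAlgebra (ZMod ℓ) G ⧸ I, inferInstance, inferInstance,
    Submodule.Quotient.nontrivial_iff.2 hne,
    (Module.toAddMonoidEnd (MonoidAlgebra (ZMod ℓ) G) _).toMonoidHom.comp (of (ZMod ℓ) G),
    fun v => ?_, fun g hg v hv => ?_⟩
  · rw [← Nat.cast_smul_eq_nsmul (ZMod ℓ), ZMod.natCast_self, zero_smul]
  · exact eq_zero_of_fixed (by rwa [Ne, ZMod.natCast_eq_zero_iff]) I le_rfl hg v hv

end Cfsg.Agent.Frobenius.FPFRep
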