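import Cfsg.Agent.Frobenius.Structure
import Cfsg.Agent.Frobenius.Construct
import Mathlib.RepresentationTheory.Maschke
import Mathlib.RingTheory.SimpleModule.Basic
import Mathlib.RingTheory.Nakayama
import Mathlib.RingTheory.Finiteness.Basic
import Mathlib.LinearAlgebra.Dual.Lemmas

/-!
# Fixed-point-free representations in arbitrary coprime characteristic

For a finite group `G` let `J k` be the two-sided ideal of `k[G]` generated by the norm elements
of the non-trivial elements.  `G` has a non-zero fixed-point-free representation over `k` exactly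
when `1 ∉ J k`, and this does not depend on the coprime characteristic.
-/

set_option autoImplicit false

namespace Cfsg.Agent.Frobenius.FPFRep

open MonoidAlgebra

universe u v

variable (k : Type v) [CommRing k] (G : Type u) [Group G]

/-- The norm element of `g`. -/
noncomputable def normElt {G : Type u} [Group G] (g : G) : MonoidAlgebra k G :=
  ∑ i ∈ Finset.range (orderOf g), of k G g ^ i

/-- Generators of the norm ideal. -/
def gens : Set (MonoidAlgebra k G) :=
  {s | ∃ x g y : G, g ≠ 1 ∧ of k G x * normElt k g * of k G y = s}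

/-- The norm ideal, as a `k`-submodule. -/
noncomputable def J : Submodule k (MonoidAlgebra k G) := Submodule.span k (gens k G)

variable {k G}

theorem of_mul_mem (x : G) {v : MonoidAlgebra k G} (hv : v ∈ J k G) : of k G x * v ∈ J k G := by
  induction hv using Submodule.span_induction with
  | mem s hs =>
    obtain ⟨a, g, y, hg, rfl⟩ := hs
    exact Submodule.subset_span ⟨x * a, g, y, hg, by simp only [map_mul, mul_assoc]⟩
  | zero => rw [mul_zero]; exact Submodule.zero_mem _
  | add u w _ _ hu hw => rw [mul_add]; exact Submodule.add_mem _ hu hw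
  | smul c u _ hu => rw [mul_smul_comm]; exact Submodule.smul_mem _ c hu

theorem mem_mul_of (x : G) {v : MonoidAlgebra k G} (hv : v ∈ J k G) : v * of k G x ∈ J k G := by
  induction hv using Submodule.span_induction with
  | mem s hs =>
    obtain ⟨a, g, y, hg, rfl⟩ := hs
    exact Submodule.subset_span ⟨a, g, y * x, hg, by simp only [map_mul, mul_assoc]⟩
  | zero => rw [zero_mul]; exact Submodule.zero_mem _
  | add u w _ _ hu hw => rw [add_mul]; exact Submodule.add_mem _ hu hw
  | smul c u _ hu => rw [smul_mul_assoc]; exact Submodule.smul_mem _ c hu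

theorem mul_mem_left (a : MonoidAlgebra k G) {v : MonoidAlgebra k G} (hv : v ∈ J k G) :
    a * v ∈ J k G := by
  induction a using MonoidAlgebra.induction_on with
  | of g => exact of_mul_mem g hv
  | add a b ha hb => rw [add_mul]; exact Submodule.add_mem _ ha hb
  | smul c a ha => rw [smul_mul_assoc]; exact Submodule.smul_mem _ c ha

theorem mul_mem_right (a : MonoidAlgebra k G) {v : MonoidAlgebra k G} (hv : v ∈ J k G) :
    v * a ∈ J k G := by
  induction a using MonoidAlgebra.induction_on with
  | of g => exact mem_mul_of g hv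
  | add a b ha hb => rw [mul_add]; exact Submodule.add_mem _ ha hb
  | smul c a ha => rw [mul_smul_comm]; exact Submodule.smul_mem _ c ha

theorem normElt_mem {g : G} (hg : g ≠ 1) : normElt k g ∈ J k G :=
  Submodule.subset_span ⟨1, g, 1, hg, by simp only [map_one, one_mul, mul_one]⟩

theorem of_mul_normElt (g : G) : of k G g * normElt k g = normElt k g := by
  have h := mul_geom_sum (of k G g) (orderOf g)
  rw [← map_pow, pow_orderOf_eq_one, map_one, sub_self, sub_mul, one_mul, sub_eq_zero] at h
  exact h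

theorem normElt_mul_self (g : G) :
    normElt k g * normElt k g = (orderOf g : MonoidAlgebra k G) * normElt k g := by
  conv_lhs => arg 1; rw [normElt]
  have h : ∀ i : ℕ, of k G g ^ i * normElt k g = normElt k g := by
    intro i
    induction i with
    | zero => rw [pow_zero, one_mul]
    | succ i ih => rw [pow_succ, mul_assoc, of_mul_normElt, ih]
  rw [Finset.sum_mul, Finset.sum_congr rfl fun i _ => h i, Finset.sum_const, Finset.card_range,
    nsmul_eq_mul]

theorem normElt_pow (g : G) (n : ℕ) :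
    normElt k g ^ (n + 1) = (orderOf g : MonoidAlgebra k G) ^ n * normElt k g := by
  induction n with
  | zero => rw [pow_one, pow_zero, one_mul]
  | succ n ih => rw [pow_succ, ih, mul_assoc, normElt_mul_self, ← mul_assoc, ← pow_succ]

/-- Reduction of integral coefficients. -/
noncomputable def red (k : Type v) [CommRing k] (G : Type u) [Group G] :
    MonoidAlgebra ℤ G →+* MonoidAlgebra k G :=
  mapRingHom G (Int.castRingHom k)

theorem red_of (x : G) : red k G (of ℤ G x) = of k G x := by
  simp [red, of_apply]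

theorem red_normElt (g : G) : red k G (normElt ℤ g) = normElt k g := by
  simp only [normElt, map_sum, map_pow, red_of]

theorem red_mem {w : MonoidAlgebra ℤ G} (hw : w ∈ J ℤ G) : red k G w ∈ J k G := by
  induction hw using Submodule.span_induction with
  | mem s hs =>
    obtain ⟨x, g, y, hg, rfl⟩ := hs
    exact Submodule.subset_span ⟨x, g, y, hg, by rw [map_mul, map_mul, red_of, red_of, red_normElt]⟩
  | zero => rw [map_zero]; exact Submodule.zero_mem _
  | add u w _ _ hu hw => rw [map_add]; exact Submodule.add_mem _ hu hw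
  | smul c u _ hu =>
    rw [map_zsmul, ← Int.cast_smul_eq_zsmul k]
    exact Submodule.smul_mem _ _ hu

theorem exists_red_eq (hk : Function.Surjective (Int.cast : ℤ → k)) {v : MonoidAlgebra k G}
    (hv : v ∈ J k G) : ∃ w ∈ J ℤ G, red k G w = v := by
  induction hv using Submodule.span_induction with
  | mem s hs =>
    obtain ⟨x, g, y, hg, rfl⟩ := hs
    exact ⟨_, Submodule.subset_span ⟨x, g, y, hg, rfl⟩,
      by rw [map_mul, map_mul, red_of, red_of, red_normElt]⟩
  | zero => exact ⟨0, Submodule.zero_mem _, map_zero _⟩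
  | add u w _ _ hu hw =>
    obtain ⟨u', hu1, rfl⟩ := hu
    obtain ⟨w', hw1, rfl⟩ := hw
    exact ⟨u' + w', Submodule.add_mem _ hu1 hw1, map_add _ _ _⟩
  | smul c u _ hu =>
    obtain ⟨u', hu1, rfl⟩ := hu
    obtain ⟨z, rfl⟩ := hk c
    exact ⟨z • u', Submodule.smul_mem _ z hu1, by rw [map_zsmul, Int.cast_smul_eq_zsmul]⟩

/-- An element with vanishing reduction modulo `p` is divisible by `p`. -/
theorem exists_eq_mul_of_red_eq_zero [Finite G] (p : ℕ) {z : MonoidAlgebra ℤ G}
    (hz : red (ZMod p) G z = 0) : ∃ y, z = (p : MonoidAlgebra ℤ G) * y := by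
  refine ⟨ofCoeff (Finsupp.equivFunOnFinite.symm fun h => z.coeff h / p), MonoidAlgebra.ext ?_⟩
  ext h
  have hd : (p : ℤ) ∣ z.coeff h := by
    rw [← ZMod.intCast_zmod_eq_zero_iff_dvd]
    have := congrArg (fun t : MonoidAlgebra (ZMod p) G => t.coeff h) hz
    simpa [red, coeff_mapRingHom] using this
  rw [← nsmul_eq_mul, coeff_smul_apply, nsmul_eq_mul]
  simpa using (Int.mul_ediv_cancel' hd).symm

variable [Finite G]

/-- The central idempotent annihilating the norm ideal. -/
theorem exists_central_idempotent {F : Type v} [Field F] [NeZero (Nat.card G : F)]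
    (h : (1 : MonoidAlgebra F G) ∉ J F G) :
    ∃ f : MonoidAlgebra F G, f * f = f ∧ f ≠ 0 ∧ (∀ a, a * f = f * a) ∧
      ∀ s ∈ J F G, s * f = 0 := by
  let I : Ideal (MonoidAlgebra F G) :=
    { carrier := J F G
      add_mem' := fun ha hb => Submodule.add_mem _ ha hb
      zero_mem' := Submodule.zero_mem _
      smul_mem' := fun a _ hv => mul_mem_left a hv }
  obtain ⟨e, he, hI⟩ := IsSemisimpleRing.ideal_eq_span_idempotent I
  have hmem : ∀ x, x ∈ J F G ↔ ∃ a, a * e = x := fun x => by
    change x ∈ I ↔ _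
    rw [hI]
    exact Ideal.mem_span_singleton'
  have hright : ∀ x ∈ J F G, x * e = x := fun x hx => by
    obtain ⟨a, rfl⟩ := (hmem x).1 hx
    rw [mul_assoc, he]
  have heJ : e ∈ J F G := (hmem e).2 ⟨1, one_mul e⟩
  have hea : ∀ a, e * a * e = e * a := fun a => hright _ (mul_mem_right a heJ)
  have hcomm : ∀ a, a * e = e * a := by
    intro a
    have hw : ∀ b, (1 - e) * a * e * b * ((1 - e) * a * e) = 0 := fun b => by
      rw [show (1 - e) * a * e * b * ((1 - e) * a * e) =
        (1 - e) * a * (e * b - e * b * e) * (a * e) by noncomm_ring, hea, sub_self, mul_zero,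
        zero_mul]
    obtain ⟨f, hf, hL⟩ := IsSemisimpleRing.ideal_eq_span_idempotent
      (Ideal.span {(1 - e) * a * e})
    obtain ⟨b, hb⟩ : ∃ b, b * ((1 - e) * a * e) = f :=
      Ideal.mem_span_singleton'.1 (hL ▸ Ideal.mem_span_singleton_self f)
    have hf0 : f = 0 := by
      rw [← hf.eq, ← hb]
      calc b * ((1 - e) * a * e) * (b * ((1 - e) * a * e))
          = b * ((1 - e) * a * e * b * ((1 - e) * a * e)) := by simp only [mul_assoc]
        _ = 0 := by rw [hw, mul_zero]
    have hw0 : (1 - e) * a * e = 0 := by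
      have : (1 - e) * a * e ∈ Ideal.span {f} := hL ▸ Ideal.mem_span_singleton_self _
      rw [hf0] at this
      obtain ⟨c, hc⟩ := Ideal.mem_span_singleton'.1 this
      rw [← hc, mul_zero]
    rw [← hea, ← sub_eq_zero, ← hw0]
    noncomm_ring
  refine ⟨1 - e, he.one_sub.eq, ?_, fun a => ?_, fun s hs => ?_⟩
  · intro h0
    rw [sub_eq_zero] at h0
    exact h (h0 ▸ heJ)
  · rw [mul_sub, sub_mul, mul_one, one_mul, hcomm]
  · rw [mul_sub, mul_one, hright s hs, sub_self]

/-- Lifting: no non-zero integer lies in the integral norm ideal. -/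
theorem intCast_notMem {p : ℕ} [hp : Fact p.Prime] (hcard : ¬ p ∣ Nat.card G)
    (h : (1 : MonoidAlgebra (ZMod p) G) ∉ J (ZMod p) G) {m : ℤ} (hm : m ≠ 0) :
    (m : MonoidAlgebra ℤ G) ∉ J ℤ G := by
  haveI : NeZero (Nat.card G : ZMod p) := ⟨by rwa [Ne, ZMod.natCast_eq_zero_iff]⟩
  obtain ⟨fb, hidem, hne, hcent, hkill⟩ := exists_central_idempotent h
  intro hmJ
  let f : MonoidAlgebra ℤ G :=
    ofCoeff (Finsupp.equivFunOnFinite.symm fun h => ((fb.coeff h).val : ℤ))
  have hred : red (ZMod p) G f = fb := by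
    apply MonoidAlgebra.ext
    ext h
    simp [red, f, coeff_mapRingHom]
  have hf : ∀ a, a * f = f * a := by
    intro a
    induction a using MonoidAlgebra.induction_on with
    | of x =>
      apply MonoidAlgebra.ext
      ext h
      have e := congrArg (fun t : MonoidAlgebra (ZMod p) G => t.coeff h) (hcent (of (ZMod p) G x))
      simp only [of_apply, coeff_single_mul_apply, coeff_mul_single_apply, one_mul, mul_one] at e
      simp only [of_apply, coeff_single_mul_apply, coeff_mul_single_apply, one_mul, mul_one, f]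
      simp [e]
    | add a b ha hb => rw [add_mul, mul_add, ha, hb]
    | smul c a ha => rw [smul_mul_assoc, mul_smul_comm, ha]
  obtain ⟨n, hn⟩ := Nat.exists_eq_succ_of_ne_zero (Int.natAbs_ne_zero.2 hm)
  let P : MonoidAlgebra ℤ G := (p : MonoidAlgebra ℤ G) ^ (n + 1)
  have hP : ∀ a, P * a = a * P := fun a => ((Nat.cast_commute p a).pow_left (n + 1)).eq
  have key : ∀ s ∈ J ℤ G, ∃ z, s * f ^ (n + 1) = P * z := by
    intro s hs
    induction hs using Submodule.span_induction with
    | mem s hs =>
      obtain ⟨x, g, y, hg, rfl⟩ := hs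
      obtain ⟨z₀, hz₀⟩ := exists_eq_mul_of_red_eq_zero p (z := normElt ℤ g * f)
        (by rw [map_mul, red_normElt, hred]; exact hkill _ (normElt_mem hg))
      have h1 : ((orderOf g : MonoidAlgebra ℤ G) ^ n) * (normElt ℤ g * f ^ (n + 1)) =
          P * z₀ ^ (n + 1) := by
        rw [← mul_assoc, ← normElt_pow, ← Commute.mul_pow (hf _), hz₀,
          Commute.mul_pow (Nat.cast_commute _ _)]
      obtain ⟨u, v, huv⟩ : IsCoprime ((orderOf g : ℤ) ^ n) ((p : ℤ) ^ (n + 1)) :=
        (Nat.isCoprime_iff_coprime.2 ((hp.out.coprime_iff_not_dvd.2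
          fun hd => hcard (hd.trans (orderOf_dvd_natCard g))).symm)).pow
      have huv' := congrArg (fun t : ℤ => (t : MonoidAlgebra ℤ G)) huv
      simp only [Int.cast_add, Int.cast_mul, Int.cast_pow, Int.cast_natCast, Int.cast_one] at huv'
      have h2 : ∃ z, normElt ℤ g * f ^ (n + 1) = P * z := by
        refine ⟨(u : MonoidAlgebra ℤ G) * z₀ ^ (n + 1) +
          (v : MonoidAlgebra ℤ G) * (normElt ℤ g * f ^ (n + 1)), ?_⟩
        conv_lhs => rw [← one_mul (normElt ℤ g * f ^ (n + 1)), ← huv', add_mul,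
          mul_assoc (u : MonoidAlgebra ℤ G), h1]
        rw [mul_add, ← mul_assoc P, ← mul_assoc P, hP (u : MonoidAlgebra ℤ G),
          hP (v : MonoidAlgebra ℤ G)]
        simp only [P, mul_assoc]
      obtain ⟨z, hz⟩ := h2
      refine ⟨of ℤ G x * z * of ℤ G y, ?_⟩
      have hfy : Commute (of ℤ G y) (f ^ (n + 1)) := (show Commute (of ℤ G y) f from hf _).pow_right _
      rw [mul_assoc _ (of ℤ G y), hfy.eq, ← mul_assoc, mul_assoc (of ℤ G x), hz, ← mul_assoc,
        ← hP, mul_assoc P]
      simp only [mul_assoc]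
    | zero => exact ⟨0, by rw [zero_mul, mul_zero]⟩
    | add u w _ _ hu hw =>
      obtain ⟨a, ha⟩ := hu
      obtain ⟨b, hb⟩ := hw
      exact ⟨a + b, by rw [add_mul, ha, hb, mul_add]⟩
    | smul c u _ hu =>
      obtain ⟨a, ha⟩ := hu
      exact ⟨c • a, by rw [smul_mul_assoc, ha, mul_smul_comm]⟩
  obtain ⟨z, hz⟩ := key _ hmJ
  have hdiv : ∀ h, (p : ℤ) ∣ (f ^ (n + 1)).coeff h := by
    intro h
    by_contra hnd
    have e : m * (f ^ (n + 1)).coeff h = (p : ℤ) ^ (n + 1) * z.coeff h := by
      have := congrArg (fun t : MonoidAlgebra ℤ G => t.coeff h) hz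
      simp only [P, ← Nat.cast_pow, ← zsmul_eq_mul, ← nsmul_eq_mul, coeff_smul_apply] at this
      simpa [Nat.cast_pow] using this
    have hd : ((p : ℤ) ^ (n + 1)) ∣ m := by
      refine (IsCoprime.pow_left ?_).dvd_of_dvd_mul_right (Dvd.intro _ e.symm)
      exact (Prime.coprime_iff_not_dvd (Nat.prime_iff_prime_int.1 hp.out)).2 hnd
    have hle : p ^ (n + 1) ≤ n + 1 := by
      have h' := Int.natAbs_dvd_natAbs.2 hd
      rw [Int.natAbs_pow, Int.natAbs_natCast, hn] at h'
      exact Nat.le_of_dvd (Nat.succ_pos n) h'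
    exact absurd hle (not_le.2 (Nat.lt_pow_self hp.out.one_lt))
  refine hne ?_
  rw [← (IsIdempotentElem.pow_succ_eq n (show IsIdempotentElem fb from hidem)), ← hred, ← map_pow]
  apply MonoidAlgebra.ext
  ext h
  rw [red, coeff_mapRingHom]
  simpa [ZMod.intCast_zmod_eq_zero_iff_dvd] using hdiv h

/-- If `1` lies in the rational norm ideal, so does a non-zero integer in the integral one. -/
theorem exists_intCast_mem_of_rat (h : (1 : MonoidAlgebra ℚ G) ∈ J ℚ G) :
    ∃ m : ℤ, m ≠ 0 ∧ (m : MonoidAlgebra ℤ G) ∈ J ℤ G := by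
  have key : ∀ v ∈ J ℚ G, ∃ m : ℤ, m ≠ 0 ∧ ∃ w ∈ J ℤ G, red ℚ G w = m • v := by
    intro v hv
    induction hv using Submodule.span_induction with
    | mem s hs =>
      obtain ⟨x, g, y, hg, rfl⟩ := hs
      exact ⟨1, one_ne_zero, _, Submodule.subset_span ⟨x, g, y, hg, rfl⟩,
        by rw [one_smul, map_mul, map_mul, red_of, red_of, red_normElt]⟩
    | zero => exact ⟨1, one_ne_zero, 0, Submodule.zero_mem _, by rw [map_zero, smul_zero]⟩
    | add u w _ _ hu hw =>
      obtain ⟨a, ha, u', hu1, hu2⟩ := hu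
      obtain ⟨b, hb, w', hw1, hw2⟩ := hw
      exact ⟨a * b, mul_ne_zero ha hb, b • u' + a • w',
        Submodule.add_mem _ (Submodule.smul_mem _ b hu1) (Submodule.smul_mem _ a hw1),
        by rw [map_add, map_zsmul, map_zsmul, hu2, hw2, smul_smul, smul_smul, smul_add, mul_comm b]⟩
    | smul c u _ hu =>
      obtain ⟨a, ha, u', hu1, hu2⟩ := hu
      refine ⟨a * c.den, mul_ne_zero ha (by exact_mod_cast c.den_nz), c.num • u',
        Submodule.smul_mem _ _ hu1, ?_⟩
      rw [map_zsmul, hu2, ← Int.cast_smul_eq_zsmul ℚ, ← Int.cast_smul_eq_zsmul ℚ,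
        ← Int.cast_smul_eq_zsmul ℚ, smul_smul, smul_smul]
      congr 1
      push_cast
      conv_rhs => rw [mul_assoc, mul_comm (c.den : ℚ), Rat.mul_den_eq_num]
      ring
  obtain ⟨m, hm, w, hw, hwm⟩ := key 1 h
  refine ⟨m, hm, ?_⟩
  have : w = (m : MonoidAlgebra ℤ G) := by
    apply MonoidAlgebra.ext
    ext g
    have e := congrArg (fun t : MonoidAlgebra ℚ G => t.coeff g) hwm
    simp only [red, coeff_mapRingHom, coeff_smul_apply] at e
    rw [intCast_def, coeff_single]
    by_cases hg : g = 1
    · subst hg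
      simp [one_def] at e
      simpa using e
    · simp [one_def, Finsupp.single_eq_of_ne' (Ne.symm hg)] at e
      simpa [Finsupp.single_eq_of_ne' (Ne.symm hg)] using e
  exact this ▸ hw

/-- Descent from a characteristic-zero field to `ℚ`. -/
theorem one_mem_rat {K : Type v} [Field K] [CharZero K] (h : (1 : MonoidAlgebra K G) ∈ J K G) :
    (1 : MonoidAlgebra ℚ G) ∈ J ℚ G := by
  by_contra hn
  obtain ⟨φ, hφ1, hφ⟩ := Submodule.exists_dual_map_eq_bot_of_notMem hn inferInstance
  cases nonempty_fintype G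
  let ψ : MonoidAlgebra K G →ₗ[K] K :=
    { toFun := fun x => ∑ g, x.coeff g * (φ (single g 1) : K)
      map_add' := fun x y => by simp [coe_add, add_mul, Finset.sum_add_distrib]
      map_smul' := fun c x => by simp [coeff_smul_apply, Finset.mul_sum, mul_assoc] }
  have hψ : ∀ w : MonoidAlgebra ℤ G, ψ (red K G w) = (φ (red ℚ G w) : K) := by
    intro w
    induction w using MonoidAlgebra.induction_linear with
    | zero => simp
    | single g r =>
      have e : red ℚ G (single g r) = (r : ℚ) • single g 1 := by simp [red, smul_single]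
      rw [e, map_smul, smul_eq_mul, Rat.cast_mul, Rat.cast_intCast]
      change ∑ a, (red K G (single g r)).coeff a * _ = _
      rw [Finset.sum_eq_single g (fun b _ hb => by simp [red, Finsupp.single_eq_of_ne' hb.symm])
        (fun hg => absurd (Finset.mem_univ g) hg)]
      simp [red]
    | add a b ha hb => simp only [map_add, ha, hb, Rat.cast_add]
  have hker : J K G ≤ LinearMap.ker ψ := Submodule.span_le.2 fun s hs => by
    obtain ⟨x, g, y, hg, rfl⟩ := hs
    have hs' : of ℤ G x * normElt ℤ g * of ℤ G y ∈ J ℤ G :=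
      Submodule.subset_span ⟨x, g, y, hg, rfl⟩
    have h0 : φ (red ℚ G (of ℤ G x * normElt ℤ g * of ℤ G y)) = 0 := by
      have hm : φ (red ℚ G (of ℤ G x * normElt ℤ g * of ℤ G y)) ∈ (J ℚ G).map φ :=
        Submodule.mem_map_of_mem (red_mem hs')
      rwa [hφ, Submodule.mem_bot] at hm
    have := hψ (of ℤ G x * normElt ℤ g * of ℤ G y)
    rw [h0, Rat.cast_zero] at this
    simp only [map_mul (red K G), red_of, red_normElt] at this
    exact this
  refine hφ1 ?_
  have := hψ 1
  rw [map_one (red K G), map_one (red ℚ G), LinearMap.mem_ker.1 (hker h)] at this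
  exact_mod_cast this.symm

/-- Nakayama: unit norm ideal modulo `ℓ` gives a non-zero integer in the integral one. -/
theorem exists_intCast_mem_of_zmod {ℓ : ℕ} [Fact ℓ.Prime]
    (h : (1 : MonoidAlgebra (ZMod ℓ) G) ∈ J (ZMod ℓ) G) :
    ∃ m : ℤ, m ≠ 0 ∧ (m : MonoidAlgebra ℤ G) ∈ J ℤ G := by
  have htop : (⊤ : Submodule ℤ (MonoidAlgebra ℤ G ⧸ J ℤ G)) ≤
      Ideal.span {(ℓ : ℤ)} • (⊤ : Submodule ℤ (MonoidAlgebra ℤ G ⧸ J ℤ G)) := by
    intro q _
    obtain ⟨a, rfl⟩ := Submodule.Quotient.mk_surjective _ q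
    obtain ⟨w, hw, hwa⟩ := exists_red_eq ZMod.intCast_surjective
      (mul_mem_left (red (ZMod ℓ) G a) h)
    rw [mul_one] at hwa
    obtain ⟨y, hy⟩ := exists_eq_mul_of_red_eq_zero ℓ (z := a - w) (by rw [map_sub, hwa, sub_self])
    have : Submodule.Quotient.mk (p := J ℤ G) a = (ℓ : ℤ) • Submodule.Quotient.mk y := by
      rw [← Submodule.Quotient.mk_smul, Submodule.Quotient.eq, natCast_zsmul, nsmul_eq_mul, ← hy,
        sub_sub_cancel]
      exact hw
    rw [this]
    exact Submodule.smul_mem_smul (Ideal.mem_span_singleton_self _) Submodule.mem_top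
  haveI : Module.Finite ℤ (MonoidAlgebra ℤ G) :=
    Module.Finite.equiv (MonoidAlgebra.coeffLinearEquiv ℤ).symm
  obtain ⟨r, hr, hr0⟩ := Submodule.exists_sub_one_mem_and_smul_eq_zero_of_fg_of_le_smul
    (Ideal.span {(ℓ : ℤ)}) ⊤ Module.Finite.fg_top htop
  refine ⟨r, fun h0 => ?_, ?_⟩
  · rw [h0, zero_sub, Ideal.mem_span_singleton, dvd_neg] at hr
    exact (Fact.out : ℓ.Prime).not_dvd_one (Int.natCast_dvd_natCast.1 (by exact_mod_cast hr))
  · rw [← Submodule.Quotient.mk_eq_zero, show (r : MonoidAlgebra ℤ G) = r • 1 by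
      rw [zsmul_eq_mul, mul_one], Submodule.Quotient.mk_smul]
    exact hr0 _ Submodule.mem_top

/-- Norm elements kill fixed-point-free modules. -/
theorem one_notMem_of_action {N : Type v} [CommGroup N] (φ : G →* MulAut N)
    (hfpf : ∀ g, g ≠ 1 → ∀ n, φ g n = n → n = 1) {p : ℕ} {x : N} (hx : x ^ p = 1) (hx1 : x ≠ 1) :
    (1 : MonoidAlgebra (ZMod p) G) ∉ J (ZMod p) G := by
  intro h
  let ρ : G →* AddMonoid.End (Additive N) :=
    { toFun := fun g => MonoidHom.toAdditive (φ g).toMonoidHom
      map_one' := AddMonoidHom.ext fun a => by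
        change Additive.ofMul (φ 1 a.toMul) = a
        rw [map_one]
        rfl
      map_mul' := fun a b => AddMonoidHom.ext fun c => by
        change Additive.ofMul (φ (a * b) c.toMul) = Additive.ofMul (φ a (φ b c.toMul))
        rw [map_mul]
        rfl }
  let Φ := MonoidAlgebra.lift ℤ (AddMonoid.End (Additive N)) G ρ
  have hΦ : ∀ g, Φ (of ℤ G g) = ρ g := fun g => MonoidAlgebra.lift_of ..
  have hN : ∀ g, g ≠ 1 → Φ (normElt ℤ g) = 0 := fun g hg => by
    ext a
    have e := congrArg (fun t => Φ t a) (of_mul_normElt (k := ℤ) g)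
    simp only [map_mul, hΦ] at e
    exact congrArg Additive.ofMul (hfpf g hg (Φ (normElt ℤ g) a).toMul (congrArg Additive.toMul e))
  have hJ : ∀ w ∈ J ℤ G, Φ w = 0 := by
    intro w hw
    induction hw using Submodule.span_induction with
    | mem s hs =>
      obtain ⟨a, g, b, hg, rfl⟩ := hs
      rw [map_mul, map_mul, hN g hg, mul_zero, zero_mul]
    | zero => exact map_zero Φ
    | add u v _ _ hu hv => rw [map_add, hu, hv, add_zero]
    | smul c u _ hu => rw [map_zsmul, hu]; exact zsmul_zero c
  obtain ⟨w, hw, hw1⟩ := exists_red_eq ZMod.intCast_surjective h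
  obtain ⟨y, hy⟩ := exists_eq_mul_of_red_eq_zero p (z := w - 1)
    (by rw [map_sub, hw1, map_one, sub_self])
  have e := congrArg (fun t => Φ t (Additive.ofMul x)) hy
  simp only [map_sub, map_one, hJ w hw, ← nsmul_eq_mul, map_nsmul] at e
  have hpx : p • Additive.ofMul x = 0 := congrArg Additive.ofMul hx
  have e0 : -Additive.ofMul x = 0 := by
    have e' : ((0 : AddMonoid.End (Additive N)) - 1) (Additive.ofMul x) =
        Φ y (p • Additive.ofMul x) := by rw [e, map_nsmul]; rfl
    rw [hpx, map_zero] at e'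
    exact (zero_sub _).symm.trans e'
  exact hx1 (congrArg Additive.toMul (neg_eq_zero.1 e0))

/-- A Frobenius complement has a fixed-point-free representation in characteristic zero and in
every characteristic prime to its order. -/
theorem of_complement {L : Type v} [Group L] [Finite L] {H : Subgroup L}
    (hH : IsFrobeniusComplement H) (f : G →* H) (hf : Function.Injective f) :
    (∀ (K : Type) [Field K] [CharZero K], (1 : MonoidAlgebra K G) ∉ J K G) ∧
      ∀ (ℓ : ℕ) [Fact ℓ.Prime], (1 : MonoidAlgebra (ZMod ℓ) G) ∉ J (ZMod ℓ) G := by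
  obtain ⟨A, hAK, hA1, hAc, hAN⟩ := exists_abelian_invariant hH
  let φ : G →* MulAut A :=
    A.normalizerMonoidHom.comp ((Subgroup.inclusion hAN).comp f)
  have hfpf : ∀ g, g ≠ 1 → ∀ a, φ g a = a → a = 1 := by
    intro g hg a ha
    have hc : (f g : L) ≠ 1 := fun e => hg (hf (by rw [map_one]; exact Subtype.ext e))
    have := congrArg Subtype.val ha
    change (f g : L) * a * (f g : L)⁻¹ = a at this
    refine Subtype.ext (fixedPointFree hH (kernel_isComplement hH) (f g).2 hc (hAK a.2) ?_)
    conv_rhs => rw [← this]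
    group
  letI : CommGroup A :=
    { (inferInstance : Group A) with mul_comm := fun a b => Subtype.ext (hAc a a.2 b b.2) }
  have hcA : Nat.card A ≠ 1 := fun e => hA1 (Subgroup.eq_bot_of_card_eq A e)
  have hpr : Fact (Nat.card A).minFac.Prime := ⟨Nat.minFac_prime hcA⟩
  obtain ⟨x, hx⟩ := exists_prime_orderOf_dvd_card' (G := A) (Nat.card A).minFac (Nat.minFac_dvd _)
  have hcard : ¬ (Nat.card A).minFac ∣ Nat.card G := by
    intro hd
    have h1 : (Nat.card A).minFac ∣ Nat.card H :=
      hd.trans (Subgroup.card_dvd_of_injective f hf)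
    have h2 : (Nat.card A).minFac ∣ H.index := by
      rw [← card_kernel_subgroup hH]
      exact (Nat.minFac_dvd _).trans (Subgroup.card_dvd_of_le hAK)
    exact hpr.out.ne_one (Nat.eq_one_of_dvd_coprimes (coprime_card_index hH) h1 h2)
  have hbase : (1 : MonoidAlgebra (ZMod (Nat.card A).minFac) G) ∉ J _ G :=
    one_notMem_of_action (x := x) φ hfpf
      ((congrArg (x ^ ·) hx).symm.trans (pow_orderOf_eq_one x))
      (fun e => hpr.out.ne_one (hx.symm.trans (orderOf_eq_one_iff.2 e)))
  refine ⟨fun K _ _ h => ?_, fun ℓ _ h => ?_⟩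
  · obtain ⟨m, hm, hmem⟩ := exists_intCast_mem_of_rat (one_mem_rat h)
    exact intCast_notMem hcard hbase hm hmem
  · obtain ⟨m, hm, hmem⟩ := exists_intCast_mem_of_zmod h
    exact intCast_notMem hcard hbase hm hmem

end Cfsg.Agent.Frobenius.FPFRep
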