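import Mathlib.Algebra.Lie.Basic
import Mathlib.Algebra.Field.ZMod
import Mathlib.GroupTheory.OrderOfElement
import Mathlib.Tactic

/-!
# Lie rings graded by `ZMod p` with trivial component of degree zero

Kreknin's bound on the derived length and Higman's bound on the class.
-/

set_option autoImplicit false

namespace Cfsg.Agent.Frobenius.GradedLie

open Finset

variable {M : Type*} [LieRing M] {p : ℕ}

/-- The graded product of two families. -/
def brFam (A B : ZMod p → AddSubgroup M) (k : ZMod p) : AddSubgroup M :=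
  AddSubgroup.closure {z | ∃ (i j : ZMod p) (a b : M), a ∈ A i ∧ b ∈ B j ∧ i + j = k ∧ ⁅a, b⁆ = z}

/-- The graded derived series. -/
def ser (C : ZMod p → AddSubgroup M) : ℕ → ZMod p → AddSubgroup M
  | 0 => C
  | n + 1 => brFam (ser C n) (ser C n)

/-- A degree-by-degree grading with `C 0 = 0`. -/
structure IsGrading (C : ZMod p → AddSubgroup M) : Prop where
  zero : C 0 = ⊥
  bracket : ∀ {i j : ZMod p} {a b : M}, a ∈ C i → b ∈ C j → ⁅a, b⁆ ∈ C (i + j)

theorem mem_brFam {A B : ZMod p → AddSubgroup M} {i j k : ZMod p} {a b : M} (ha : a ∈ A i)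
    (hb : b ∈ B j) (h : i + j = k) : ⁅a, b⁆ ∈ brFam A B k :=
  AddSubgroup.subset_closure ⟨i, j, a, b, ha, hb, h, rfl⟩

theorem brFam_mono {A A' B B' : ZMod p → AddSubgroup M} (hA : ∀ i, A i ≤ A' i)
    (hB : ∀ i, B i ≤ B' i) (k : ZMod p) : brFam A B k ≤ brFam A' B' k := by
  refine AddSubgroup.closure_mono ?_
  rintro z ⟨i, j, a, b, ha, hb, h, rfl⟩
  exact ⟨i, j, a, b, hA i ha, hB j hb, h, rfl⟩

section Ser

variable {C : ZMod p → AddSubgroup M} (hC : IsGrading C)
include hC

theorem ser_succ_le (n : ℕ) : ∀ k, ser C (n + 1) k ≤ ser C n k := by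
  induction n with
  | zero =>
    intro k
    refine AddSubgroup.closure_le _ |>.2 ?_
    rintro z ⟨i, j, a, b, ha, hb, rfl, rfl⟩
    exact hC.bracket ha hb
  | succ n ih => exact fun k => brFam_mono ih ih k

theorem ser_antitone {m n : ℕ} (h : m ≤ n) (k : ZMod p) : ser C n k ≤ ser C m k := by
  induction h with
  | refl => exact le_rfl
  | step _ ih => exact (ser_succ_le hC _ k).trans ih

theorem ser_zero_eq (n : ℕ) : ser C n 0 = ⊥ :=
  eq_bot_iff.2 ((ser_antitone hC (Nat.zero_le n) 0).trans hC.zero.le)

theorem ser_bracket {n : ℕ} {i j : ZMod p} {a b : M} (ha : a ∈ ser C n i) (hb : b ∈ ser C n j) :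
    ⁅a, b⁆ ∈ ser C n (i + j) :=
  ser_succ_le hC n _ (mem_brFam ha hb rfl)

end Ser

/-! ### Monomials -/

/-- Left-normed monomials in a family of homogeneous sets. -/
inductive Mon (T : ZMod p → Set M) : ZMod p → M → Prop
  | gen {d : ZMod p} {x : M} : x ∈ T d → Mon T d x
  | step {d e : ZMod p} {x g : M} : Mon T d x → g ∈ T e → Mon T (d + e) ⁅x, g⁆

/-- Span of the monomials of degree `k`. -/
def span (T : ZMod p → Set M) (k : ZMod p) : AddSubgroup M := AddSubgroup.closure {z | Mon T k z}

/-- Span of the monomials of length at least two. -/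
def span2 (T : ZMod p → Set M) (k : ZMod p) : AddSubgroup M :=
  AddSubgroup.closure
    {z | ∃ (d e : ZMod p) (x g : M), Mon T d x ∧ g ∈ T e ∧ d + e = k ∧ ⁅x, g⁆ = z}

theorem span2_le_span (T : ZMod p → Set M) (k : ZMod p) : span2 T k ≤ span T k := by
  refine AddSubgroup.closure_mono ?_
  rintro z ⟨d, e, x, g, hx, hg, rfl, rfl⟩
  exact hx.step hg

theorem mon_bracket {T : ZMod p → Set M} {b : ZMod p} {y : M} (hy : Mon T b y) :
    ∀ {a : ZMod p} {x : M}, Mon T a x → ⁅x, y⁆ ∈ span2 T (a + b) := by
  induction hy with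
  | @gen d g hg => exact fun {a x} hx => AddSubgroup.subset_closure ⟨a, d, x, g, hx, hg, rfl, rfl⟩
  | @step d e y g hy hg ih =>
    intro a x hx
    rw [leibniz_lie]
    refine add_mem ?_ ?_
    · have h1 := ih hx
      rw [← add_assoc]
      revert h1
      generalize ⁅x, y⁆ = w
      intro h1
      unfold span2 at h1
      induction h1 using AddSubgroup.closure_induction with
      | mem z hz =>
        obtain ⟨d', e', x', g', hx', hg', hde, rfl⟩ := hz
        exact AddSubgroup.subset_closure ⟨a + d, e, _, g, hde ▸ hx'.step hg', hg, rfl, rfl⟩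
      | zero => simp
      | add u v _ _ hu hv => rw [add_lie]; exact add_mem hu hv
      | neg u _ hu => rw [neg_lie]; exact neg_mem hu
    · rw [← lie_skew]
      refine neg_mem ?_
      have := ih (hx.step hg)
      rwa [show a + e + d = a + (d + e) by abel] at this

theorem span_bracket {T : ZMod p → Set M} {a b : ZMod p} {x y : M} (hx : x ∈ span T a)
    (hy : y ∈ span T b) : ⁅x, y⁆ ∈ span2 T (a + b) := by
  induction hx using AddSubgroup.closure_induction with
  | mem u hu =>
    induction hy using AddSubgroup.closure_induction with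
    | mem v hv => exact mon_bracket hv hu
    | zero => simp
    | add v w _ _ hv hw => rw [lie_add]; exact add_mem hv hw
    | neg v _ hv => rw [lie_neg]; exact neg_mem hv
  | zero => simp
  | add u w _ _ hu hw => rw [add_lie]; exact add_mem hu hw
  | neg u _ hu => rw [neg_lie]; exact neg_mem hu

theorem mon_mem_of_subring {T : ZMod p → Set M} {U : ZMod p → AddSubgroup M}
    (hT : ∀ d x, x ∈ T d → x ∈ U d)
    (hU : ∀ (i j : ZMod p) (a b : M), a ∈ U i → b ∈ U j → ⁅a, b⁆ ∈ U (i + j))
    {d : ZMod p} {x : M} (h : Mon T d x) : x ∈ U d := by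
  induction h with
  | gen h => exact hT _ _ h
  | step _ hg ih => exact hU _ _ _ _ ih (hT _ _ hg)

theorem span_le_span {T T' : ZMod p → Set M} (h : ∀ d x, x ∈ T d → x ∈ span T' d) (k : ZMod p) :
    span T k ≤ span T' k :=
  (AddSubgroup.closure_le _).2 fun _ hz =>
    mon_mem_of_subring h (fun _ _ _ _ ha hb => span2_le_span _ _ (span_bracket ha hb)) hz

/-! ### Kreknin's theorem -/

/-- The components of `ser C m` of degree above `s`. -/
def above (C : ZMod p → AddSubgroup M) (m s : ℕ) (i : ZMod p) : Set M :=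
  {x | s < i.val ∧ x ∈ ser C m i}

variable [Fact p.Prime] {C : ZMod p → AddSubgroup M}

theorem kreknin (hC : IsGrading C) :
    ∀ s < p, ∀ (m : ℕ) (k : ZMod p), ser C (m + (2 ^ s - 1)) k ≤ span (above C m s) k := by
  intro s
  induction s with
  | zero =>
    intro _ m k x hx
    rcases eq_or_ne k 0 with rfl | hk
    · rw [pow_zero, Nat.sub_self, add_zero, ser_zero_eq hC, AddSubgroup.mem_bot] at hx
      rw [hx]; exact zero_mem _
    · refine AddSubgroup.subset_closure (Mon.gen ⟨?_, by simpa using hx⟩)
      exact Nat.pos_of_ne_zero fun h => hk ((ZMod.val_eq_zero k).1 h)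
  | succ s ih =>
    intro hs m k
    have hpow : 2 ^ (s + 1) - 1 = (2 ^ s - 1) + 1 + (2 ^ s - 1) := by
      have := Nat.one_le_two_pow (n := s)
      rw [pow_succ]; omega
    rw [hpow, ← add_assoc]
    refine (ih (by omega) _ k).trans (span_le_span ?_ k)
    rintro d x ⟨hd, hx⟩
    rcases lt_or_eq_of_le (Nat.succ_le_of_lt hd) with hlt | heq
    · exact AddSubgroup.subset_closure (Mon.gen ⟨hlt, ser_antitone hC (Nat.le_add_right _ _) d hx⟩)
    rw [show m + (2 ^ s - 1 + 1) = (m + (2 ^ s - 1)) + 1 by omega] at hx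
    induction hx using AddSubgroup.closure_induction with
    | mem z hz =>
      obtain ⟨i, j, a, b, ha, hb, hij, rfl⟩ := hz
      have h2 := span_bracket (ih (by omega) m i ha) (ih (by omega) m j hb)
      rw [hij] at h2
      clear ha hb
      revert h2
      generalize ⁅a, b⁆ = w
      intro h2
      induction h2 using AddSubgroup.closure_induction with
      | mem u hu =>
        obtain ⟨e', e, y, g, hy, ⟨hge, hg⟩, hsum, rfl⟩ := hu
        have hyS : y ∈ ser C m e' :=
          mon_mem_of_subring (fun _ _ h => h.2) (fun _ _ _ _ => ser_bracket hC) hy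
        rcases lt_or_eq_of_le (Nat.succ_le_of_lt hge) with hlt | he
        · have hv : e'.val + e.val = d.val + p := by
            have h1 := ZMod.val_add e' e
            rw [hsum] at h1
            have h3 := ZMod.val_lt e'
            have h4 := ZMod.val_lt e
            rcases lt_or_ge (e'.val + e.val) p with hh | hh
            · rw [Nat.mod_eq_of_lt hh] at h1; omega
            · rw [Nat.mod_eq_sub_mod hh, Nat.mod_eq_of_lt (by omega)] at h1; omega
          have := ZMod.val_lt e
          rw [← hsum]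
          exact AddSubgroup.subset_closure
            ((Mon.gen (T := above C m (s + 1)) ⟨by omega, hyS⟩).step ⟨hlt, hg⟩)
        · have he' : e = d := ZMod.val_injective p (he.symm.trans heq)
          have : e' = 0 := by
            rw [he'] at hsum
            simpa using hsum
          rw [this, ser_zero_eq hC, AddSubgroup.mem_bot] at hyS
          simp [hyS]
      | zero => exact zero_mem _
      | add u v _ _ hu hv => exact add_mem hu hv
      | neg u _ hu => exact neg_mem hu
    | zero => exact zero_mem _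
    | add u v _ _ hu hv => exact add_mem hu hv
    | neg u _ hu => exact neg_mem hu

/-- The graded derived series vanishes after `2 ^ (p - 1) - 1` steps. -/
theorem ser_eq_bot (hC : IsGrading C) (k : ZMod p) : ser C (2 ^ (p - 1) - 1) k = ⊥ := by
  refine eq_bot_iff.2 ?_
  have hp : 2 ≤ p := (Fact.out : p.Prime).two_le
  have h := kreknin hC (p - 1) (by omega) 0 k
  rw [Nat.zero_add] at h
  refine h.trans ((AddSubgroup.closure_le _).2 fun z hz => ?_)
  exfalso
  have hno : ∀ (d : ZMod p) (x : M), x ∉ above C 0 (p - 1) d := fun d x hx => by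
    have := ZMod.val_lt d
    have := hx.1
    omega
  cases (show Mon (above C 0 (p - 1)) k z from hz) with
  | gen hg => exact hno _ _ hg
  | step hm hg => exact hno _ _ hg

/-! ### Higman's theorem -/

/-- Left-normed iterated bracket. -/
def lb (x : M) (l : List (ZMod p × M)) : M := l.foldl (fun z y => ⁅z, y.2⁆) x

omit [Fact p.Prime] in
@[simp] theorem lb_nil (x : M) : lb x ([] : List (ZMod p × M)) = x := rfl

omit [Fact p.Prime] in
@[simp] theorem lb_cons (x : M) (y : ZMod p × M) (l : List (ZMod p × M)) :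
    lb x (y :: l) = lb ⁅x, y.2⁆ l := rfl

omit [Fact p.Prime] in
theorem lb_append (x : M) (l l' : List (ZMod p × M)) : lb x (l ++ l') = lb (lb x l) l' :=
  List.foldl_append

omit [Fact p.Prime] in
theorem lb_add (l : List (ZMod p × M)) : ∀ x y : M, lb (x + y) l = lb x l + lb y l := by
  induction l with
  | nil => simp
  | cons a l ih => intro x y; simp [ih, add_lie]

/-- `lb` as an additive map. -/
def lbHom (l : List (ZMod p × M)) : M →+ M := AddMonoidHom.mk' (fun x => lb x l) (fun x y => lb_add l x y)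

/-- The filtration `U, [U,U], [U,U,U], …`. -/
def pw (U : ZMod p → AddSubgroup M) : ℕ → ZMod p → AddSubgroup M
  | 0 => U
  | c + 1 => brFam (pw U c) U

/-- Degree of a list. -/
def degSum (l : List (ZMod p × M)) : ZMod p := (l.map Prod.fst).sum

/-- Some sublist has any prescribed sum, once there are `p - 1` non-zero terms. -/
theorem exists_perm_sum {A : Type*} (f : A → ZMod p) :
    ∀ (l : List A), (∀ a ∈ l, f a ≠ 0) →
      ∃ S : Finset (ZMod p), min p (l.length + 1) ≤ S.card ∧
        ∀ t ∈ S, ∃ pre post : List A, l.Perm (pre ++ post) ∧ (pre.map f).sum = t := by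
  classical
  intro l
  induction l with
  | nil =>
    exact fun _ => ⟨{0}, by simp, fun t ht => ⟨[], [], .refl _, by simp_all⟩⟩
  | cons a l ih =>
    intro hl
    obtain ⟨S, hS, hS'⟩ := ih fun b hb => hl b (List.mem_cons_of_mem _ hb)
    refine ⟨S ∪ S.image (f a + ·), ?_, ?_⟩
    · by_cases hp : p ≤ S.card
      · exact (min_le_left _ _).trans (hp.trans (card_le_card subset_union_left))
      have hne : ¬ S.image (f a + ·) ⊆ S := by
        intro hsub
        have h0 : S.Nonempty := card_pos.1 (by
          have := (Fact.out : p.Prime).pos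
          omega)
        obtain ⟨s, hs⟩ := h0
        have hall : ∀ n : ℕ, (n : ZMod p) * f a + s ∈ S := fun n => by
          induction n with
          | zero => simpa
          | succ n ihn =>
            have := hsub (mem_image_of_mem (f a + ·) ihn)
            convert this using 1
            push_cast; ring
        refine hp ?_
        have huniv : S = univ := eq_univ_of_forall fun t => by
          have := hall ((t - s) * (f a)⁻¹).val
          rwa [ZMod.natCast_zmod_val, mul_assoc, inv_mul_cancel₀ (hl a (List.mem_cons_self ..)),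
            mul_one, sub_add_cancel] at this
        rw [huniv, card_univ, ZMod.card]
      obtain ⟨t, ht, ht'⟩ := not_subset.1 hne
      have : S.card < (S ∪ S.image (f a + ·)).card :=
        card_lt_card ⟨subset_union_left, fun h => ht' (h (mem_union_right _ ht))⟩
      simp only [List.length_cons]
      omega
    · intro t ht
      rcases mem_union.1 ht with h | h
      · obtain ⟨pre, post, h1, h2⟩ := hS' t h
        exact ⟨pre, a :: post, (h1.cons a).trans List.perm_middle.symm, h2⟩
      · obtain ⟨u, hu, rfl⟩ := mem_image.1 h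
        obtain ⟨pre, post, h1, h2⟩ := hS' u hu
        exact ⟨a :: pre, post, h1.cons a, by simp [h2]⟩

section Higman

variable (hC : IsGrading C) {U V : ZMod p → AddSubgroup M}
  (hUV : ∀ (i j : ZMod p) (a b : M), a ∈ U i → b ∈ V j → ⁅a, b⁆ ∈ U (i + j))
  (hVV : ∀ (i j : ZMod p) (a b : M), a ∈ V i → b ∈ V j → ⁅a, b⁆ ∈ U (i + j))

include hUV in
theorem pw_bracket (c : ℕ) : ∀ {i j : ZMod p} {a b : M}, a ∈ pw U c i → b ∈ V j →
    ⁅a, b⁆ ∈ pw U c (i + j) := by
  induction c with
  | zero => exact fun ha hb => hUV _ _ _ _ ha hb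
  | succ c ih =>
    intro i j a b ha hb
    induction ha using AddSubgroup.closure_induction with
    | mem z hz =>
      obtain ⟨i₁, i₂, u, v, hu, hv, rfl, rfl⟩ := hz
      rw [lie_lie, sub_eq_add_neg, ← lie_skew v ⁅u, b⁆, neg_neg]
      exact add_mem (mem_brFam hu (hUV _ _ _ _ hv hb) (by ring))
        (mem_brFam (ih hu hb) hv (by ring))
    | zero => simp
    | add u w _ _ hu hw => rw [add_lie]; exact add_mem hu hw
    | neg u _ hu => rw [neg_lie]; exact neg_mem hu

include hUV in
theorem lb_mem_pw (c : ℕ) : ∀ (l : List (ZMod p × M)), (∀ y ∈ l, y.2 ∈ V y.1) →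
    ∀ {i : ZMod p} {x : M}, x ∈ pw U c i → lb x l ∈ pw U c (i + degSum l) := by
  intro l
  induction l with
  | nil => intro _ i x hx; simpa [degSum] using hx
  | cons a l ih =>
    intro hl i x hx
    have := ih (fun y hy => hl y (List.mem_cons_of_mem _ hy))
      (pw_bracket hUV c hx (hl a (List.mem_cons_self ..)))
    simpa [degSum, add_assoc] using this

include hUV hVV in
theorem lb_perm (c : ℕ) {l l' : List (ZMod p × M)} (h : l.Perm l') :
    (∀ y ∈ l, y.2 ∈ V y.1) → ∀ {i : ZMod p} {x : M}, x ∈ pw U c i →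
      lb x l - lb x l' ∈ pw U (c + 1) (i + degSum l) := by
  induction h with
  | nil => intro _ i x _; simp
  | cons a _ ih =>
    intro hl i x hx
    have := ih (fun y hy => hl y (List.mem_cons_of_mem _ hy))
      (pw_bracket hUV c hx (hl a (List.mem_cons_self ..)))
    simpa [degSum, add_assoc] using this
  | swap a b l =>
    intro hl i x hx
    have ha := hl a (List.mem_cons_of_mem _ (List.mem_cons_self ..))
    have hb := hl b (List.mem_cons_self ..)
    have hrest : ∀ y ∈ l, y.2 ∈ V y.1 := fun y hy =>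
      hl y (List.mem_cons_of_mem _ (List.mem_cons_of_mem _ hy))
    have hmem : ⁅x, ⁅b.2, a.2⁆⁆ ∈ pw U (c + 1) (i + (b.1 + a.1)) :=
      mem_brFam hx (hVV _ _ _ _ hb ha) rfl
    have := lb_mem_pw hUV (c + 1) l hrest hmem
    have he : lb x (b :: a :: l) - lb x (a :: b :: l) = lb ⁅x, ⁅b.2, a.2⁆⁆ l := by
      have := map_sub (lbHom l) ⁅⁅x, b.2⁆, a.2⁆ ⁅⁅x, a.2⁆, b.2⁆
      simp only [lbHom, AddMonoidHom.mk'_apply] at this
      rw [lb_cons, lb_cons, lb_cons, lb_cons, ← this, leibniz_lie x b.2 a.2,
        ← lie_skew ⁅x, a.2⁆ b.2]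
      congr 1
      abel
    rw [he]
    simpa [degSum, add_assoc] using this
  | @trans l₁ l₂ l₃ h1 h2 ih1 ih2 =>
    intro hl i x hx
    have hl2 : ∀ y ∈ l₂, y.2 ∈ V y.1 := fun y hy => hl y (h1.mem_iff.2 hy)
    have e : degSum l₁ = degSum l₂ := (h1.map Prod.fst).sum_eq
    have h' := ih2 hl2 hx
    rw [← e] at h'
    simpa using add_mem (ih1 hl hx) h'

include hC hUV hVV in
theorem lb_mem_succ (hUC : ∀ i, U i ≤ C i) (hVC : ∀ i, V i ≤ C i) (c : ℕ)
    {l : List (ZMod p × M)} (hl : ∀ y ∈ l, y.2 ∈ V y.1) (hlen : p - 1 ≤ l.length) {i : ZMod p}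
    {x : M} (hx : x ∈ pw U c i) : lb x l ∈ pw U (c + 1) (i + degSum l) := by
  classical
  have hpwC : ∀ (c : ℕ) (i : ZMod p), pw U c i ≤ C i := fun c => by
    induction c with
    | zero => exact hUC
    | succ c ih =>
      refine fun i => (AddSubgroup.closure_le _).2 ?_
      rintro z ⟨a, b, u, v, hu, hv, rfl, rfl⟩
      exact hC.bracket (ih a hu) (hUC b hv)
  by_cases h0 : ∀ y ∈ l, y.1 ≠ 0
  · obtain ⟨S, hS, hS'⟩ := exists_perm_sum Prod.fst l h0
    have hu : S = univ := by
      refine eq_univ_of_card _ (le_antisymm (card_le_univ _) ?_)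
      rw [ZMod.card]
      exact le_trans (le_min le_rfl (by omega)) hS
    obtain ⟨pre, post, hperm, hsum⟩ := hS' (-i) (hu ▸ mem_univ _)
    have h := lb_perm hUV hVV c hperm hl hx
    have hz : lb x (pre ++ post) = 0 := by
      have := lb_mem_pw hUV c pre (fun y hy => hl y (hperm.mem_iff.2 (List.mem_append_left _ hy))) hx
      rw [show i + degSum pre = 0 by rw [degSum, hsum, add_neg_cancel]] at this
      have h0' := hpwC c 0 this
      rw [hC.zero, AddSubgroup.mem_bot] at h0'
      rw [lb_append, h0']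
      exact map_zero (lbHom post)
    rwa [hz, sub_zero] at h
  · push Not at h0
    obtain ⟨y, hy, hy0⟩ := h0
    obtain ⟨pre, post, rfl⟩ := List.append_of_mem hy
    have hy2 : y.2 = 0 := by
      have := hVC _ (hl y hy)
      rwa [hy0, hC.zero, AddSubgroup.mem_bot] at this
    rw [lb_append, lb_cons, hy2, lie_zero, show lb (0 : M) post = 0 from map_zero (lbHom post)]
    exact zero_mem _

include hC hUV hVV in
theorem lb_mem_pw_of_length (hUC : ∀ i, U i ≤ C i) (hVC : ∀ i, V i ≤ C i) :
    ∀ (c : ℕ) (l : List (ZMod p × M)), (∀ y ∈ l, y.2 ∈ V y.1) → l.length = (p - 1) * c →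
      ∀ {i : ZMod p} {x : M}, x ∈ U i → lb x l ∈ pw U c (i + degSum l) := by
  intro c
  induction c with
  | zero => exact fun l hl _ _ _ hx => lb_mem_pw hUV 0 l hl hx
  | succ c ih =>
    intro l hl hlen i x hx
    rw [Nat.mul_succ] at hlen
    obtain ⟨l₁, l₂, rfl, h1⟩ : ∃ l₁ l₂, l = l₁ ++ l₂ ∧ l₁.length = (p - 1) * c :=
      ⟨l.take ((p - 1) * c), l.drop ((p - 1) * c), (List.take_append_drop _ _).symm,
        List.length_take_of_le (by omega)⟩
    have hA := ih l₁ (fun y hy => hl y (List.mem_append_left _ hy)) h1 hx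
    rw [List.length_append] at hlen
    have := lb_mem_succ hC hUV hVV hUC hVC c (l := l₂) (fun y hy => hl y (List.mem_append_right _ hy))
      (by omega) hA
    simpa [lb_append, degSum, add_assoc] using this

end Higman

/-- All homogeneous brackets of length `c + 1` vanish in the `n`-th derived term. -/
def ClassLE (C : ZMod p → AddSubgroup M) (n c : ℕ) : Prop :=
  ∀ (i : ZMod p) (x : M), x ∈ ser C n i → ∀ l : List (ZMod p × M),
    (∀ y ∈ l, y.2 ∈ ser C n y.1) → l.length = c → lb x l = 0

theorem classLE_step (hC : IsGrading C) {n c : ℕ} (h : ClassLE C (n + 1) c) :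
    ClassLE C n (1 + (p - 1) * c) := by
  have hpw : ∀ c', c' ≤ c → ∀ (i : ZMod p) (z : M), z ∈ pw (ser C (n + 1)) c' i →
      ∀ l : List (ZMod p × M), (∀ y ∈ l, y.2 ∈ ser C (n + 1) y.1) → c' + l.length = c →
        lb z l = 0 := by
    intro c'
    induction c' with
    | zero => exact fun _ i z hz l hl hlen => h i z hz l hl (by omega)
    | succ c' ih =>
      intro hle i z hz l hl hlen
      induction hz using AddSubgroup.closure_induction with
      | mem u hu =>
        obtain ⟨a, b, u, v, hu, hv, -, rfl⟩ := hu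
        exact ih (by omega) a u hu ((b, v) :: l)
          (fun y hy => by rcases List.mem_cons.1 hy with rfl | hy; exacts [hv, hl y hy])
          (by simp only [List.length_cons]; omega)
      | zero => exact map_zero (lbHom l)
      | add u w _ _ hu hw => rw [lb_add, hu, hw, add_zero]
      | neg u _ hu => exact (map_neg (lbHom l) u).trans (by rw [show lbHom l u = 0 from hu, neg_zero])
  intro i x hx l hl hlen
  match l, hlen with
  | [], hlen => exact absurd hlen (by simp only [List.length_nil]; omega)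
  | y :: l, hlen =>
    have hu : ⁅x, y.2⁆ ∈ ser C (n + 1) (i + y.1) :=
      mem_brFam hx (hl y (List.mem_cons_self ..)) rfl
    have := lb_mem_pw_of_length (U := ser C (n + 1)) (V := ser C n) hC
      (fun a b u v hu hv => mem_brFam (ser_succ_le hC n a hu) hv rfl)
      (fun a b u v hu hv => mem_brFam hu hv rfl)
      (fun a => ser_antitone hC (Nat.zero_le _) a) (fun a => ser_antitone hC (Nat.zero_le _) a)
      c l (fun z hz => hl z (List.mem_cons_of_mem _ hz)) (by simp at hlen; omega) hu
    have h0 := hpw c le_rfl _ _ this [] (by simp) (by simp)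
    simpa using h0

/-- Higman-Kreknin-Kostrikin bound for homogeneous brackets. -/
theorem classLE_xi (hC : IsGrading C) :
    ClassLE C 0 (∑ i ∈ range (2 ^ (p - 1) - 1), (p - 1) ^ i) := by
  suffices key : ∀ d, d ≤ 2 ^ (p - 1) - 1 →
      ClassLE C (2 ^ (p - 1) - 1 - d) (∑ i ∈ range d, (p - 1) ^ i) by
    simpa using key _ le_rfl
  intro d
  induction d with
  | zero =>
    intro _ i x hx l _ hlen
    rw [Nat.sub_zero, ser_eq_bot hC, AddSubgroup.mem_bot] at hx
    rw [hx]; exact map_zero (lbHom l)
  | succ d ih =>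
    intro hd
    rw [geom_sum_succ, add_comm ((p - 1) * _) 1]
    refine classLE_step hC ?_
    rw [show 2 ^ (p - 1) - 1 - (d + 1) + 1 = 2 ^ (p - 1) - 1 - d by omega]
    exact ih (by omega)

theorem zmod_three_cases : ∀ i a b : ZMod 3,
    i = 0 ∨ a = 0 ∨ b = 0 ∨ i + a = 0 ∨ i + a + b = 0 ∨ (a + b = 0 ∧ i + b = 0) := by decide

/-- For `p = 3` the class is at most two. -/
theorem classLE_three {C : ZMod 3 → AddSubgroup M} (hC : IsGrading C) : ClassLE C 0 2 := by
  intro i x hx l hl hlen
  match l, hlen with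
  | [y, z], _ =>
    have hy := hl y (by simp)
    have hz := hl z (by simp)
    change ⁅⁅x, y.2⁆, z.2⁆ = 0
    have zero_of : ∀ {d : ZMod 3} {w : M}, w ∈ C d → d = 0 → w = 0 := fun {d w} hw hd => by
      rw [hd, hC.zero, AddSubgroup.mem_bot] at hw; exact hw
    rcases zmod_three_cases i y.1 z.1 with h | h | h | h | h | ⟨h1, h2⟩
    · rw [zero_of hx h, zero_lie, zero_lie]
    · rw [zero_of hy h, lie_zero, zero_lie]
    · rw [zero_of hz h, lie_zero]
    · rw [zero_of (hC.bracket hx hy) h, zero_lie]
    · exact zero_of (hC.bracket (hC.bracket hx hy) hz) h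
    · rw [lie_lie, zero_of (hC.bracket hy hz) h1, zero_of (hC.bracket hx hz) h2]
      simp

/-- Brackets of arbitrary elements vanish once the homogeneous ones do. -/
theorem lb_eq_zero_of_classLE {c : ℕ} (h : ClassLE C 0 c) (hspan : ⨆ i, C i = ⊤) :
    ∀ (x : M) (ys : List M), ys.length = c → ys.foldl (fun z y => ⁅z, y⁆) x = 0 := by
  let H : ℕ → AddSubgroup M := fun r => AddSubgroup.closure
    {z | ∃ (i : ZMod p) (a : M) (l : List (ZMod p × M)),
      a ∈ C i ∧ (∀ y ∈ l, y.2 ∈ C y.1) ∧ l.length = r ∧ lb a l = z}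
  have h0 : ∀ x : M, x ∈ H 0 := fun x => by
    have hx : x ∈ ⨆ i, C i := hspan ▸ AddSubgroup.mem_top x
    refine AddSubgroup.iSup_induction C (C := fun z => z ∈ H 0) hx (fun i a ha => ?_)
      (zero_mem _) (fun a b ha hb => add_mem ha hb)
    exact AddSubgroup.subset_closure ⟨i, a, [], ha, by simp, rfl, rfl⟩
  have hstep : ∀ (r : ℕ) (z : M), z ∈ H r → ∀ y : M, ⁅z, y⁆ ∈ H (r + 1) := by
    intro r z hz y
    have hy : y ∈ ⨆ i, C i := hspan ▸ AddSubgroup.mem_top y
    refine AddSubgroup.iSup_induction C (C := fun w => ⁅z, w⁆ ∈ H (r + 1)) hy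
      (fun j b hb => ?_) (by simp) (fun a b ha hb => by rw [lie_add]; exact add_mem ha hb)
    induction hz using AddSubgroup.closure_induction with
    | mem u hu =>
      obtain ⟨i, a, l, ha, hl, hlen, rfl⟩ := hu
      refine AddSubgroup.subset_closure ⟨i, a, l ++ [(j, b)], ha, ?_, by simp [hlen], ?_⟩
      · intro w hw
        rcases List.mem_append.1 hw with hw | hw
        · exact hl w hw
        · rw [List.mem_singleton.1 hw]; exact hb
      · rw [lb_append]; rfl
    | zero => simp
    | add u w _ _ hu hw => rw [add_lie]; exact add_mem hu hw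
    | neg u _ hu => rw [neg_lie]; exact neg_mem hu
  have hfold : ∀ (ys : List M) (r : ℕ) (z : M), z ∈ H r →
      ys.foldl (fun z y => ⁅z, y⁆) z ∈ H (r + ys.length) := by
    intro ys
    induction ys with
    | nil => exact fun r z hz => hz
    | cons y ys ih =>
      intro r z hz
      have := ih (r + 1) _ (hstep r z hz y)
      simpa [Nat.add_assoc, Nat.add_comm 1] using this
  intro x ys hlen
  have := hfold ys 0 x (h0 x)
  rw [Nat.zero_add, hlen] at this
  revert this
  generalize ys.foldl (fun z y => ⁅z, y⁆) x = w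
  intro this
  induction this using AddSubgroup.closure_induction with
  | mem u hu =>
    obtain ⟨i, a, l, ha, hl, hl2, rfl⟩ := hu
    exact h i a ha l hl hl2
  | zero => rfl
  | add u w _ _ hu hw => rw [hu, hw, add_zero]
  | neg u _ hu => rw [hu, neg_zero]

end Cfsg.Agent.Frobenius.GradedLie
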