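import Mathlib.GroupTheory.Nilpotent
import Mathlib.Algebra.DirectSum.Basic
import Mathlib.Algebra.Lie.Basic
import Mathlib.GroupTheory.QuotientGroup.Basic
import Cfsg.Agent.S4206

/-!
# The Lie ring of the lower central series of a finite group
-/

set_option autoImplicit false

namespace Cfsg.Agent.Frobenius.LCS

open Subgroup
open scoped DirectSum commutatorElement

universe u

variable {G : Type u} [Group G] [Finite G]

variable (G) in
/-- The terms of the lower central series. -/
abbrev term (k : ℕ) : Subgroup G := (⊤ : Subgroup G).lowerCentralSeries k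

theorem commutator_mem (i j : ℕ) {g h : G} (hg : g ∈ term G i) (hh : h ∈ term G j) :
    ⁅g, h⁆ ∈ term G (i + j + 1) :=
  S4206.result (term G) (fun _ => inferInstance)
    (fun n => Subgroup.lowerCentralSeries_antitone ⊤ (Nat.le_succ n)) ⊤
    (fun n => le_of_eq (Subgroup.lowerCentralSeries_succ ⊤ n).symm) i j
    (commutator_mem_commutator hg hh)

omit [Finite G] in
theorem term_succ_le (k : ℕ) : term G (k + 1) ≤ term G k :=
  Subgroup.lowerCentralSeries_antitone ⊤ (Nat.le_succ k)

variable (G) in
/-- A layer of the lower central series. -/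
abbrev Q (k : ℕ) := term G k ⧸ (term G (k + 1)).subgroupOf (term G k)

omit [Finite G] in
theorem mk_conj {k : ℕ} (c : G) (g : term G k) (h : c * (g : G) * c⁻¹ ∈ term G k) :
    ((⟨c * g * c⁻¹, h⟩ : term G k) : Q G k) = (g : Q G k) := by
  rw [eq_comm, QuotientGroup.eq, Subgroup.mem_subgroupOf]
  have h1 : ⁅(g : G)⁻¹, c⁆ ∈ term G (k + 1) := by
    change _ ∈ ⁅term G k, (⊤ : Subgroup G)⁆
    exact commutator_mem_commutator ((term G k).inv_mem g.2) (Subgroup.mem_top c)
  convert h1 using 1
  simp [commutatorElement_def, mul_assoc]

instance layerCommGroup (k : ℕ) : CommGroup (Q G k) :=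
  { (inferInstance : Group (Q G k)) with
    mul_comm := fun a b => by
      induction a using QuotientGroup.induction_on with
      | H a =>
      induction b using QuotientGroup.induction_on with
      | H b =>
      have h := mk_conj (a : G) b (((term G k).mul_mem ((term G k).mul_mem a.2 b.2) ((term G k).inv_mem a.2)))
      calc (a : Q G k) * b
          = ((⟨(a : G) * b * (a : G)⁻¹, _⟩ : term G k) : Q G k) * a := by
            rw [← QuotientGroup.mk_mul, ← QuotientGroup.mk_mul]
            congr 1
            exact Subtype.ext (by simp)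
        _ = (b : Q G k) * a := by rw [h] }

variable (G) in
/-- The additive layer. -/
abbrev A (k : ℕ) := Additive (Q G k)

variable (G) in
/-- The underlying group of the Lie ring. -/
abbrev L := ⨁ k : ℕ, A G k

/-- The right-hand bracket with a fixed element. -/
noncomputable def rightHom (i j : ℕ) (g : term G i) : Q G j →* Q G (i + j + 1) :=
  QuotientGroup.lift _
    (MonoidHom.mk' (fun h : term G j =>
        ((⟨⁅(g : G), (h : G)⁆, commutator_mem i j g.2 h.2⟩ : term G (i + j + 1)) : Q G (i + j + 1)))
      (fun a b => by
        rw [← mk_conj (a : G)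
          (⟨⁅(g : G), (b : G)⁆, commutator_mem i j g.2 b.2⟩ : term G (i + j + 1))
          (Subgroup.Normal.conj_mem inferInstance _ (commutator_mem i j g.2 b.2) _),
          ← QuotientGroup.mk_mul]
        congr 1
        refine Subtype.ext ?_
        change ⁅(g : G), (a : G) * (b : G)⁆ = ⁅(g : G), (a : G)⁆ * ((a : G) * ⁅(g : G), (b : G)⁆ * (a : G)⁻¹)
        simp [commutatorElement_def, mul_assoc]))
    (fun h hh => by
      refine (QuotientGroup.eq_one_iff _).2 (Subgroup.mem_subgroupOf.2 ?_)
      exact commutator_mem i (j + 1) g.2 (Subgroup.mem_subgroupOf.1 hh))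

theorem rightHom_mk (i j : ℕ) (g : term G i) (h : term G j) :
    rightHom i j g (h : Q G j) =
      ((⟨⁅(g : G), (h : G)⁆, commutator_mem i j g.2 h.2⟩ : term G (i + j + 1)) : Q G (i + j + 1)) :=
  rfl

/-- The bracket of two layers. -/
noncomputable def layerBr (i j : ℕ) : Q G i →* Q G j →* Q G (i + j + 1) :=
  QuotientGroup.lift _
    (MonoidHom.mk' (rightHom i j) (fun a b => by
      refine MonoidHom.ext fun q => ?_
      induction q using QuotientGroup.induction_on with
      | H h =>
      rw [MonoidHom.mul_apply, rightHom_mk, rightHom_mk, rightHom_mk, mul_comm,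
        ← mk_conj (a : G) (⟨⁅(b : G), (h : G)⁆, commutator_mem i j b.2 h.2⟩ : term G (i + j + 1))
          (Subgroup.Normal.conj_mem inferInstance _ (commutator_mem i j b.2 h.2) _),
        ← QuotientGroup.mk_mul]
      congr 1
      exact Subtype.ext (commutatorElement_mul_left_eq_conj_mul _ _ _)))
    (fun g hg => by
      refine MonoidHom.mem_ker.2 (MonoidHom.ext fun q => ?_)
      induction q using QuotientGroup.induction_on with
      | H h =>
      refine (QuotientGroup.eq_one_iff _).2 (Subgroup.mem_subgroupOf.2 ?_)
      have := commutator_mem (i + 1) j (Subgroup.mem_subgroupOf.1 hg) h.2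
      rwa [show i + 1 + j + 1 = i + j + 1 + 1 by omega] at this)

/-- The component of the bracket on two layers. -/
noncomputable def brComp (i j : ℕ) : A G i →+ A G j →+ L G :=
  AddMonoidHom.mk'
    (fun a => AddMonoidHom.mk'
      (fun b => DirectSum.of (A G) (i + j + 1) (Additive.ofMul (layerBr i j a.toMul b.toMul)))
      (fun b b' => by rw [toMul_add, map_mul, ofMul_mul, map_add]))
    (fun a a' => AddMonoidHom.ext fun b => by
      simp only [AddMonoidHom.mk'_apply, AddMonoidHom.add_apply]
      rw [toMul_add, map_mul, MonoidHom.mul_apply, ofMul_mul, map_add])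

/-- The bracket. -/
noncomputable def br : L G →+ L G →+ L G :=
  DirectSum.toAddMonoid fun i =>
    (DirectSum.toAddMonoid fun j => (brComp i j).flip).flip

open Classical in
/-- The class of `g` in layer `k` (zero if `g` is not in the `k`-th term). -/
noncomputable def el (k : ℕ) (g : G) : L G :=
  if h : g ∈ term G k then DirectSum.of (A G) k (Additive.ofMul ((⟨g, h⟩ : term G k) : Q G k)) else 0

omit [Finite G] in
theorem el_of_mem {k : ℕ} {g : G} (h : g ∈ term G k) :
    el k g = DirectSum.of (A G) k (Additive.ofMul ((⟨g, h⟩ : term G k) : Q G k)) := dif_pos h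

theorem el_mul {k : ℕ} {g g' : G} (h : g ∈ term G k) (h' : g' ∈ term G k) :
    el k (g * g') = el k g + el k g' := by
  rw [el_of_mem h, el_of_mem h', el_of_mem ((term G k).mul_mem h h'), ← map_add, ← ofMul_mul,
    ← QuotientGroup.mk_mul]
  rfl

omit [Finite G] in
theorem el_eq_zero_iff {k : ℕ} {g : G} (h : g ∈ term G k) :
    el k g = 0 ↔ g ∈ term G (k + 1) := by
  rw [el_of_mem h, map_eq_zero_iff _ (DirectSum.of_injective k), ofMul_eq_zero,
    QuotientGroup.eq_one_iff, Subgroup.mem_subgroupOf]

theorem el_one (k : ℕ) : el k (1 : G) = 0 :=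
  (el_eq_zero_iff (one_mem _)).2 (one_mem _)

theorem el_inv {k : ℕ} {g : G} (h : g ∈ term G k) : el k g⁻¹ = -el k g := by
  rw [eq_neg_iff_add_eq_zero, ← el_mul ((term G k).inv_mem h) h, inv_mul_cancel, el_one]

omit [Finite G] in
theorem el_conj {k : ℕ} {g : G} (c : G) (h : g ∈ term G k) :
    el k (c * g * c⁻¹) = el k g := by
  have hc : c * g * c⁻¹ ∈ term G k := Subgroup.Normal.conj_mem inferInstance g h c
  rw [el_of_mem h, el_of_mem hc, mk_conj c ⟨g, h⟩ hc]

theorem br_el {i j k : ℕ} {g h : G} (hg : g ∈ term G i) (hh : h ∈ term G j) (hk : i + j + 1 = k) :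
    br (el i g) (el j h) = el k ⁅g, h⁆ := by
  subst hk
  rw [el_of_mem hg, el_of_mem hh, el_of_mem (commutator_mem i j hg hh), br,
    DirectSum.toAddMonoid_of, AddMonoidHom.flip_apply, DirectSum.toAddMonoid_of,
    AddMonoidHom.flip_apply]
  rfl

omit [Finite G] in
@[elab_as_elim]
theorem induction {P : L G → Prop} (x : L G) (zero : P 0) (mem : ∀ k, ∀ g ∈ term G k, P (el k g))
    (add : ∀ a b, P a → P b → P (a + b)) : P x := by
  induction x using DirectSum.induction_on with
  | zero => exact zero
  | of k a =>
    obtain ⟨q, rfl⟩ := Additive.ofMul.surjective a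
    induction q using QuotientGroup.induction_on with
    | H g => exact el_of_mem g.2 ▸ mem k g g.2
  | add a b ha hb => exact add a b ha hb

theorem br_antisymm (x y : L G) : br x y + br y x = 0 := by
  refine induction x ?_ ?_ ?_
  · simp
  · intro i g hg
    refine induction y ?_ ?_ ?_
    · simp
    · intro j h hh
      rw [br_el hg hh rfl, br_el hh hg (show j + i + 1 = i + j + 1 by omega),
        ← commutatorElement_inv g h, el_inv (commutator_mem i j hg hh), add_neg_cancel]
    · intro a b ha hb
      rw [map_add, map_add, AddMonoidHom.add_apply, add_add_add_comm, ha, hb, add_zero]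
  · intro a b ha hb
    rw [map_add, map_add, AddMonoidHom.add_apply, add_add_add_comm, ha, hb, add_zero]

theorem br_self (x : L G) : br x x = 0 := by
  refine induction x ?_ ?_ ?_
  · simp
  · intro i g hg
    rw [br_el hg hg rfl, commutatorElement_self, el_one]
  · intro a b ha hb
    have := br_antisymm a b
    simp only [map_add, AddMonoidHom.add_apply, ha, hb, zero_add, add_zero]
    rwa [add_comm]

/-- Jacobi. -/
theorem br_cyclic (x y z : L G) : br (br x y) z + br (br y z) x + br (br z x) y = 0 := by
  refine induction x ?_ ?_ ?_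
  · simp
  · intro i a ha
    refine induction y ?_ ?_ ?_
    · simp
    · intro j b hb
      refine induction z ?_ ?_ ?_
      · simp
      · intro k c hc
        have h1 : b * c * b⁻¹ ∈ term G k := Subgroup.Normal.conj_mem inferInstance c hc b
        have h2 : c * a * c⁻¹ ∈ term G i := Subgroup.Normal.conj_mem inferInstance a ha c
        have h3 : a * b * a⁻¹ ∈ term G j := Subgroup.Normal.conj_mem inferInstance b hb a
        have m1 := commutator_mem i j ha hb
        have m2 := commutator_mem j k hb hc
        have m3 := commutator_mem k i hc ha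
        have n1 := commutator_mem _ _ m1 h1
        have n2 := commutator_mem _ _ m2 h2
        have n3 := commutator_mem _ _ m3 h3
        rw [show j + k + 1 + i + 1 = i + j + 1 + k + 1 by omega] at n2
        rw [show k + i + 1 + j + 1 = i + j + 1 + k + 1 by omega] at n3
        rw [br_el ha hb rfl, br_el hb hc rfl, br_el hc ha rfl, ← el_conj b hc,
          br_el m1 h1 rfl, ← el_conj c ha,
          br_el m2 h2 (show j + k + 1 + i + 1 = i + j + 1 + k + 1 by omega),
          ← el_conj a hb, br_el m3 h3 (show k + i + 1 + j + 1 = i + j + 1 + k + 1 by omega),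
          ← el_mul n1 n2, ← el_mul ((term G _).mul_mem n1 n2) n3,
          commutatorElement_commutatorElement_conj_mul, el_one]
      · intro u v hu hv
        simp only [map_add, AddMonoidHom.add_apply] at hu hv ⊢
        calc _ = (br (br (el i a) (el j b)) u + br (br (el j b) u) (el i a) + br (br u (el i a)) (el j b))
              + (br (br (el i a) (el j b)) v + br (br (el j b) v) (el i a) + br (br v (el i a)) (el j b)) := by
                abel
          _ = 0 := by rw [hu, hv, add_zero]
    · intro u v hu hv
      simp only [map_add, AddMonoidHom.add_apply] at hu hv ⊢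
      calc _ = (br (br (el i a) u) z + br (br u z) (el i a) + br (br z (el i a)) u)
            + (br (br (el i a) v) z + br (br v z) (el i a) + br (br z (el i a)) v) := by abel
        _ = 0 := by rw [hu, hv, add_zero]
  · intro u v hu hv
    simp only [map_add, AddMonoidHom.add_apply] at hu hv ⊢
    calc _ = (br (br u y) z + br (br y z) u + br (br z u) y)
          + (br (br v y) z + br (br y z) v + br (br z v) y) := by abel
      _ = 0 := by rw [hu, hv, add_zero]

noncomputable instance lieRing : LieRing (L G) where
  bracket x y := br x y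
  add_lie x y z := by
    change br (x + y) z = br x z + br y z
    rw [map_add, AddMonoidHom.add_apply]
  lie_add x y z := map_add (br x) y z
  lie_self := br_self
  leibniz_lie x y z := by
    change br x (br y z) = br (br x y) z + br y (br x z)
    have h := br_cyclic x y z
    have e1 : br x (br y z) = -br (br y z) x := eq_neg_of_add_eq_zero_left (br_antisymm _ _)
    have e2 : br x z = -br z x := eq_neg_of_add_eq_zero_left (br_antisymm _ _)
    have e3 : br y (br z x) = -br (br z x) y := eq_neg_of_add_eq_zero_left (br_antisymm _ _)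
    rw [e1, e2, map_neg, e3, neg_neg]
    rw [add_right_comm] at h
    exact (eq_neg_of_add_eq_zero_left h).symm ▸ by abel

theorem lie_el {i j k : ℕ} {g h : G} (hg : g ∈ term G i) (hh : h ∈ term G j) (hk : i + j + 1 = k) :
    ⁅el i g, el j h⁆ = el k ⁅g, h⁆ := br_el hg hh hk

theorem card_nsmul (x : L G) : Nat.card G • x = 0 := by
  refine induction x (by simp) (fun k g hg => ?_) (fun a b ha hb => by rw [smul_add, ha, hb, add_zero])
  rw [el_of_mem hg, ← map_nsmul, ← ofMul_pow, ← QuotientGroup.mk_pow]
  have : (⟨g, hg⟩ : term G k) ^ Nat.card G = 1 := Subtype.ext (by simp [pow_card_eq_one'])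
  rw [this, QuotientGroup.mk_one, ofMul_one, map_zero]

/-- Each term is spanned, modulo the next, by left-normed brackets of degree-zero classes. -/
theorem el_mem_closure : ∀ (c : ℕ) (g : G), g ∈ term G c → el c g ∈ AddSubgroup.closure
    {z : L G | ∃ (x : G) (ys : List G), ys.length = c ∧
      (ys.map (el 0)).foldl (fun z y => ⁅z, y⁆) (el 0 x) = z} := by
  intro c
  induction c with
  | zero => exact fun g _ => AddSubgroup.subset_closure ⟨g, [], rfl, rfl⟩
  | succ c ih =>
    intro g hg
    have hg' : g ∈ Subgroup.closure {x : G | ∃ a ∈ term G c, ∃ b ∈ (⊤ : Subgroup G), ⁅a, b⁆ = x} :=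
      (Subgroup.mem_lowerCentralSeries_succ_iff ⊤ c g).1 hg
    have hle : Subgroup.closure {x : G | ∃ a ∈ term G c, ∃ b ∈ (⊤ : Subgroup G), ⁅a, b⁆ = x} ≤
        term G (c + 1) := fun y hy => (Subgroup.mem_lowerCentralSeries_succ_iff ⊤ c y).2 hy
    induction hg' using Subgroup.closure_induction with
    | mem x hx =>
      obtain ⟨a, ha, b, -, rfl⟩ := hx
      rw [← lie_el ha (show b ∈ term G 0 from Subgroup.mem_top b) rfl]
      have h1 := ih a ha
      revert h1
      generalize el c a = w
      intro h1
      induction h1 using AddSubgroup.closure_induction with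
      | mem z hz =>
        obtain ⟨x, ys, hlen, rfl⟩ := hz
        exact AddSubgroup.subset_closure ⟨x, ys ++ [b], by simp [hlen], by simp [List.foldl_append]⟩
      | zero => simp
      | add u v _ _ hu hv => rw [add_lie]; exact add_mem hu hv
      | neg u _ hu => rw [neg_lie]; exact neg_mem hu
    | one => rw [el_one]; exact zero_mem _
    | mul x y hx hy hx' hy' =>
      rw [el_mul (hle hx) (hle hy)]
      exact add_mem (hx' (hle hx)) (hy' (hle hy))
    | inv x hx hx' =>
      rw [el_inv (hle hx)]
      exact neg_mem (hx' (hle hx))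

end Cfsg.Agent.Frobenius.LCS
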