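import Cfsg.Agent.Frobenius.GradedLie
import Cfsg.Agent.Frobenius.LowerCentralLie
import Cfsg.Agent.Frobenius.FPFAut
import Mathlib.Algebra.Lie.BaseChange
import Mathlib.LinearAlgebra.TensorProduct.Basis
import Mathlib.LinearAlgebra.TensorProduct.Tower
import Mathlib.RingTheory.AdjoinRoot
import Mathlib.RingTheory.Polynomial.Cyclotomic.Basic

/-!
# Class bounds for groups with a fixed-point-free automorphism of prime order
-/

set_option autoImplicit false

namespace Cfsg.Agent.Frobenius.Higman

open Subgroup Polynomial TensorProduct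
open scoped TensorProduct DirectSum

universe u

variable {G : Type u} [Group G] [Finite G]

/-- A fixed-point-free automorphism of `p`-power period forces `p ∤ |G|`. -/
theorem not_dvd_card {p : ℕ} [hp : Fact p.Prime] (α : MulAut G) (hα : α ^ p = 1)
    (hfpf : ∀ g, α g = g → g = 1) : ¬ p ∣ Nat.card G := by
  intro hd
  have hP : IsPGroup p (zpowers α) := by
    intro x
    refine ⟨1, Subtype.ext ?_⟩
    obtain ⟨k, hk⟩ := mem_zpowers_iff.1 x.2
    rw [pow_one, SubmonoidClass.coe_pow, ← hk, ← zpow_natCast, ← zpow_mul, mul_comm, zpow_mul,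
      zpow_natCast, hα, one_zpow, OneMemClass.coe_one]
  have h := hP.card_modEq_card_fixedPoints G
  have hfix : MulAction.fixedPoints (zpowers α) G = {1} := by
    ext g
    constructor
    · exact fun hg => hfpf g (hg ⟨α, mem_zpowers α⟩)
    · rintro rfl x
      exact map_one (x : MulAut G)
  rw [hfix, Nat.card_coe_set_eq {1}, Set.ncard_singleton] at h
  exact hp.out.not_dvd_one
    (Nat.modEq_zero_iff_dvd.1 (h.symm.trans (Nat.modEq_zero_iff_dvd.2 hd)))

variable (α : G ≃* G)

omit [Finite G] in
theorem map_term (k : ℕ) : (LCS.term G k).map (α : G →* G) = LCS.term G k := by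
  rw [LCS.term, Subgroup.map_lowerCentralSeries, ← MonoidHom.range_eq_map,
    MonoidHom.range_eq_top.2 α.surjective]

omit [Finite G] in
theorem apply_mem_term {k : ℕ} {g : G} (h : g ∈ LCS.term G k) : α g ∈ LCS.term G k :=
  map_term α k ▸ Subgroup.mem_map_of_mem (α : G →* G) h

/-- The induced map on a layer. -/
noncomputable def layerMap (k : ℕ) : LCS.A G k →+ LCS.A G k :=
  MonoidHom.toAdditive
    (QuotientGroup.map _ _ (restrictEquiv α (LCS.term G k) (map_term α k)).toMonoidHom
      (fun _ hg => Subgroup.mem_comap.2 (Subgroup.mem_subgroupOf.2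
        (apply_mem_term α (Subgroup.mem_subgroupOf.1 hg)))))

/-- The induced automorphism of the Lie ring. -/
noncomputable def lieMap : LCS.L G →+ LCS.L G := DirectSum.map fun k => layerMap α k

theorem lieMap_el {k : ℕ} {g : G} (h : g ∈ LCS.term G k) :
    lieMap α (LCS.el k g) = LCS.el k (α g) := by
  rw [LCS.el_of_mem h, LCS.el_of_mem (apply_mem_term α h), lieMap]
  exact DFinsupp.mapRange_single (hf := fun i => map_zero (layerMap α i))

theorem lieMap_lie (x y : LCS.L G) : lieMap α ⁅x, y⁆ = ⁅lieMap α x, lieMap α y⁆ := by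
  refine LCS.induction x (by simp) ?_ (fun a b ha hb => by simp [add_lie, ha, hb])
  intro i g hg
  refine LCS.induction y (by simp) ?_ (fun a b ha hb => by simp [lie_add, ha, hb])
  intro j h hh
  rw [LCS.lie_el hg hh rfl, lieMap_el α (LCS.commutator_mem i j hg hh), lieMap_el α hg,
    lieMap_el α hh, LCS.lie_el (apply_mem_term α hg) (apply_mem_term α hh) rfl, map_commutatorElement]

theorem lieMap_iterate (n : ℕ) {k : ℕ} {g : G} (h : g ∈ LCS.term G k) :
    (lieMap α)^[n] (LCS.el k g) = LCS.el k (α^[n] g) ∧ α^[n] g ∈ LCS.term G k := by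
  induction n with
  | zero => exact ⟨rfl, h⟩
  | succ n ih =>
    rw [Function.iterate_succ_apply', Function.iterate_succ_apply', ih.1, lieMap_el α ih.2]
    exact ⟨rfl, apply_mem_term α ih.2⟩

theorem lieMap_fpf (hfpf : ∀ g, α g = g → g = 1) {x : LCS.L G} (hx : lieMap α x = x) : x = 0 := by
  ext k
  have hk : layerMap α k (x k) = x k := by
    conv_rhs => rw [← hx]
    rfl
  have key := H72.fpf_of_surjective (QuotientGroup.mk' ((LCS.term G (k + 1)).subgroupOf (LCS.term G k)))
    (QuotientGroup.mk'_surjective _) (restrictEquiv α (LCS.term G k) (map_term α k))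
    (fun q => (layerMap α k (Additive.ofMul q)).toMul) (fun g => rfl)
    (fun g hg => Subtype.ext (hfpf _ (congrArg Subtype.val hg))) ((x k).toMul)
    (congrArg Additive.toMul hk)
  exact Additive.toMul.injective key

/-- The ring `ℤ[ω]`. -/
abbrev R (p : ℕ) := AdjoinRoot (cyclotomic p ℤ)

/-- The extended Lie ring. -/
abbrev M (p : ℕ) (G : Type u) [Group G] [Finite G] := R p ⊗[ℤ] LCS.L G

variable (p : ℕ) [hp : Fact p.Prime]

/-- `ω ^ i` for `i : ZMod p`. -/
noncomputable def w (i : ZMod p) : R p := AdjoinRoot.root (cyclotomic p ℤ) ^ i.val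

theorem sum_root_pow : ∑ i ∈ Finset.range p, AdjoinRoot.root (cyclotomic p ℤ) ^ i = 0 := by
  have h := AdjoinRoot.mk_self (f := cyclotomic p ℤ)
  conv at h => lhs; arg 2; rw [cyclotomic_prime]
  simpa [map_sum, map_pow, AdjoinRoot.mk_X] using h

theorem root_pow_p : AdjoinRoot.root (cyclotomic p ℤ) ^ p = 1 := by
  have h := geom_sum_mul (AdjoinRoot.root (cyclotomic p ℤ)) p
  rw [sum_root_pow, zero_mul] at h
  exact (sub_eq_zero.1 h.symm)

theorem w_add (i j : ZMod p) : w p (i + j) = w p i * w p j := by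
  simp only [w, ← pow_add, ZMod.val_add]
  conv_rhs => rw [← Nat.mod_add_div (i.val + j.val) p]
  rw [pow_add _ _ (p * _), pow_mul, root_pow_p, one_pow, mul_one]

theorem w_zero : w p 0 = 1 := by simp [w]

theorem sum_w : ∑ k : ZMod p, w p k = 0 := by
  rw [← sum_root_pow p]
  refine Finset.sum_bij' (fun k _ => k.val) (fun i _ => (i : ZMod p)) (fun k _ => ?_) (by simp)
    (fun k _ => ZMod.natCast_zmod_val k) (fun i hi => ?_) (fun k _ => rfl)
  · exact Finset.mem_range.2 (ZMod.val_lt k)
  · exact ZMod.val_natCast_of_lt (Finset.mem_range.1 hi)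

theorem sum_w_mul {j : ZMod p} (hj : j ≠ 0) : ∑ i : ZMod p, w p (-(i * j)) = 0 := by
  conv_rhs => rw [← sum_w p]
  exact Fintype.sum_equiv ((Equiv.mulRight₀ j hj).trans (Equiv.neg _)) _ _ fun i => rfl

/-- The automorphism on the extended Lie ring. -/
noncomputable def mMap : M p G →ₗ[R p] M p G :=
  LinearMap.baseChange (R p) (lieMap α).toIntLinearMap

theorem mMap_tmul (r : R p) (y : LCS.L G) : mMap α p (r ⊗ₜ y) = r ⊗ₜ lieMap α y :=
  LinearMap.baseChange_tmul _ _ _

omit hp in
theorem m_lie_zero (x : M p G) : ⁅x, (0 : M p G)⁆ = 0 := lie_zero x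

omit hp in
theorem m_zero_lie (x : M p G) : ⁅(0 : M p G), x⁆ = 0 := zero_lie x

omit hp in
theorem m_lie_add (x y z : M p G) : ⁅x, y + z⁆ = ⁅x, y⁆ + ⁅x, z⁆ := lie_add x y z

omit hp in
theorem m_add_lie (x y z : M p G) : ⁅x + y, z⁆ = ⁅x, z⁆ + ⁅y, z⁆ := add_lie x y z

omit hp in
theorem m_lie_smul (t : R p) (x y : M p G) : ⁅x, t • y⁆ = t • ⁅x, y⁆ := lie_smul t x y

omit hp in
theorem m_smul_lie (t : R p) (x y : M p G) : ⁅t • x, y⁆ = t • ⁅x, y⁆ := smul_lie t x y

theorem mMap_lie (x y : M p G) : mMap α p ⁅x, y⁆ = ⁅mMap α p x, mMap α p y⁆ := by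
  induction x using TensorProduct.induction_on with
  | zero => rw [map_zero, m_zero_lie, m_zero_lie, map_zero]
  | tmul r a =>
    induction y using TensorProduct.induction_on with
    | zero => rw [map_zero, m_lie_zero, m_lie_zero, map_zero]
    | tmul s b =>
      rw [LieAlgebra.ExtendScalars.bracket_tmul, mMap_tmul, mMap_tmul, mMap_tmul,
        LieAlgebra.ExtendScalars.bracket_tmul, lieMap_lie]
    | add u v hu hv => rw [map_add, m_lie_add, m_lie_add, map_add, hu, hv]
  | add u v hu hv => rw [map_add, m_add_lie, m_add_lie, map_add, hu, hv]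

theorem basis_exists : ∃ (ι : Type) (b : Module.Basis ι ℤ (R p)) (i₀ : ι), b i₀ = 1 := by
  have hmon := cyclotomic.monic p ℤ
  refine ⟨_, (AdjoinRoot.powerBasis' hmon).basis, ⟨0, ?_⟩, ?_⟩
  · rw [AdjoinRoot.powerBasis'_dim, natDegree_cyclotomic, Nat.totient_prime hp.out]
    exact Nat.sub_pos_of_lt hp.out.one_lt
  · simp

open Classical in
theorem mMap_fpf (hfpf : ∀ g, α g = g → g = 1) {x : M p G} (hx : mMap α p x = x) : x = 0 := by
  obtain ⟨ι, b, -, -⟩ := basis_exists p
  have key : ∀ (z : M p G) (i : ι), equivFinsuppOfBasisLeft b (mMap α p z) i =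
      lieMap α (equivFinsuppOfBasisLeft b z i) := by
    intro z i
    induction z using TensorProduct.induction_on with
    | zero => simp
    | tmul r y =>
      rw [mMap_tmul, equivFinsuppOfBasisLeft_apply_tmul_apply,
        equivFinsuppOfBasisLeft_apply_tmul_apply, map_zsmul]
    | add u v hu hv => simp [hu, hv]
  refine (equivFinsuppOfBasisLeft b).injective ?_
  rw [map_zero]
  ext i : 1
  refine lieMap_fpf α hfpf ?_
  rw [← key, hx]

open Classical in
theorem one_tmul_eq_zero {y : LCS.L G} (h : (1 : R p) ⊗ₜ[ℤ] y = 0) : y = 0 := by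
  obtain ⟨ι, b, i₀, hb⟩ := basis_exists p
  have := congrArg (fun z => equivFinsuppOfBasisLeft b z i₀) h
  simp only [equivFinsuppOfBasisLeft_apply_tmul_apply, map_zero, Finsupp.coe_zero, Pi.zero_apply] at this
  rwa [← hb, Module.Basis.repr_self, Finsupp.single_eq_same, one_smul] at this

/-- Powers of the automorphism indexed by `ZMod p`. -/
noncomputable def mPow (j : ZMod p) : Module.End (R p) (M p G) := (mMap α p) ^ j.val

theorem mMap_pow_p (hpow : ∀ g, α^[p] g = g) : (mMap α p : Module.End (R p) (M p G)) ^ p = 1 := by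
  refine LinearMap.ext fun x => ?_
  rw [Module.End.coe_pow, Module.End.one_apply]
  induction x using TensorProduct.induction_on with
  | zero => exact iterate_map_zero (mMap α p) p
  | tmul r y =>
    have hit : ∀ n, (mMap α p)^[n] (r ⊗ₜ y) = r ⊗ₜ (lieMap α)^[n] y := fun n => by
      induction n with
      | zero => rfl
      | succ n ih => rw [Function.iterate_succ_apply', Function.iterate_succ_apply', ih, mMap_tmul]
    rw [hit]
    congr 1
    refine LCS.induction y (iterate_map_zero _ _) (fun k g hg => ?_) (fun a b ha hb => by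
      rw [iterate_map_add, ha, hb])
    rw [(lieMap_iterate α p hg).1, hpow]
  | add u v hu hv => rw [iterate_map_add, hu, hv]

theorem mPow_succ (hpow : ∀ g, α^[p] g = g) (j : ZMod p) (x : M p G) :
    mMap α p (mPow α p j x) = mPow α p (j + 1) x := by
  rw [mPow, mPow, ZMod.val_add, ZMod.val_one, ← Module.End.mul_apply, ← pow_succ']
  conv_lhs => rw [← Nat.mod_add_div (j.val + 1) p, pow_add, pow_mul, mMap_pow_p α p hpow, one_pow,
    mul_one]

/-- The eigenspaces. -/
noncomputable def eig (i : ZMod p) : AddSubgroup (M p G) where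
  carrier := {x | mMap α p x = w p i • x}
  zero_mem' := by simp
  add_mem' := fun {x y} hx hy => by
    simp only [Set.mem_setOf_eq] at hx hy ⊢
    rw [map_add, hx, hy, smul_add]
  neg_mem' := fun {x} hx => by
    simp only [Set.mem_setOf_eq] at hx ⊢
    rw [map_neg, hx, smul_neg]

theorem isGrading (hfpf : ∀ g, α g = g → g = 1) : GradedLie.IsGrading (eig α p) where
  zero := eq_bot_iff.2 fun x hx => AddSubgroup.mem_bot.2
    (mMap_fpf α p hfpf (by rw [show mMap α p x = w p 0 • x from hx, w_zero, one_smul]))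
  bracket := fun {i j a b} ha hb => by
    change mMap α p ⁅a, b⁆ = w p (i + j) • ⁅a, b⁆
    rw [mMap_lie, show mMap α p a = w p i • a from ha, show mMap α p b = w p j • b from hb,
      m_lie_smul, m_smul_lie, smul_smul, w_add, mul_comm]

theorem iSup_eig (hpow : ∀ g, α^[p] g = g) (hdvd : ¬ p ∣ Nat.card G) : ⨆ i, eig α p i = ⊤ := by
  refine eq_top_iff.2 fun x hx => ?_
  clear hx
  obtain ⟨u, v, huv⟩ : IsCoprime (p : ℤ) (Nat.card G : ℤ) :=
    Int.isCoprime_iff_nat_coprime.2 (hp.out.coprime_iff_not_dvd.2 hdvd)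
  have htor : (Nat.card G : ℤ) • x = 0 := by
    clear huv
    induction x using TensorProduct.induction_on with
    | zero => simp
    | tmul r y => rw [← TensorProduct.tmul_smul, natCast_zsmul, LCS.card_nsmul, tmul_zero]
    | add a b ha hb => rw [smul_add, ha, hb, add_zero]
  let E : ZMod p → M p G := fun i => u • ∑ j : ZMod p, w p (-(i * j)) • mPow α p j x
  have hE : ∀ i, E i ∈ eig α p i := fun i => by
    change mMap α p (E i) = w p i • E i
    simp only [E, map_zsmul, map_sum, map_smul, mPow_succ α p hpow]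
    rw [smul_comm (w p i) u]
    congr 1
    rw [Finset.smul_sum]
    refine Fintype.sum_equiv (Equiv.addRight (1 : ZMod p)) _ _ fun j => ?_
    rw [Equiv.coe_addRight, smul_smul (w p i), ← w_add]
    congr 2
    ring
  have hsum : ∑ i, E i = x := by
    simp only [E]
    rw [← Finset.smul_sum, Finset.sum_comm]
    simp only [← Finset.sum_smul]
    rw [Finset.sum_eq_single (0 : ZMod p) (fun j _ hj => by rw [sum_w_mul p hj, zero_smul]) (by simp)]
    simp only [mul_zero, neg_zero, w_zero, Finset.sum_const, Finset.card_univ, ZMod.card, mPow,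
      ZMod.val_zero, pow_zero, Module.End.one_apply, nsmul_one]
    rw [Nat.cast_smul_eq_nsmul, ← natCast_zsmul, smul_smul]
    calc (u * (p : ℤ)) • x = (u * (p : ℤ)) • x + v • ((Nat.card G : ℤ) • x) := by
          rw [htor, smul_zero, add_zero]
      _ = x := by rw [smul_smul, ← add_smul, huv, one_smul]
  rw [← hsum]
  exact AddSubgroup.sum_mem _ fun i _ => AddSubgroup.mem_iSup_of_mem i (hE i)

/-- A bound on graded brackets bounds the class. -/
theorem lowerCentralSeries_eq_bot (hfpf : ∀ g, α g = g → g = 1) (hpow : ∀ g, α^[p] g = g) {c : ℕ}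
    (hc : GradedLie.ClassLE (eig α p) 0 c) : (⊤ : Subgroup G).lowerCentralSeries c = ⊥ := by
  have hα : (α : MulAut G) ^ p = 1 := MulEquiv.ext fun g => by
    have e : ∀ k : ℕ, α^[k] g = (α ^ k : MulAut G) g := fun k => by
      induction k with
      | zero => rfl
      | succ k ih => rw [Function.iterate_succ_apply', ih, pow_succ', MulAut.mul_apply]
    rw [← e, hpow, MulAut.one_apply]
  have hspan := iSup_eig α p hpow (not_dvd_card α hα hfpf)
  have hzero := GradedLie.lb_eq_zero_of_classLE hc hspan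
  have hL : ∀ g ∈ LCS.term G c, LCS.el c g = (0 : LCS.L G) := by
    intro g hg
    have h := LCS.el_mem_closure c g hg
    revert h
    generalize LCS.el c g = z
    intro h
    induction h using AddSubgroup.closure_induction with
    | mem z hz =>
      obtain ⟨x, ys, hlen, rfl⟩ := hz
      refine one_tmul_eq_zero p ?_
      have hfold : ∀ (l : List (LCS.L G)) (a : LCS.L G),
          (1 : R p) ⊗ₜ[ℤ] l.foldl (fun z y => ⁅z, y⁆) a =
            (l.map fun y => (1 : R p) ⊗ₜ[ℤ] y).foldl (fun z y => ⁅z, y⁆) ((1 : R p) ⊗ₜ[ℤ] a) := by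
        intro l
        induction l with
        | nil => simp
        | cons b l ih =>
          intro a
          simp only [List.foldl_cons, List.map_cons, ih, LieAlgebra.ExtendScalars.bracket_tmul,
            mul_one]
      rw [hfold]
      exact hzero _ _ (by simp [hlen])
    | zero => rfl
    | add a b _ _ ha hb => rw [ha, hb, add_zero]
    | neg a _ ha => rw [ha, neg_zero]
  have hle : LCS.term G c ≤ LCS.term G (c + 1) := fun g hg =>
    (LCS.el_eq_zero_iff hg).1 (hL g hg)
  have hnil : Group.IsNilpotent G :=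
    isNilpotent_of_fpf _ hp.out G α rfl hfpf hpow
  obtain ⟨n, hn⟩ := Subgroup.nilpotent_iff_lowerCentralSeries.1 hnil
  have hall : ∀ k, LCS.term G c ≤ LCS.term G (c + k) := by
    intro k
    induction k with
    | zero => exact le_rfl
    | succ k ih =>
      refine hle.trans ?_
      change ⁅LCS.term G c, (⊤ : Subgroup G)⁆ ≤ ⁅LCS.term G (c + k), (⊤ : Subgroup G)⁆
      exact Subgroup.commutator_mono ih le_rfl
  exact eq_bot_iff.2 ((hall n).trans
    ((Subgroup.lowerCentralSeries_antitone ⊤ (Nat.le_add_left n c)).trans hn.le))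

end Cfsg.Agent.Frobenius.Higman
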