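import Cfsg.Agent.Frobenius.Basic
import Cfsg.Agent.CharBasic.Complete
import Cfsg.Agent.CharInduce.Function

/-!
# Frobenius's theorem

The Frobenius kernel of a finite Frobenius group is a normal subgroup complementing `H`.
For every irreducible character `θ` of the complement the class function
`Ind (θ - θ(1)) + θ(1)` is an irreducible character of the group; the kernel is the intersection
of their kernels.
-/

set_option autoImplicit false

namespace Cfsg.Agent.Frobenius

open Subgroup Pointwise Cfsg.Agent
open scoped ComplexConjugate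

universe u

variable {G : Type u} [Group G] [Fintype G]

/-- A class function with integral inner products with the irreducible characters, norm one and
positive degree is an irreducible character. -/
theorem isIrrCharacter_of_norm_one {f : G → ℂ} (hf : IsClassFunction G f)
    (hint : ∀ χ : IrrCharacter G, ∃ n : ℤ, classInner f (χ : G → ℂ) = n)
    (hnorm : classInner f f = 1) {d : ℕ} (hdeg : f 1 = d) : IsIrrCharacter G f := by
  classical
  choose a ha using hint
  have hsum : ∑ χ : IrrCharacter G, (a χ) ^ 2 = 1 := by
    have h := CharBasic.classInner_eq_sum (ψ := f) hf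
    rw [hnorm] at h
    simp only [ha, map_intCast, ← sq] at h
    exact_mod_cast h.symm
  obtain ⟨χ, hχ⟩ : ∃ χ, a χ ≠ 0 := by
    by_contra h
    push Not at h
    simp [h] at hsum
  have hrest : ∀ ψ, ψ ≠ χ → a ψ = 0 := by
    intro ψ hψ
    by_contra h0
    have h1 : ∑ x ∈ ({χ, ψ} : Finset (IrrCharacter G)), (a x) ^ 2 ≤ 1 :=
      hsum ▸ Finset.sum_le_sum_of_subset_of_nonneg (Finset.subset_univ _) (fun i _ _ => sq_nonneg _)
    rw [Finset.sum_pair (Ne.symm hψ)] at h1
    have hp : ∀ z : ℤ, z ≠ 0 → 0 < z ^ 2 := fun z hz => by positivity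
    have := hp _ h0
    have := hp _ hχ
    omega
  have haχ : a χ = 1 ∨ a χ = -1 := by
    rw [Finset.sum_eq_single χ (fun b _ hb => by simp [hrest b hb]) (by simp)] at hsum
    exact sq_eq_one_iff.1 hsum
  have hfeq : f = (a χ : ℂ) • (χ : G → ℂ) := by
    conv_lhs => rw [CharBasic.classFunction_expansion hf]
    rw [Finset.sum_eq_single χ (fun b _ hb => by simp [ha, hrest b hb]) (by simp), ha]
  obtain ⟨n, hn, hn1⟩ := CharBasic.IsIrr.exists_degree χ.2
  have hz : (d : ℤ) = a χ * n := by
    have := congrFun hfeq 1
    rw [hdeg, Pi.smul_apply, hn1, smul_eq_mul] at this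
    exact_mod_cast this
  rcases haχ with h | h
  · rw [hfeq, h]
    simpa using χ.2
  · rw [h] at hz
    omega

variable {H : Subgroup G}

theorem indFun_conj_mem (hH : IsFrobeniusComplement H) [Fintype H] {φ : H → ℂ}
    (hφ : IsClassFunction H φ) {a : G} {h : H} (h1 : h ≠ 1) :
    indFun H φ (a * h * a⁻¹) = φ h := by
  classical
  rw [CharInduce.isClassFunction_indFun H φ, CharInduce.indFun_apply]
  rw [← Finset.sum_subset (Finset.subset_univ ((H : Set G).toFinset))
    (fun x _ hx => CharInduce.extendByZero_of_not_mem φ (fun hm => hx (by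
      simpa using mem_of_conj_mem hH h.2 (fun e => h1 (Subtype.ext e)) hm)))]
  rw [Finset.sum_congr rfl (fun x hx => show
      (extendByZero H φ (x⁻¹ * h * x) = extendByZero H φ (h : G)) from by
    have hxH : x ∈ H := by simpa using hx
    have := CharInduce.extendByZero_conj hφ (H.inv_mem hxH) (h : G)
    simpa using this)]
  rw [Finset.sum_const, CharInduce.extendByZero_coe, nsmul_eq_mul, ← mul_assoc,
    ← Set.ncard_eq_toFinset_card', ← Nat.card_coe_set_eq]
  simp

/-- The extension of an irreducible character of the complement. -/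
noncomputable def extendChar (H : Subgroup G) (θ : H → ℂ) : G → ℂ :=
  indFun H (θ - θ 1 • fun _ => (1 : ℂ)) + θ 1 • fun _ => (1 : ℂ)

theorem extendChar_kernel (θ : H → ℂ) {x : G} (hx : x ∈ frobeniusKernel H) :
    extendChar H θ x = θ 1 := by
  rcases hx with rfl | hx
  · simp [extendChar, CharInduce.indFun_one]
  · have : indFun H (θ - θ 1 • fun _ => (1 : ℂ)) x = 0 :=
      CharInduce.indFun_eq_zero_of_forall_not_mem H _ fun y hy => hx y ((mem_conj_iff H y x).2 hy)
    simp [extendChar, this]

theorem extendChar_conj_mem (hH : IsFrobeniusComplement H) {θ : H → ℂ} (hθ : IsClassFunction H θ)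
    (a : G) (h : H) : extendChar H θ (a * h * a⁻¹) = θ h := by
  cases nonempty_fintype H
  rcases eq_or_ne h 1 with rfl | h1
  · simp [extendChar_kernel θ (one_mem_kernel H)]
  · simp [extendChar, indFun_conj_mem hH (φ := θ - θ 1 • fun _ => (1 : ℂ))
      (fun g k => by simp [hθ g k]) h1]

theorem isClassFunction_extendChar (θ : H → ℂ) : IsClassFunction G (extendChar H θ) :=
  fun g k => by simp [extendChar, CharInduce.isClassFunction_indFun H _ g k]

theorem isIrrCharacter_extendChar (hH : IsFrobeniusComplement H) {θ : H → ℂ}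
    (hθ : IsIrrCharacter H θ) (hθ1 : θ ≠ fun _ => 1) : IsIrrCharacter G (extendChar H θ) := by
  classical
  obtain ⟨d, -, hd⟩ := CharBasic.IsIrr.exists_degree hθ
  have hres : ∀ h : H, extendChar H θ h = θ h := fun h => by
    simpa using extendChar_conj_mem hH (CharBasic.IsIrr.isClassFunction hθ) 1 h
  have hone : classInner (extendChar H θ) (fun _ : G => (1 : ℂ)) = 0 := by
    rw [extendChar, CharBasic.classInner_add_left, CharInduce.classInner_indFun_left H _ _
        (fun _ _ => rfl), CharBasic.classInner_sub_left, CharBasic.classInner_smul_left,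
      CharBasic.classInner_smul_left, CharBasic.classInner_irr_of_ne hθ CharBasic.isIrrCharacter_one hθ1,
      CharBasic.classInner_irr_self CharBasic.isIrrCharacter_one,
      CharBasic.classInner_irr_self CharBasic.isIrrCharacter_one]
    ring
  refine isIrrCharacter_of_norm_one (isClassFunction_extendChar θ) (fun χ => ?_) ?_
    (by rw [extendChar_kernel θ (one_mem_kernel H), hd])
  · have hχH : IsCharacter H (fun h : H => (χ : G → ℂ) h) := by
      obtain ⟨n, ρ, -, hρ⟩ := χ.2
      exact ⟨n, ρ.comp H.subtype, funext fun h => by rw [← hρ]; rfl⟩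
    obtain ⟨p, hp⟩ := CharBasic.classInner_isChar_nat (CharBasic.IsIrr.isCharacter hθ) hχH
    obtain ⟨q, hq⟩ := CharBasic.classInner_isChar_nat
      (CharBasic.IsIrr.isCharacter (CharBasic.isIrrCharacter_one (G := H))) hχH
    obtain ⟨r, hr⟩ := CharBasic.classInner_isChar_nat
      (CharBasic.IsIrr.isCharacter (CharBasic.isIrrCharacter_one (G := G)))
      (CharBasic.IsIrr.isCharacter χ.2)
    refine ⟨(p : ℤ) - d * q + d * r, ?_⟩
    rw [extendChar, CharBasic.classInner_add_left, CharInduce.classInner_indFun_left H _ _
        (CharBasic.IsIrr.isClassFunction χ.2), CharBasic.classInner_sub_left,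
      CharBasic.classInner_smul_left, CharBasic.classInner_smul_left, hp, hq, hr, hd]
    push_cast
    ring
  · have h1 : classInner (fun _ : G => (1 : ℂ)) (extendChar H θ) = 0 := by
      rw [← CharBasic.classInner_conj_symm, hone, map_zero]
    conv_lhs => arg 1; rw [extendChar]
    rw [CharBasic.classInner_add_left, CharInduce.classInner_indFun_left H _ _
        (isClassFunction_extendChar θ), CharBasic.classInner_smul_left, h1, mul_zero, add_zero,
      funext hres, CharBasic.classInner_sub_left, CharBasic.classInner_smul_left,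
      CharBasic.classInner_irr_self hθ,
      CharBasic.classInner_irr_of_ne CharBasic.isIrrCharacter_one hθ (Ne.symm hθ1), mul_zero,
      sub_zero]

omit [Fintype G] in
/-- **Frobenius's theorem.** -/
theorem exists_kernel [Finite G] (hH : IsFrobeniusComplement H) :
    ∃ N : Subgroup G, (N : Set G) = frobeniusKernel H ∧ N.Normal ∧ IsComplement' N H := by
  classical
  cases nonempty_fintype G
  have hρ : ∀ θ : {θ : IrrCharacter H // (θ : H → ℂ) ≠ fun _ => 1},
      ∃ (n : ℕ) (ρ : Representation ℂ G (Fin n → ℂ)), ρ.character = extendChar H θ.1.1 := fun θ =>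
    CharBasic.IsIrr.isCharacter (isIrrCharacter_extendChar hH θ.1.2 θ.2)
  choose n ρ hρ using hρ
  let N : Subgroup G := ⨅ θ, MonoidHom.ker (ρ θ)
  have hmem : ∀ x, x ∈ N ↔ x ∈ frobeniusKernel H := by
    intro x
    have hiff : ∀ θ, x ∈ MonoidHom.ker (ρ θ) ↔ extendChar H θ.1.1 x = θ.1.1 1 := fun θ => by
      have h := CharBasic.character_eq_finrank_iff (ρ θ) x
      have h1 : (Module.finrank ℂ (Fin (n θ) → ℂ) : ℂ) = θ.1.1 1 := by
        rw [← Representation.char_one (ρ θ), hρ θ, extendChar_kernel _ (one_mem_kernel H)]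
      rw [hρ θ, h1] at h
      exact MonoidHom.mem_ker.trans h.symm
    simp only [N, Subgroup.mem_iInf, hiff]
    refine ⟨fun hx => ?_, fun hx θ => extendChar_kernel _ hx⟩
    by_contra hk
    obtain ⟨hx1, q, hq⟩ := (notMem_kernel_iff H x).1 hk
    induction q using QuotientGroup.induction_on with
    | H a =>
    rw [smul_coset_eq_iff] at hq
    set h : H := ⟨_, hq⟩ with hh
    have key : IsConj h 1 := (CharBasic.isConj_iff_forall_irr h 1).2 fun θ => by
      by_cases hθ1 : (θ : H → ℂ) = fun _ => 1
      · simp [hθ1]
      · rw [← hx ⟨θ, hθ1⟩, ← extendChar_conj_mem hH (CharBasic.IsIrr.isClassFunction θ.2) a h]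
        congr 1
        simp [hh, mul_assoc]
    rw [isConj_one_left] at key
    exact hx1 (by simpa [hh, mul_assoc, inv_mul_eq_one] using congrArg Subtype.val key)
  have hN : (N : Set G) = frobeniusKernel H := Set.ext hmem
  obtain ⟨h1, h2, -⟩ := of_coe_eq_kernel hH hN
  exact ⟨N, hN, h1, h2⟩

/-- The Frobenius kernel as a subgroup. -/
noncomputable def kernel [Finite G] (hH : IsFrobeniusComplement H) : Subgroup G :=
  (exists_kernel hH).choose

omit [Fintype G] in
theorem coe_kernel [Finite G] (hH : IsFrobeniusComplement H) :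
    (kernel hH : Set G) = frobeniusKernel H := (exists_kernel hH).choose_spec.1

omit [Fintype G] in
theorem kernel_normal [Finite G] (hH : IsFrobeniusComplement H) : (kernel hH).Normal :=
  (exists_kernel hH).choose_spec.2.1

omit [Fintype G] in
theorem kernel_isComplement [Finite G] (hH : IsFrobeniusComplement H) :
    IsComplement' (kernel hH) H :=
  (exists_kernel hH).choose_spec.2.2

end Cfsg.Agent.Frobenius
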