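import Cfsg.Agent.Frobenius.KernelTheorem
import Mathlib.GroupTheory.Sylow

/-!
# Groups acting without fixed points on an abelian group

The partition trick: if `C` has a partition into `k` non-trivial subgroups and acts without fixed
points on an abelian group `M`, then `m ^ (k - 1) = 1` on `M`.  Consequently such a `C` is not a
Frobenius group and has no subgroup `C_p × C_p`.
-/

set_option autoImplicit false

namespace Cfsg.Agent.Frobenius

open Subgroup Pointwise

variable {C M : Type*} [Group C] [CommGroup M]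

/-- The action is without fixed points. -/
def IsFPF (φ : C →* MulAut M) : Prop := ∀ c : C, c ≠ 1 → ∀ m : M, φ c m = m → m = 1

theorem IsFPF.comp {D : Type*} [Group D] {φ : C →* MulAut M} (hφ : IsFPF φ) {f : D →* C}
    (hf : Function.Injective f) : IsFPF (φ.comp f) := fun d hd m hm =>
  hφ (f d) (fun h => hd (hf (by rw [h, map_one]))) m hm

theorem prod_eq_one [Fintype C] [Nontrivial C] {φ : C →* MulAut M} (hφ : IsFPF φ) (m : M) :
    ∏ c : C, φ c m = 1 := by
  obtain ⟨e, he⟩ := exists_ne (1 : C)
  refine hφ e he _ ?_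
  rw [map_prod]
  exact Fintype.prod_equiv (Equiv.mulLeft e) _ _ fun c => by
    rw [Equiv.coe_mulLeft, map_mul, MulAut.mul_apply]

theorem coprime_card [Finite C] [Finite M] {φ : C →* MulAut M} (hφ : IsFPF φ) :
    (Nat.card C).Coprime (Nat.card M) := by
  let _ : MulAction C M :=
    { smul := fun c m => φ c m
      one_smul := fun m => by change φ 1 m = m; simp
      mul_smul := fun a b m => by change φ (a * b) m = φ a (φ b m); simp }
  let S : SubMulAction C M :=
    { carrier := {(1 : M)}ᶜ
      smul_mem' := fun c {x} hx hcx => hx ((φ c).injective (by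
        rw [map_one]; exact Set.mem_singleton_iff.1 hcx)) }
  have key := dvd_card_of_free C (X := S) fun k x hkx => by
    by_contra hk
    exact x.2 (hφ k hk x.1 (congrArg Subtype.val hkx))
  have hc : Nat.card S = Nat.card M - 1 := by
    change Nat.card ↥({(1 : M)}ᶜ : Set M) = _
    rw [Nat.card_coe_set_eq, Set.ncard_compl, Set.ncard_singleton]
  rw [hc] at key
  obtain ⟨k, hk⟩ := key
  have : Nat.card M = 1 + Nat.card C * k := by have := Nat.card_pos (α := M); omega
  rw [this]; simp

/-- Partition trick. -/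
theorem pow_card_sub_one_eq_one [Finite C] {ι : Type*} [Fintype ι] (D : ι → Subgroup C)
    (hne : ∀ i, D i ≠ ⊥) (hpart : ∀ c : C, c ≠ 1 → ∃! i, c ∈ D i) [Nontrivial C]
    {φ : C →* MulAut M} (hφ : IsFPF φ) (m : M) : m ^ (Fintype.card ι - 1) = 1 := by
  classical
  cases nonempty_fintype C
  have h1 : ∀ i, ∏ c : C, (if c ∈ D i then φ c m else 1) = 1 := fun i => by
    have : Nontrivial (D i) := (Subgroup.nontrivial_iff_ne_bot _).2 (hne i)
    rw [← Finset.prod_filter, Finset.prod_subtype (p := fun c => c ∈ D i) _ (by simp) (fun c => φ c m)]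
    exact prod_eq_one (hφ.comp (D i).subtype_injective) m
  have h2 : ∏ c : C, ∏ i, (if c ∈ D i then φ c m else 1) = 1 := by
    rw [Finset.prod_comm]; simp [h1]
  have h3 : ∀ c : C, ∏ i, (if c ∈ D i then φ c m else 1) =
      (if c = 1 then m ^ (Fintype.card ι - 1) else 1) * φ c m := by
    intro c
    rcases eq_or_ne c 1 with rfl | hc
    · have hpos : 0 < Fintype.card ι := Fintype.card_pos_iff.2
        (let ⟨e, he⟩ := exists_ne (1 : C); ⟨(hpart e he).choose⟩)
      simp only [one_mem, if_true, map_one, MulAut.one_apply, Finset.prod_const, Finset.card_univ]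
      rw [← pow_succ, Nat.sub_add_cancel hpos]
    · obtain ⟨i, hi, huniq⟩ := hpart c hc
      rw [Finset.prod_eq_single i (fun j _ hj => if_neg fun h => hj (huniq j h)) (by simp),
        if_pos hi, if_neg hc, one_mul]
  simp_rw [h3, Finset.prod_mul_distrib, prod_eq_one hφ, mul_one, Finset.prod_ite_eq',
    Finset.mem_univ, if_true] at h2
  exact h2

theorem exists_ne_of_pow_eq_one [Nontrivial M] [Finite M] {k : ℕ} (hk : k.Coprime (Nat.card M))
    (h : ∀ m : M, m ^ k = 1) : False := by
  obtain ⟨m, hm⟩ := exists_ne (1 : M)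
  exact hm ((hk.symm.pow_left_bijective).1 (by simp [h]))

/-- A group with a fixed-point-free action on a non-trivial abelian group is not a Frobenius
group. -/
theorem not_isFrobeniusComplement [Finite C] [Finite M] [Nontrivial M] {φ : C →* MulAut M}
    (hφ : IsFPF φ) (D : Subgroup C) : ¬ IsFrobeniusComplement D := by
  classical
  intro hD
  obtain ⟨N, hN, -, hNc⟩ := exists_kernel hD
  obtain ⟨d, hd, hd1⟩ := exists_ne_one hD
  have : Nontrivial C := ⟨⟨d, 1, hd1⟩⟩
  have : Fintype (C ⧸ D) := Fintype.ofFinite _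
  have hcard : Nat.card N = D.index := (of_coe_eq_kernel hD hN).2.2
  refine exists_ne_of_pow_eq_one (M := M) (k := D.index)
    ((coprime_card hφ).coprime_dvd_left D.index_dvd_card) fun m => ?_
  have := pow_card_sub_one_eq_one
    (fun o : Option (C ⧸ D) => o.elim N fun a => MulAut.conj a.out • D) ?_ ?_ hφ m
  · rwa [Fintype.card_option, Nat.add_sub_cancel, ← Nat.card_eq_fintype_card] at this
  · rintro (_ | a)
    · intro h
      simp only [Option.elim_none] at h
      rw [h, Subgroup.card_bot] at hcard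
      exact absurd hcard (one_lt_index hD).ne
    · intro h
      simp only [Option.elim_some] at h
      have : (MulAut.conj a.out) d ∈ MulAut.conj a.out • D :=
        Subgroup.smul_mem_pointwise_smul _ _ _ hd
      rw [h, Subgroup.mem_bot] at this
      exact hd1 ((MulAut.conj a.out).injective (by rw [this, map_one]))
  · intro c hc
    have hmem : ∀ a : C ⧸ D, c ∈ MulAut.conj a.out • D ↔ c • a = a := fun a => by
      conv_rhs => rw [← a.out_eq]
      rw [mem_conj_iff]
      exact (smul_coset_eq_iff D c a.out).symm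
    by_cases hk : c ∈ N
    · refine ⟨none, hk, ?_⟩
      rintro (_ | a) ha
      · rfl
      · have hk' : c ∈ frobeniusKernel D := hN ▸ hk
        exact absurd ((hmem a).1 ha) (((mem_kernel_iff D c).1 hk').resolve_left hc a)
    · have hk' : c ∉ frobeniusKernel D := hN ▸ hk
      obtain ⟨-, a, ha⟩ := (notMem_kernel_iff D c).1 hk'
      refine ⟨some a, (hmem a).2 ha, ?_⟩
      rintro (_ | b) hb
      · exact absurd hb hk
      · exact congrArg some (fixed_unique hD hc ((hmem b).1 hb) ha)

/-- A group of order `p ^ 2` acting without fixed points on a non-trivial abelian group is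
cyclic. -/
theorem isCyclic_of_card_sq [Finite M] [Nontrivial M] {φ : C →* MulAut M} (hφ : IsFPF φ) (p : ℕ)
    [hp : Fact p.Prime] (hC : Nat.card C = p ^ 2) : IsCyclic C := by
  classical
  have : Finite C := Nat.finite_of_card_ne_zero (by rw [hC]; exact pow_ne_zero _ hp.out.ne_zero)
  cases nonempty_fintype C
  by_contra hcyc
  have hord : ∀ c : C, c ≠ 1 → orderOf c = p := by
    intro c hc
    obtain ⟨k, hk, hk'⟩ := (Nat.dvd_prime_pow hp.out).1 (hC ▸ orderOf_dvd_natCard c)
    interval_cases k
    · exact absurd (orderOf_eq_one_iff.1 hk') hc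
    · simpa using hk'
    · exact absurd (isCyclic_of_orderOf_eq_card c (hk'.trans hC.symm)) hcyc
  have : Nontrivial C := Finite.one_lt_card_iff_nontrivial.1 (by
    rw [hC]; exact Nat.one_lt_pow two_ne_zero hp.out.one_lt)
  let S : Finset (Subgroup C) := (Finset.univ.filter fun c : C => c ≠ 1).image Subgroup.zpowers
  have hS : ∀ D : S, Nat.card (D : Subgroup C) = p := fun ⟨D, hD⟩ => by
    obtain ⟨c, hc, rfl⟩ := Finset.mem_image.1 hD
    rw [Nat.card_zpowers, hord c (Finset.mem_filter.1 hc).2]
  have hpart : ∀ c : C, c ≠ 1 → ∃! D : S, c ∈ (D : Subgroup C) := by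
    intro c hc
    refine ⟨⟨Subgroup.zpowers c, Finset.mem_image.2 ⟨c, by simp [hc], rfl⟩⟩,
      Subgroup.mem_zpowers c, fun D hD => Subtype.ext ?_⟩
    exact (Subgroup.eq_of_le_of_card_ge ((Subgroup.zpowers_le).2 hD)
      (by rw [hS D, Nat.card_zpowers, hord c hc])).symm
  have hne : ∀ D : S, (D : Subgroup C) ≠ ⊥ := fun D h => by
    have := hS D
    rw [h, Subgroup.card_bot] at this
    exact hp.out.one_lt.ne this
  have hp2 : (p : ℕ).Coprime (Nat.card M) :=
    (coprime_card hφ).coprime_dvd_left (hC ▸ dvd_pow_self p two_ne_zero)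
  -- the partition has `p + 1` parts
  have hcount : Fintype.card S * (p - 1) = p ^ 2 - 1 := by
    let e : (Σ D : S, {c : ((D : Subgroup C)) // c ≠ 1}) ≃ {c : C // c ≠ 1} :=
      Equiv.ofBijective (fun x => ⟨(x.2.1 : C), fun h => x.2.2 (Subtype.ext h)⟩)
        ⟨fun x y h => by
          obtain ⟨D, ⟨⟨c, hc⟩, hc1⟩⟩ := x
          obtain ⟨E, ⟨⟨c', hc'⟩, hc1'⟩⟩ := y
          obtain rfl : c = c' := congrArg Subtype.val h
          obtain ⟨_, _, hu⟩ := hpart c (fun h => hc1 (Subtype.ext h))
          obtain rfl : D = E := (hu D hc).trans (hu E hc').symm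
          rfl,
        fun ⟨c, hc⟩ => by
          obtain ⟨D, hD, -⟩ := hpart c hc
          exact ⟨⟨D, ⟨⟨c, hD⟩, fun h => hc (congrArg Subtype.val h)⟩⟩, rfl⟩⟩
    have h := Nat.card_congr e
    rw [Nat.card_sigma] at h
    have hD : ∀ D : S, Nat.card {c : ((D : Subgroup C)) // c ≠ 1} = p - 1 := fun D => by
      rw [Nat.card_eq_fintype_card, Fintype.card_subtype_compl, ← Nat.card_eq_fintype_card, hS D]
      simp
    simp only [hD, Finset.sum_const, Finset.card_univ, smul_eq_mul] at h
    rw [h, Nat.card_eq_fintype_card, Fintype.card_subtype_compl, ← Nat.card_eq_fintype_card, hC]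
    simp
  have hS1 : Fintype.card S = p + 1 := by
    have h2 := hp.out.two_le
    obtain ⟨q, rfl⟩ : ∃ q, p = q + 2 := ⟨p - 2, by omega⟩
    have h3 : (q + 2) ^ 2 - 1 = (q + 3) * (q + 1) := by
      have : (q + 2) ^ 2 = (q + 3) * (q + 1) + 1 := by ring
      omega
    rw [h3, show q + 2 - 1 = q + 1 from by omega] at hcount
    exact Nat.eq_of_mul_eq_mul_right (Nat.succ_pos q) hcount
  refine exists_ne_of_pow_eq_one (M := M) hp2 fun m => ?_
  have := pow_card_sub_one_eq_one (fun D : S => (D : Subgroup C)) hne hpart hφ m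
  rwa [hS1, Nat.add_sub_cancel] at this

end Cfsg.Agent.Frobenius
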