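import Cfsg.Agent.Frobenius.Action
import Cfsg.Agent.Frobenius.FPFAut
import Cfsg.Agent.Frobenius.Sylow
import Mathlib.LinearAlgebra.Determinant
import Mathlib.GroupTheory.SpecificGroups.Quaternion
import Mathlib.FieldTheory.Finiteness
import Mathlib.Algebra.Field.ZMod
import Mathlib.Algebra.Module.ZMod

/-!
# Frobenius kernels under a quaternion complement have odd square order
-/

set_option autoImplicit false

namespace Cfsg.Agent.Frobenius.QuaternionSquare

open Subgroup

/-- A finite vector space over `ZMod q`, `q` odd, with two anticommuting linear automorphisms has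
square order. -/
theorem isSquare_card_module {q : ℕ} [hq : Fact q.Prime] (hq2 : q ≠ 2) {M : Type*} [AddCommGroup M]
    [Finite M] [Module (ZMod q) M] (f₀ g₀ : M ≃+ M)
    (h : ∀ x, f₀ (g₀ x) = -g₀ (f₀ x)) : IsSquare (Nat.card M) := by
  let f : M ≃ₗ[ZMod q] M := { f₀ with map_smul' := ZMod.map_smul f₀ }
  let g : M ≃ₗ[ZMod q] M := { g₀ with map_smul' := ZMod.map_smul g₀ }
  haveI : Module.Finite (ZMod q) M := Module.Finite.of_finite
  have hfg : f.toLinearMap ∘ₗ g.toLinearMap = (-1 : ZMod q) • (g.toLinearMap ∘ₗ f.toLinearMap) := by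
    refine LinearMap.ext fun x => ?_
    rw [LinearMap.smul_apply, neg_one_smul]
    exact h x
  have hdet := congrArg LinearMap.det hfg
  rw [LinearMap.det_smul, LinearMap.det_comp, LinearMap.det_comp,
    mul_comm (LinearMap.det g.toLinearMap)] at hdet
  have hne : LinearMap.det f.toLinearMap * LinearMap.det g.toLinearMap ≠ 0 :=
    mul_ne_zero (LinearEquiv.isUnit_det' f).ne_zero (LinearEquiv.isUnit_det' g).ne_zero
  have h1 : (-1 : ZMod q) ^ Module.finrank (ZMod q) M = 1 := (mul_eq_right₀ hne).1 hdet.symm
  have heven : Even (Module.finrank (ZMod q) M) := by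
    by_contra hodd
    rw [(Nat.not_even_iff_odd.1 hodd).neg_one_pow] at h1
    haveI : Fact (2 < q) := ⟨lt_of_le_of_ne hq.out.two_le hq2.symm⟩
    exact ZMod.neg_one_ne_one h1
  rw [Module.natCard_eq_pow_finrank (K := ZMod q), Nat.card_zmod]
  exact heven.isSquare_pow _

/-- An elementary abelian group of odd order with two anticommuting automorphisms has square
order. -/
theorem isSquare_card_of_exponent {A : Type*} [CommGroup A] [Finite A] {q : ℕ} [hq : Fact q.Prime]
    (hq2 : q ≠ 2) (hexp : ∀ a : A, a ^ q = 1) (i j : A ≃* A)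
    (h : ∀ x, i (j x) = (j (i x))⁻¹) : IsSquare (Nat.card A) := by
  rw [← Nat.card_congr (Additive.toMul (α := A))]
  exact @isSquare_card_module q hq hq2 (Additive A) _ _
    (AddCommGroup.zmodModule fun a => congrArg Additive.ofMul (hexp a.toMul))
    (MulEquiv.toAdditive i) (MulEquiv.toAdditive j) fun x => congrArg Additive.ofMul (h x.toMul)

universe u

/-- An abelian group of odd order with two anticommuting automorphisms has square order. -/
theorem isSquare_card (n : ℕ) : ∀ (A : Type u) [CommGroup A] [Finite A], Nat.card A = n → Odd n →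
    ∀ (i j : A ≃* A), (∀ x, i (j x) = (j (i x))⁻¹) → IsSquare n := by
  induction n using Nat.strong_induction_on with
  | _ n ih =>
    intro A _ _ hn hodd i j h
    by_cases h1 : n = 1
    · exact ⟨1, h1⟩
    have : Fact n.minFac.Prime := ⟨Nat.minFac_prime h1⟩
    set q := n.minFac with hq
    have hq2 : q ≠ 2 := fun e => by
      have := Nat.minFac_dvd n
      rw [← hq, e] at this
      exact (Nat.not_even_iff_odd.2 hodd) (even_iff_two_dvd.2 this)
    let B : Subgroup A := (powMonoidHom q).ker
    let C : Subgroup A := (powMonoidHom q : A →* A).range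
    have hB : ∀ φ : A ≃* A, B.map (φ : A →* A) = B := fun φ => by
      ext x
      rw [show (φ : A →* A) = φ.toMonoidHom from rfl, Subgroup.mem_map_equiv]
      simp only [B, MonoidHom.mem_ker, powMonoidHom_apply, ← map_pow, map_eq_one_iff _ φ.symm.injective]
    have hC : ∀ φ : A ≃* A, C.map (φ : A →* A) = C := fun φ => by
      ext x
      rw [show (φ : A →* A) = φ.toMonoidHom from rfl, Subgroup.mem_map_equiv]
      simp only [C, MonoidHom.mem_range, powMonoidHom_apply]
      exact ⟨fun ⟨y, hy⟩ => ⟨φ y, by rw [← map_pow, hy, MulEquiv.apply_symm_apply]⟩,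
        fun ⟨y, hy⟩ => ⟨φ.symm y, by rw [← map_pow, hy]⟩⟩
    have hmul : Nat.card B * Nat.card C = n := by
      rw [← hn, ← Subgroup.card_mul_index B, Subgroup.index_ker]
    have hBsq : IsSquare (Nat.card B) :=
      isSquare_card_of_exponent hq2 (fun b => Subtype.ext (MonoidHom.mem_ker.1 b.2))
        (restrictEquiv i B (hB i)) (restrictEquiv j B (hB j)) fun x => Subtype.ext (by
          simp only [coe_restrictEquiv, Subgroup.coe_inv, h])
    have hB1 : 1 < Nat.card B := by
      obtain ⟨a, ha⟩ := exists_prime_orderOf_dvd_card' (G := A) q (hn ▸ Nat.minFac_dvd n)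
      refine (Subgroup.one_lt_card_iff_ne_bot B).2 fun hbot => ?_
      have hmem : a ∈ B := by
        rw [MonoidHom.mem_ker, powMonoidHom_apply, ← ha, pow_orderOf_eq_one]
      rw [hbot, Subgroup.mem_bot] at hmem
      rw [hmem, orderOf_one] at ha
      exact (Fact.out : q.Prime).ne_one ha.symm
    have hCn : Nat.card C < n := by
      have hpos : 0 < Nat.card C := Nat.card_pos
      nlinarith
    have hCsq : IsSquare (Nat.card C) :=
      ih _ hCn C rfl (Nat.Odd.of_mul_right (m := Nat.card B) (hmul.symm ▸ hodd))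
        (restrictEquiv i C (hC i)) (restrictEquiv j C (hC j)) fun x => Subtype.ext (by
          simp only [coe_restrictEquiv, Subgroup.coe_inv, h])
    exact hmul ▸ hBsq.mul hCsq

variable {L : Type u} [Group L] [Finite L] {H : Subgroup L}

open scoped commutatorElement

/-- If two elements of the complement have an involution as commutator, the kernel has odd square
order. -/
theorem odd_isSquare_of_commutator (hF : IsFrobeniusComplement H) {a b : L} (ha : a ∈ H)
    (hb : b ∈ H) (h1 : ⁅a, b⁆ ≠ 1) (h2 : ⁅a, b⁆ * ⁅a, b⁆ = 1) :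
    Odd (Nat.card (Cfsg.frobeniusKernel H)) ∧ IsSquare (Nat.card (Cfsg.frobeniusKernel H)) := by
  set t := ⁅a, b⁆ with ht
  have htH : t ∈ H := by
    rw [ht, commutatorElement_def]
    exact H.mul_mem (H.mul_mem (H.mul_mem ha hb) (H.inv_mem ha)) (H.inv_mem hb)
  obtain ⟨-, hinv, hcomm⟩ := kernel_of_involution hF htH h1 h2
  have h2H : 2 ∣ Nat.card H := by
    have := Subgroup.orderOf_dvd_natCard H htH
    rwa [orderOf_eq_prime (by rw [sq, h2]) h1] at this
  have hodd : Odd H.index := by
    rw [← Nat.not_even_iff_odd, even_iff_two_dvd]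
    exact fun h => absurd (Nat.eq_one_of_dvd_coprimes (coprime_card_index hF) h2H h) (by norm_num)
  rw [card_kernel hF]
  refine ⟨hodd, ?_⟩
  haveI := kernel_normal hF
  letI : CommGroup (kernel hF) :=
    { (inferInstance : Group (kernel hF)) with
      mul_comm := fun x y => Subtype.ext
        (hcomm x ((mem_kernel hF).1 x.2) y ((mem_kernel hF).1 y.2)) }
  rw [← card_kernel_subgroup hF]
  refine isSquare_card _ (kernel hF) rfl (by rwa [card_kernel_subgroup hF])
    (MulAut.conjNormal a) (MulAut.conjNormal b) fun x => Subtype.ext ?_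
  have hy : b * (a * (x : L) * a⁻¹) * b⁻¹ ∈ kernel hF :=
    Subgroup.Normal.conj_mem inferInstance _ (Subgroup.Normal.conj_mem inferInstance _ x.2 a) b
  change a * (b * (x : L) * b⁻¹) * a⁻¹ = (b * (a * (x : L) * a⁻¹) * b⁻¹)⁻¹
  rw [← hinv _ ((mem_kernel hF).1 hy), ht, commutatorElement_def]
  group

/-- A non-cyclic Sylow subgroup of the complement forces odd square kernel order. -/
theorem odd_isSquare_of_sylow (hF : IsFrobeniusComplement H) {p : ℕ} [Fact p.Prime]
    (P : Sylow p H) (hP : ¬ IsCyclic P) :
    Odd (Nat.card (Cfsg.frobeniusKernel H)) ∧ IsSquare (Nat.card (Cfsg.frobeniusKernel H)) := by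
  rcases sylow_cyclic_or_quaternion hF p P with h | ⟨-, n, ⟨e⟩⟩
  · exact absurd h hP
  cases n with
  | zero =>
    exfalso
    refine hP (e.isCyclic.2 (isCyclic_of_orderOf_eq_card (QuaternionGroup.xa 0) ?_))
    rw [QuaternionGroup.orderOf_xa, Nat.card_eq_fintype_card, QuaternionGroup.card]
    norm_num
  | succ m =>
    let f : QuaternionGroup (2 ^ (m + 1)) →* L :=
      H.subtype.comp ((P : Subgroup H).subtype.comp e.symm.toMonoidHom)
    have hf : Function.Injective f :=
      H.subtype_injective.comp ((Subgroup.subtype_injective _).comp e.symm.injective)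
    let a : QuaternionGroup (2 ^ (m + 1)) := QuaternionGroup.a ((2 ^ m : ℕ) : ZMod _)
    let b : QuaternionGroup (2 ^ (m + 1)) := QuaternionGroup.xa 0
    have hc : ⁅a, b⁆ = QuaternionGroup.a ((2 ^ (m + 1) : ℕ) : ZMod _) := by
      rw [commutatorElement_def, mul_inv_eq_iff_eq_mul, mul_inv_eq_iff_eq_mul]
      simp only [a, b, QuaternionGroup.a_mul_xa, QuaternionGroup.xa_mul_a]
      congr 1
      push_cast
      ring
    refine odd_isSquare_of_commutator hF (a := f a) (b := f b) ((e.symm a : H).2)
      ((e.symm b : H).2) ?_ ?_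
    · rw [← map_commutatorElement, ← map_one f, Ne, hf.eq_iff, hc, ← QuaternionGroup.a_zero,
        QuaternionGroup.a.injEq, ZMod.natCast_eq_zero_iff]
      exact Nat.not_dvd_of_pos_of_lt (by positivity) (by linarith [Nat.two_pow_pos (m + 1)])
    · rw [← map_commutatorElement, ← map_mul, ← map_one f, hc, QuaternionGroup.a_mul_a,
        ← QuaternionGroup.a_zero, ← Nat.cast_add, ← two_mul, ZMod.natCast_self]

end Cfsg.Agent.Frobenius.QuaternionSquare
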