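import Cfsg.Agent.Frobenius.Construct
import Cfsg.Agent.Frobenius.QuaternionSquare
import Cfsg.Agent.H25.SL23
import Mathlib.RingTheory.Int.Basic
import Mathlib.FieldTheory.Finite.Basic

/-!
# Frobenius groups with quaternion complement and any odd square kernel order
-/

set_option autoImplicit false

namespace Cfsg.Agent.Frobenius.QuaternionKernel

/-- An abelian group with a pair of anticommuting square roots of inversion. -/
def Good (k : ℕ) : Prop :=
  ∃ (N : Type) (_ : CommGroup N) (_ : Finite N) (i j : N ≃* N), Nat.card N = k * k ∧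
    (∀ x, i (i x) = x⁻¹) ∧ (∀ x, j (j x) = x⁻¹) ∧ ∀ x, i (j x) = (j (i x))⁻¹

theorem good_one : Good 1 := by
  refine ⟨PUnit, inferInstance, inferInstance, MulEquiv.refl _, MulEquiv.refl _, by simp, ?_, ?_, ?_⟩ <;>
    intro x <;> rfl

theorem good_mul {a b : ℕ} (ha : Good a) (hb : Good b) : Good (a * b) := by
  obtain ⟨N, _, _, i, j, hN, hi, hj, hij⟩ := ha
  obtain ⟨M, _, _, i', j', hM, hi', hj', hij'⟩ := hb
  refine ⟨N × M, inferInstance, inferInstance, i.prodCongr i', j.prodCongr j', ?_, ?_, ?_, ?_⟩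
  · rw [Nat.card_prod, hN, hM, mul_mul_mul_comm]
  · exact fun x => Prod.ext (hi x.1) (hi' x.2)
  · exact fun x => Prod.ext (hj x.1) (hj' x.2)
  · exact fun x => Prod.ext (hij x.1) (hij' x.2)

theorem good_prime {p : ℕ} (hp : p.Prime) : Good p := by
  haveI := Fact.mk hp
  obtain ⟨a, b, hab⟩ := ZMod.sq_add_sq p (-1)
  let i : ZMod p × ZMod p →+ ZMod p × ZMod p :=
    AddMonoidHom.mk' (fun v => (-v.2, v.1)) (fun u v => by ext <;> simp <;> ring)
  let j : ZMod p × ZMod p →+ ZMod p × ZMod p :=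
    AddMonoidHom.mk' (fun v => (a * v.1 + b * v.2, b * v.1 - a * v.2))
      (fun u v => by ext <;> simp <;> ring)
  have hi : ∀ v, i (i v) = -v := fun v => by ext <;> simp [i]
  have hj : ∀ v, j (j v) = -v := fun v => by
    ext
    · simp only [j, AddMonoidHom.mk'_apply, Prod.fst_neg]; linear_combination v.1 * hab
    · simp only [j, AddMonoidHom.mk'_apply, Prod.snd_neg]; linear_combination v.2 * hab
  let mk : ∀ f : ZMod p × ZMod p →+ ZMod p × ZMod p, (∀ v, f (f v) = -v) →
      (ZMod p × ZMod p ≃+ ZMod p × ZMod p) := fun f hf =>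
    AddEquiv.ofBijective f
      ⟨fun u v h => neg_inj.1 (by rw [← hf u, h, hf]), fun v => ⟨f (-v), by rw [hf, neg_neg]⟩⟩
  refine ⟨Multiplicative (ZMod p × ZMod p), inferInstance, inferInstance,
    AddEquiv.toMultiplicative (mk i hi), AddEquiv.toMultiplicative (mk j hj), ?_, ?_, ?_, ?_⟩
  · rw [Nat.card_congr Multiplicative.toAdd, Nat.card_prod, Nat.card_zmod]
  · exact fun x => congrArg Multiplicative.ofAdd (hi x.toAdd)
  · exact fun x => congrArg Multiplicative.ofAdd (hj x.toAdd)
  · intro x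
    refine congrArg Multiplicative.ofAdd (show i (j x.toAdd) = -j (i x.toAdd) from ?_)
    ext <;> simp [i, j] <;> ring

theorem good_all (k : ℕ) : 0 < k → Good k := by
  induction k using Nat.recOnMul with
  | zero => exact fun h => absurd h (lt_irrefl _)
  | one => exact fun _ => good_one
  | prime p hp => exact fun _ => good_prime hp
  | mul a b ha hb =>
    intro h
    exact good_mul (ha (Nat.pos_of_mul_pos_right h)) (hb (Nat.pos_of_mul_pos_left h))

/-- Any odd square larger than one is the kernel order of a Frobenius group with complement `Q₈`. -/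
theorem exists_complement {k : ℕ} (hodd : Odd k) (hk : 1 < k) :
    ∃ (L : Type) (_ : Group L) (_ : Finite L) (H : Subgroup L), Cfsg.IsFrobeniusComplement H ∧
      Nonempty (H ≃* QuaternionGroup 2) ∧ Nat.card (Cfsg.frobeniusKernel H) = k * k := by
  obtain ⟨N, _, _, i, j, hN, hi, hj, hij⟩ := good_all k (by omega)
  have : Nontrivial N := Finite.one_lt_card_iff_nontrivial.1 (by rw [hN]; nlinarith)
  have h4 : (i : MulAut N) ^ 4 = 1 := by
    ext x
    change i (i (i (i x))) = x
    rw [hi, hi, inv_inv]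
  have h2 : (j : MulAut N) ^ 2 = i ^ 2 := by
    ext x
    change j (j x) = i (i x)
    rw [hi, hj]
  have hc : (j : MulAut N) * i * (j : MulAut N)⁻¹ = (i : MulAut N)⁻¹ := by
    rw [mul_inv_eq_iff_eq_mul, eq_inv_mul_iff_mul_eq]
    ext x
    change i (j (i x)) = j x
    rw [hij, hi, map_inv, inv_inv]
  let q : QuaternionGroup 2 →* MulAut N := H25.quaternionHom (i : MulAut N) j h4 h2 hc
  have hfix : ∀ x : N, x⁻¹ = x → x = 1 := fun x hx => by
    have h1 : x ^ 2 = 1 := by rw [sq]; exact inv_eq_iff_mul_eq_one.1 hx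
    have hcop : Nat.Coprime 2 (Nat.card N) := by
      rw [hN]; exact (Nat.coprime_two_left).2 (hodd.mul hodd)
    exact orderOf_eq_one_iff.1 (Nat.eq_one_of_dvd_coprimes hcop (orderOf_dvd_of_pow_eq_one h1)
      (orderOf_dvd_natCard x))
  have hz : ∀ x : QuaternionGroup 2, x ≠ 1 →
      x = QuaternionGroup.a 2 ∨ x * x = QuaternionGroup.a 2 := by decide
  have hneg : ∀ n : N, q (QuaternionGroup.a 2) n = n⁻¹ := fun n => hi n
  obtain ⟨L, i1, i2, H, hH, hidx, ⟨e⟩⟩ := exists_of_action' q fun c hc1 n hn => hfix n (by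
    rcases hz c hc1 with h | h
    · rw [← hneg, ← h, hn]
    · rw [← hneg, ← h, map_mul, MulAut.mul_apply, hn, hn])
  exact ⟨L, i1, i2, H, hH, ⟨e.symm⟩, by rw [card_kernel hH, hidx, hN]⟩

end Cfsg.Agent.Frobenius.QuaternionKernel
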