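import Cfsg.Agent.Frobenius.Action
import Cfsg.Agent.Frobenius.NoFrobenius
import Mathlib.GroupTheory.SchurZassenhaus
import Mathlib.Algebra.Group.Subgroup.Map

/-!
# Structure of finite Frobenius groups

Complement-invariant Sylow subgroups of the kernel, complements are conjugate, normal subgroups
are comparable with the kernel, quotients, complements are not Frobenius groups and have all
subgroups of order `p ^ 2` cyclic.
-/

set_option autoImplicit false

namespace Cfsg.Agent.Frobenius

open Subgroup Pointwise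

variable {G : Type*} [Group G] [Finite G] {H : Subgroup G}

theorem mem_kernel (hH : IsFrobeniusComplement H) {x : G} :
    x ∈ kernel hH ↔ x ∈ frobeniusKernel H := by
  rw [← SetLike.mem_coe, coe_kernel]

theorem kernel_eq (hH : IsFrobeniusComplement H) {K : Subgroup G}
    (hK : (K : Set G) = frobeniusKernel H) : K = kernel hH :=
  SetLike.coe_injective (hK.trans (coe_kernel hH).symm)

theorem card_kernel_subgroup (hH : IsFrobeniusComplement H) : Nat.card (kernel hH) = H.index :=
  (of_coe_eq_kernel hH (coe_kernel hH)).2.2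

theorem kernel_ne_bot (hH : IsFrobeniusComplement H) : kernel hH ≠ ⊥ := by
  intro h
  have := card_kernel_subgroup hH
  rw [h, Subgroup.card_bot] at this
  exact (one_lt_index hH).ne this

theorem index_kernel (hH : IsFrobeniusComplement H) : (kernel hH).index = Nat.card H :=
  (kernel_isComplement hH).symm.index_eq_card

/-- The complement normalises a Sylow subgroup of the kernel, for each prime. -/
theorem exists_invariant_sylow (hH : IsFrobeniusComplement H) (q : ℕ) [Fact q.Prime] :
    ∃ Q : Sylow q (kernel hH),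
      H ≤ normalizer (((Q : Subgroup (kernel hH)).map (kernel hH).subtype : Subgroup G) : Set G) := by
  have := kernel_normal hH
  obtain ⟨P⟩ : Nonempty (Sylow q (kernel hH)) := inferInstance
  set P' := (P : Subgroup (kernel hH)).map (kernel hH).subtype with hP'
  set N := normalizer (P' : Set G) with hN
  have hfr : N ⊔ kernel hH = ⊤ := Sylow.normalizer_sup_eq_top P
  have hidx : ((kernel hH).subgroupOf N).index = Nat.card H := by
    have h1 := Subgroup.relIndex_sup_right (H := N) (K := kernel hH)
    rw [hfr, Subgroup.relIndex_top_right, index_kernel hH] at h1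
    exact h1.symm
  have hcop : (Nat.card ((kernel hH).subgroupOf N)).Coprime ((kernel hH).subgroupOf N).index := by
    rw [hidx]
    refine ((coprime_card_index hH).symm).coprime_dvd_left ?_
    rw [← card_kernel_subgroup hH]
    have h2 : ((kernel hH).subgroupOf N).map N.subtype ≤ kernel hH := by
      intro x hx
      obtain ⟨y, hy, rfl⟩ := Subgroup.mem_map.1 hx
      exact hy
    exact (Subgroup.card_map_of_injective N.subtype_injective) ▸ Subgroup.card_dvd_of_le h2
  obtain ⟨L, hL⟩ := Subgroup.exists_right_complement'_of_coprime hcop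
  have hLcard : Nat.card (L.map N.subtype) = Nat.card H := by
    rw [Subgroup.card_map_of_injective N.subtype_injective, ← hidx, hL.symm.index_eq_card]
  obtain ⟨x, hx⟩ := exists_conj_ge_of_card_dvd hH (L.map N.subtype) (dvd_of_eq hLcard)
  have heq : L.map N.subtype = MulAut.conj x • H :=
    Subgroup.eq_of_le_of_card_ge hx (by
      rw [hLcard, ← Nat.card_congr (Subgroup.equivSMul (MulAut.conj x) H).toEquiv])
  have hxN : MulAut.conj x • H ≤ N := heq ▸ Subgroup.map_subtype_le L
  refine ⟨(MulAut.conjNormal (H := kernel hH) x⁻¹ : MulAut (kernel hH)) • P, fun h hh => ?_⟩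
  have hh' : x * h * x⁻¹ ∈ N := hxN ((mem_conj_iff H x _).2 (by simpa [mul_assoc] using hh))
  rw [hN, Subgroup.mem_normalizer_iff] at hh'
  have hmem : ∀ y : G, y ∈ (((MulAut.conjNormal (H := kernel hH) x⁻¹ : MulAut (kernel hH)) • P :
      Sylow q (kernel hH)) : Subgroup (kernel hH)).map (kernel hH).subtype ↔ x * y * x⁻¹ ∈ P' := by
    intro y
    simp only [hP', Subgroup.mem_map, Sylow.coe_subgroup_smul]
    constructor
    · rintro ⟨z, hz, rfl⟩
      refine ⟨_, (Subgroup.mem_pointwise_smul_iff_inv_smul_mem).1 hz, ?_⟩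
      simp [MulAut.smul_def]
    · rintro ⟨z, hz, hzy⟩
      refine ⟨_, Subgroup.smul_mem_pointwise_smul _ _ _ hz, ?_⟩
      have : (kernel hH).subtype z = x * y * x⁻¹ := hzy
      simp only [MulAut.smul_def, Subgroup.subtype_apply, MulAut.conjNormal_apply] at this ⊢
      rw [this]; group
  rw [Subgroup.mem_normalizer_iff]
  intro y
  rw [hmem, hmem]
  have := hh' (x * y * x⁻¹)
  rw [this]
  simp [mul_assoc]

/-- The complement normalises a non-trivial abelian subgroup of the kernel. -/
theorem exists_abelian_invariant (hH : IsFrobeniusComplement H) :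
    ∃ A : Subgroup G, A ≤ kernel hH ∧ A ≠ ⊥ ∧ (∀ a ∈ A, ∀ b ∈ A, a * b = b * a) ∧
      H ≤ normalizer (A : Set G) := by
  have hne : Nat.card (kernel hH) ≠ 1 := by
    rw [card_kernel_subgroup hH]; exact (one_lt_index hH).ne'
  have := Fact.mk (Nat.minFac_prime hne)
  obtain ⟨Q, hQ⟩ := exists_invariant_sylow hH (Nat.card (kernel hH)).minFac
  set Q' := (Q : Subgroup (kernel hH)).map (kernel hH).subtype with hQ'
  have hQK : Q' ≤ kernel hH := Subgroup.map_subtype_le _
  refine ⟨Q' ⊓ centralizer (Q' : Set G), inf_le_left.trans hQK, ?_, ?_, ?_⟩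
  · have hp : IsPGroup (Nat.card (kernel hH)).minFac Q' := Q.2.map _
    have : Nontrivial Q' := by
      rw [Subgroup.nontrivial_iff_ne_bot, hQ', Ne,
        Subgroup.map_eq_bot_iff_of_injective _ (kernel hH).subtype_injective]
      exact Q.ne_bot_of_dvd_card (Nat.minFac_dvd _)
    have := hp.center_nontrivial
    obtain ⟨⟨z, hz⟩, hz1⟩ := exists_ne (1 : Subgroup.center Q')
    intro h
    refine hz1 (Subtype.ext (Subtype.ext ?_))
    have : (z : G) ∈ Q' ⊓ centralizer (Q' : Set G) :=
      ⟨z.2, fun y hy => congrArg Subtype.val ((Subgroup.mem_center_iff.1 hz) ⟨y, hy⟩)⟩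
    rw [h, Subgroup.mem_bot] at this
    simpa using this
  · exact fun a ha b hb => (ha.2 b hb.1).symm
  · intro h hh
    have h1 := hQ hh
    rw [Subgroup.mem_normalizer_iff] at h1 ⊢
    intro y
    simp only [SetLike.mem_coe, Subgroup.mem_inf, Subgroup.mem_centralizer_iff] at h1 ⊢
    constructor
    · rintro ⟨hy, hyc⟩
      refine ⟨(h1 y).1 hy, fun z hz => ?_⟩
      have hz' := (h1 (h⁻¹ * z * h)).2 (by simpa [mul_assoc] using hz)
      have := hyc _ hz'
      calc z * (h * y * h⁻¹) = h * (h⁻¹ * z * h * y) * h⁻¹ := by group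
        _ = h * (y * (h⁻¹ * z * h)) * h⁻¹ := by rw [this]
        _ = h * y * h⁻¹ * z := by group
    · rintro ⟨hy, hyc⟩
      refine ⟨(h1 y).2 hy, fun z hz => ?_⟩
      have := hyc _ ((h1 z).1 hz)
      calc z * y = h⁻¹ * (h * z * h⁻¹ * (h * y * h⁻¹)) * h := by group
        _ = h⁻¹ * (h * y * h⁻¹ * (h * z * h⁻¹)) * h := by rw [this]
        _ = y * z := by group

open scoped IsMulCommutative in
/-- A Frobenius complement acts without fixed points on some finite abelian group, stated as an
eliminator to avoid universe bookkeeping. -/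
theorem fpf_elim (hH : IsFrobeniusComplement H) {P : Prop}
    (h : ∀ (A : Subgroup G) [IsMulCommutative A] (φ : H →* MulAut A), Nontrivial A → IsFPF φ → P) :
    P := by
  obtain ⟨A, hAK, hA1, hAc, hAN⟩ := exists_abelian_invariant hH
  have : IsMulCommutative A :=
    ⟨⟨fun a b => Subtype.ext (hAc a a.2 b b.2)⟩⟩
  refine h A (A.normalizerMonoidHom.comp (Subgroup.inclusion hAN))
    ((Subgroup.nontrivial_iff_ne_bot A).2 hA1) fun c hc a ha => ?_
  have := congrArg Subtype.val ha
  change (c : G) * a * (c : G)⁻¹ = a at this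
  refine Subtype.ext (fixedPointFree hH (kernel_isComplement hH) c.2 (fun e => hc (Subtype.ext e))
    (hAK a.2) ?_)
  conv_rhs => rw [← this]
  group

open scoped IsMulCommutative in
/-- A Frobenius complement is not a Frobenius group. -/
theorem not_isFrobeniusComplement_complement (hH : IsFrobeniusComplement H) (D : Subgroup H) :
    ¬ IsFrobeniusComplement D :=
  fpf_elim hH fun _ _ _ _ hφ => not_isFrobeniusComplement hφ D

open scoped IsMulCommutative in
/-- Subgroups of order `p ^ 2` of a Frobenius complement are cyclic. -/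
theorem isCyclic_of_card_sq_le (hH : IsFrobeniusComplement H) {P : Subgroup G} (hP : P ≤ H)
    (p : ℕ) [Fact p.Prime] (hcard : Nat.card P = p ^ 2) : IsCyclic P :=
  fpf_elim hH fun _ _ _ _ hφ =>
    isCyclic_of_card_sq (hφ.comp (Subgroup.inclusion_injective hP)) p hcard

/-- Two Frobenius complements with a common non-identity element are equal. -/
theorem eq_of_inf_ne_bot {H₀ : Subgroup G} (hH : IsFrobeniusComplement H)
    (hH₀ : IsFrobeniusComplement H₀) (h : H₀ ⊓ H ≠ ⊥) : H₀ = H := by
  suffices key : ∀ {A B : Subgroup G}, IsFrobeniusComplement A → IsFrobeniusComplement B →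
      B ⊓ A ≠ ⊥ → B ≤ A from
    le_antisymm (key hH hH₀ h) (key hH₀ hH (by rwa [inf_comm]))
  intro A B hA hB hne
  by_contra hle
  refine not_isFrobeniusComplement_complement hB ((B ⊓ A).subgroupOf B)
    (isFrobeniusComplement_of ?_ ?_ ?_)
  · rw [Ne, Subgroup.subgroupOf_eq_bot, disjoint_iff, inf_right_comm, inf_idem]
    exact hne
  · rw [Ne, Subgroup.subgroupOf_eq_top]
    exact fun h' => hle (h'.trans inf_le_right)
  · intro g x hx hx1 hgx
    refine Subgroup.mem_subgroupOf.2 ⟨g.2, mem_of_conj_mem hA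
      (Subgroup.mem_subgroupOf.1 hx).2 (fun e => hx1 (Subtype.ext e)) ?_⟩
    simpa using (Subgroup.mem_subgroupOf.1 hgx).2

/-- All Frobenius complements of a finite group are conjugate. -/
theorem complements_conj {H₀ : Subgroup G} (hH : IsFrobeniusComplement H)
    (hH₀ : IsFrobeniusComplement H₀) : ∃ g : G, MulAut.conj g • H₀ = H := by
  have hlt : (frobeniusKernel H).ncard + (frobeniusKernel H₀).ncard ≤ Nat.card G := by
    rw [← Nat.card_coe_set_eq, ← Nat.card_coe_set_eq, card_kernel hH, card_kernel hH₀]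
    have h1 : 2 * H.index ≤ Nat.card G := by
      rw [← H.index_mul_card, mul_comm 2]; exact Nat.mul_le_mul_left _ (one_lt_card hH)
    have h2 : 2 * H₀.index ≤ Nat.card G := by
      rw [← H₀.index_mul_card, mul_comm 2]; exact Nat.mul_le_mul_left _ (one_lt_card hH₀)
    omega
  obtain ⟨z, hz, hz₀⟩ : ∃ z, z ∉ frobeniusKernel H ∧ z ∉ frobeniusKernel H₀ := by
    by_contra hcon
    push Not at hcon
    have hu : frobeniusKernel H ∪ frobeniusKernel H₀ = Set.univ :=
      Set.eq_univ_of_forall fun z => or_iff_not_imp_left.2 (hcon z)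
    have h2 := Set.ncard_union_add_ncard_inter (frobeniusKernel H) (frobeniusKernel H₀)
    rw [hu, Set.ncard_univ] at h2
    have : 0 < (frobeniusKernel H ∩ frobeniusKernel H₀).ncard :=
      (Set.ncard_pos (Set.toFinite _)).2 ⟨1, one_mem_kernel H, one_mem_kernel H₀⟩
    omega
  obtain ⟨hz1, a, ha⟩ := (notMem_kernel_iff H z).1 hz
  obtain ⟨-, b, hb⟩ := (notMem_kernel_iff H₀ z).1 hz₀
  induction a using QuotientGroup.induction_on with
  | H a =>
  induction b using QuotientGroup.induction_on with
  | H b =>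
  rw [smul_coset_eq_iff] at ha hb
  refine ⟨a⁻¹ * b, ?_⟩
  have hH' : IsFrobeniusComplement (MulAut.conj (a⁻¹ * b) • H₀) :=
    map_equiv (MulAut.conj (a⁻¹ * b)) hH₀
  refine eq_of_inf_ne_bot hH hH' fun hbot => hz1 ?_
  have : a⁻¹ * z * a ∈ MulAut.conj (a⁻¹ * b) • H₀ ⊓ H :=
    ⟨(mem_conj_iff _ _ _).2 (by simpa [mul_assoc] using hb), ha⟩
  rw [hbot, Subgroup.mem_bot] at this
  simpa [mul_assoc, inv_mul_eq_one] using this

/-- Every automorphism fixes the kernel. -/
theorem kernel_characteristic (hH : IsFrobeniusComplement H) : (kernel hH).Characteristic := by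
  rw [Subgroup.characteristic_iff_map_eq]
  intro φ
  refine le_antisymm ?_ ?_ <;>
  · intro x hx
    rw [Subgroup.mem_map_equiv] at *
    rw [mem_kernel] at *
    obtain ⟨g, hg⟩ := complements_conj hH (map_equiv φ hH)
    by_contra hk
    obtain ⟨hx1, a, ha⟩ := (notMem_kernel_iff H _).1 hk
    induction a using QuotientGroup.induction_on with
    | H a =>
    rw [smul_coset_eq_iff] at ha
    rcases hx with hx | hx
    · exact hx1 (by simpa using hx)
    · first
        | (refine hx (φ a * g⁻¹) ?_
           rw [mem_conj_iff, ← hg, mem_conj_iff, Subgroup.mem_map_equiv]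
           simpa [mul_assoc] using ha)
        | (refine hx (φ.symm (a * g)) ?_
           rw [mem_conj_iff]
           rw [← hg, mem_conj_iff, Subgroup.mem_map_equiv] at ha
           simpa [mul_assoc] using ha)

/-- Commutation with a complement element is injective on the kernel, so surjective. -/
theorem exists_commutator_eq (hH : IsFrobeniusComplement H) {h : G} (hh : h ∈ H) (h1 : h ≠ 1)
    {N : Subgroup G} (hN : N ≤ kernel hH) (hNh : ∀ n ∈ N, h * n * h⁻¹ ∈ N) {m : G} (hm : m ∈ N) :
    ∃ n ∈ N, n⁻¹ * (h * n * h⁻¹) = m := by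
  let f : N → N := fun n => ⟨(n : G)⁻¹ * (h * n * h⁻¹), N.mul_mem (N.inv_mem n.2) (hNh _ n.2)⟩
  have hinj : Function.Injective f := by
    intro a b hab
    have e : (a : G)⁻¹ * (h * a * h⁻¹) = (b : G)⁻¹ * (h * b * h⁻¹) := congrArg Subtype.val hab
    have := fixedPointFree hH (kernel_isComplement hH) hh h1
      (k := (b : G) * (a : G)⁻¹) (hN (N.mul_mem b.2 (N.inv_mem a.2))) (by
        have e' : (b : G) * (a : G)⁻¹ = h * b * (h * a)⁻¹ := by
          calc (b : G) * (a : G)⁻¹
              = b * ((a : G)⁻¹ * (h * a * h⁻¹)) * (h * a * h⁻¹)⁻¹ := by group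
            _ = b * ((b : G)⁻¹ * (h * b * h⁻¹)) * (h * a * h⁻¹)⁻¹ := by rw [e]
            _ = h * b * (h * a)⁻¹ := by group
        conv_rhs => rw [e']
        group)
    exact Subtype.ext (mul_inv_eq_one.1 this).symm
  obtain ⟨n, hn⟩ := (Finite.injective_iff_surjective.1 hinj) ⟨m, hm⟩
  exact ⟨n, n.2, congrArg Subtype.val hn⟩

/-- Normal subgroups are comparable with the kernel. -/
theorem normal_le_or_ge (hH : IsFrobeniusComplement H) (N : Subgroup G) [hNn : N.Normal] :
    kernel hH ≤ N ∨ N ≤ kernel hH := by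
  by_cases hle : N ≤ kernel hH
  · exact Or.inr hle
  refine Or.inl fun m hm => ?_
  obtain ⟨z, hzN, hzK⟩ := SetLike.not_le_iff_exists.1 hle
  rw [mem_kernel] at hzK
  obtain ⟨hz1, a, ha⟩ := (notMem_kernel_iff H z).1 hzK
  induction a using QuotientGroup.induction_on with
  | H a =>
  rw [smul_coset_eq_iff] at ha
  have hN : a⁻¹ * z * a ∈ N := by simpa using hNn.conj_mem z hzN a⁻¹
  obtain ⟨n, -, rfl⟩ := exists_commutator_eq hH ha
    (fun e => hz1 (by simpa [mul_assoc, inv_mul_eq_one] using e)) le_rfl
    (fun n hn => (kernel_normal hH).conj_mem n hn _) hm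
  rw [← mul_assoc, ← mul_assoc]
  refine N.mul_mem ?_ (N.inv_mem hN)
  simpa using hNn.conj_mem _ hN n⁻¹

/-- Quotient by a normal subgroup not containing the kernel. -/
theorem quotient_isFrobeniusComplement (hH : IsFrobeniusComplement H) (N : Subgroup G)
    [N.Normal] (hKN : ¬ kernel hH ≤ N) :
    IsFrobeniusComplement (H.map (QuotientGroup.mk' N)) ∧
      frobeniusKernel (H.map (QuotientGroup.mk' N)) =
        ((kernel hH).map (QuotientGroup.mk' N) : Set (G ⧸ N)) := by
  have hNK : N ≤ kernel hH := (normal_le_or_ge hH N).resolve_left hKN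
  have := kernel_normal hH
  have hn : ((kernel hH).map (QuotientGroup.mk' N)).Normal :=
    Subgroup.Normal.map inferInstance _ (QuotientGroup.mk'_surjective N)
  have hc : IsComplement' ((kernel hH).map (QuotientGroup.mk' N)) (H.map (QuotientGroup.mk' N)) := by
    refine Subgroup.isComplement'_of_disjoint_and_mul_eq_univ ?_ ?_
    · rw [disjoint_iff, Subgroup.eq_bot_iff_forall]
      rintro y ⟨⟨k, hk, rfl⟩, h, hh, e⟩
      have hkh : h⁻¹ * k ∈ N := (QuotientGroup.eq).1 e
      have : h ∈ kernel hH := by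
        have := (kernel hH).mul_mem hk ((kernel hH).inv_mem (hNK hkh))
        simpa [mul_assoc] using this
      rw [← e, show h = 1 from kernel_inter ((mem_kernel hH).1 this) hh, map_one]
    · refine Set.eq_univ_of_forall fun y => ?_
      obtain ⟨g, rfl⟩ := QuotientGroup.mk'_surjective N y
      obtain ⟨⟨k, h⟩, rfl⟩ := (kernel_isComplement hH).2 g
      exact Set.mem_mul.2 ⟨_, ⟨k, k.2, rfl⟩, _, ⟨h, h.2, rfl⟩, (map_mul _ _ _).symm⟩
  have hF : IsFrobeniusComplement (H.map (QuotientGroup.mk' N)) := by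
    refine of_fixedPointFree hc ?_ ?_ ?_
    · rw [Ne, Subgroup.map_eq_bot_iff, QuotientGroup.ker_mk']
      exact hKN
    · rw [Ne, Subgroup.map_eq_bot_iff, QuotientGroup.ker_mk']
      intro hle
      obtain ⟨h, hh, h1⟩ := exists_ne_one hH
      exact h1 (kernel_inter ((mem_kernel hH).1 (hNK (hle hh))) hh)
    · rintro _ ⟨h, hh, rfl⟩ hh1 _ ⟨k, hk, rfl⟩ hcom
      rw [← map_mul, ← map_mul] at hcom
      have hkn : k⁻¹ * (h * k * h⁻¹) ∈ N := by
        rw [← QuotientGroup.eq_one_iff]
        change (QuotientGroup.mk' N) _ = 1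
        rw [map_mul, map_mul _ (h * k), hcom, map_mul, map_inv, map_inv]
        group
      have h1 : h ≠ 1 := fun e => hh1 (by rw [e, map_one])
      have hNh : ∀ n ∈ N, h * n * h⁻¹ ∈ N := fun n hn => ‹N.Normal›.conj_mem n hn h
      obtain ⟨n, hn, hn'⟩ := exists_commutator_eq hH hh h1 hNK hNh hkn
      have := fixedPointFree hH (kernel_isComplement hH) hh h1 (k := k * n⁻¹)
        ((kernel hH).mul_mem hk ((kernel hH).inv_mem (hNK hn))) (by
          have e' : k * n⁻¹ = h * k * (h * n)⁻¹ := by
            calc k * n⁻¹ = k * (n⁻¹ * (h * n * h⁻¹)) * (h * n * h⁻¹)⁻¹ := by group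
              _ = k * (k⁻¹ * (h * k * h⁻¹)) * (h * n * h⁻¹)⁻¹ := by rw [hn']
              _ = h * k * (h * n)⁻¹ := by group
          conv_rhs => rw [e']
          group)
      rw [mul_inv_eq_one.1 this]
      exact (QuotientGroup.eq_one_iff n).2 hn
  exact ⟨hF, (coe_eq_kernel hF hc).symm⟩

end Cfsg.Agent.Frobenius
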