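import Cfsg.Agent.Frobenius.TwoFrobenius
import Cfsg.Agent.H24.Nilp

/-!
# 2-Frobenius groups: solvability and prime graph
-/

set_option autoImplicit false

namespace Cfsg.Agent.Frobenius

open Subgroup

universe u

variable {G : Type u} [Group G] [Finite G] {H K : Subgroup G} [H.Normal] [K.Normal]
  {C : Subgroup K} {D : Subgroup (G ⧸ H)}

/-- Elements of distinct prime orders in a nilpotent group. -/
theorem exists_orderOf_mul_of_nilpotent {N : Type*} [Group N] [Finite N] [Group.IsNilpotent N]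
    {p q : ℕ} (hp : p.Prime) (hq : q.Prime) (hpq : p ≠ q) (hpd : p ∣ Nat.card N)
    (hqd : q ∣ Nat.card N) : ∃ g : N, orderOf g = p * q := by
  haveI := Fact.mk hp
  haveI := Fact.mk hq
  obtain ⟨P⟩ := (inferInstance : Nonempty (Sylow p N))
  obtain ⟨Q⟩ := (inferInstance : Nonempty (Sylow q N))
  obtain ⟨x, hx⟩ := exists_prime_orderOf_dvd_card' (G := (P : Subgroup N)) p (P.dvd_card_of_dvd_card hpd)
  obtain ⟨y, hy⟩ := exists_prime_orderOf_dvd_card' (G := (Q : Subgroup N)) q (Q.dvd_card_of_dvd_card hqd)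
  have hc : Commute (x : N) (y : N) :=
    Subgroup.commute_of_normal_of_disjoint _ _ (sylow_normal_of_isNilpotent p P)
      (sylow_normal_of_isNilpotent q Q) (IsPGroup.disjoint_of_ne p q hpq _ _ P.2 Q.2) _ _ x.2 y.2
  refine ⟨(x : N) * y, ?_⟩
  rw [hc.orderOf_mul_eq_mul_orderOf_of_coprime]
  · rw [Subgroup.orderOf_coe, Subgroup.orderOf_coe, hx, hy]
  · rw [Subgroup.orderOf_coe, Subgroup.orderOf_coe, hx, hy]
    exact (Nat.coprime_primes hp hq).2 hpq

/-- An element of order divisible by `d` has a power of order `d`. -/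
theorem exists_orderOf_eq_of_dvd {N : Type*} [Group N] [Finite N] {a : N} {d : ℕ}
    (h : d ∣ orderOf a) : ∃ g : N, orderOf g = d :=
  ⟨a ^ (orderOf a / d), orderOf_pow_orderOf_div (orderOf_pos a).ne' h⟩

theorem map_eq_kernel (hD : IsFrobeniusComplement D)
    (hDk : frobeniusKernel D = (K.map (QuotientGroup.mk' H) : Set (G ⧸ H))) :
    K.map (QuotientGroup.mk' H) = kernel hD := kernel_eq hD hDk.symm

theorem subgroupOf_eq_kernel (hC : IsFrobeniusComplement C)
    (hCk : frobeniusKernel C = (H.subgroupOf K : Set ↥K)) :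
    H.subgroupOf K = kernel hC := kernel_eq hC hCk.symm

theorem exists_equiv_kernel (hHK : H ≤ K) (hC : IsFrobeniusComplement C)
    (hCk : frobeniusKernel C = (H.subgroupOf K : Set ↥K)) :
    Nonempty (C ≃* K.map (QuotientGroup.mk' H)) := by
  let f : C →* G ⧸ H := (QuotientGroup.mk' H).comp (K.subtype.comp C.subtype)
  have hf : Function.Injective f := by
    refine (injective_iff_map_eq_one f).2 fun c hc => ?_
    have h1 : ((c : K) : G) ∈ H := (QuotientGroup.eq_one_iff _).1 hc
    exact Subtype.ext (kernel_inter (show (c : K) ∈ frobeniusKernel C by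
      rw [hCk]; exact Subgroup.mem_subgroupOf.2 h1) c.2)
  have hr : f.range = K.map (QuotientGroup.mk' H) := by
    refine le_antisymm ?_ ?_
    · rintro _ ⟨c, rfl⟩
      exact ⟨((c : K) : G), (c : K).2, rfl⟩
    · rintro _ ⟨k, hk, rfl⟩
      obtain ⟨⟨n, c⟩, hnc⟩ := (kernel_isComplement hC).2 (⟨k, hk⟩ : K)
      refine ⟨c, ?_⟩
      have hn : ((n : K) : G) ∈ H := by
        exact Subgroup.mem_subgroupOf.1 ((subgroupOf_eq_kernel hC hCk).ge n.2)
      have e : k = ((n : K) : G) * ((c : K) : G) := (congrArg Subtype.val hnc).symm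
      change QuotientGroup.mk' H ((c : K) : G) = QuotientGroup.mk' H k
      rw [e, map_mul, (QuotientGroup.eq_one_iff _).2 hn |> fun h =>
        (show QuotientGroup.mk' H ((n : K) : G) = 1 from h), one_mul]
  exact ⟨(MonoidHom.ofInjective hf).trans (MulEquiv.subgroupCongr hr)⟩

/-- The middle layer is cyclic of odd order. -/
theorem middle_cyclic (hHK : H ≤ K) (hC : IsFrobeniusComplement C)
    (hCk : frobeniusKernel C = (H.subgroupOf K : Set ↥K)) (hD : IsFrobeniusComplement D)
    (hDk : frobeniusKernel D = (K.map (QuotientGroup.mk' H) : Set (G ⧸ H))) :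
    IsCyclic C ∧ Odd (Nat.card C) := by
  obtain ⟨e⟩ := exists_equiv_kernel hHK hC hCk
  let e' : C ≃* kernel hD := e.trans (MulEquiv.subgroupCongr (map_eq_kernel hD hDk))
  have hodd : Odd (Nat.card C) := by
    by_contra h
    rw [Nat.not_odd_iff_even, even_iff_two_dvd] at h
    obtain ⟨z, hz⟩ := exists_prime_orderOf_dvd_card' (G := C) 2 h
    have hz2 : z * z = 1 := by rw [← sq, ← hz, pow_orderOf_eq_one]
    have hz1 : z ≠ 1 := fun e => by rw [e, orderOf_one] at hz; omega
    obtain ⟨d, hd, hd1⟩ := exists_ne_one hD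
    haveI := kernel_normal hD
    let w : kernel hD := e' z
    let w' : kernel hD :=
      ⟨d * w * d⁻¹, Subgroup.Normal.conj_mem inferInstance (w : G ⧸ H) w.2 d⟩
    have hu : e'.symm w' = z := by
      refine Subtype.ext (involution_unique hC (e'.symm w').2 ?_ ?_ z.2
        (fun h => hz1 (Subtype.ext h)) (congrArg Subtype.val hz2))
      · intro h
        have h' : e'.symm w' = 1 := Subtype.ext h
        rw [MulEquiv.map_eq_one_iff] at h'
        have h'' := congrArg Subtype.val h'
        simp only [w', Subgroup.coe_one, mul_inv_eq_one] at h''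
        exact hz1 (e'.map_eq_one_iff.1 (Subtype.ext (mul_eq_left.1 h'')))
      · rw [← Subgroup.coe_mul, ← map_mul, show w' * w' = 1 from Subtype.ext (by
          have hw : (w : G ⧸ H) * w = 1 := by
            rw [← Subgroup.coe_mul, ← map_mul, hz2, map_one, Subgroup.coe_one]
          simp only [w', Subgroup.coe_mul, Subgroup.coe_one]
          calc d * w * d⁻¹ * (d * w * d⁻¹) = d * ((w : G ⧸ H) * w) * d⁻¹ := by group
            _ = 1 := by rw [hw]; group), map_one, Subgroup.coe_one]
    have hcom : d * (w : G ⧸ H) = w * d := by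
      have := congrArg Subtype.val ((MulEquiv.symm_apply_eq e').1 hu)
      exact mul_inv_eq_iff_eq_mul.1 this
    exact hz1 (e'.map_eq_one_iff.1 (Subtype.ext
      (fixedPointFree hD (kernel_isComplement hD) hd hd1 w.2 hcom)))
  haveI := kernel_isNilpotent hD
  haveI : Group.IsNilpotent C := Group.nilpotent_of_mulEquiv e'.symm
  exact ⟨isCyclic_of_nilpotent_odd hC hodd, hodd⟩

/-- Structure of a 2-Frobenius group. -/
theorem twoFrobenius (hHK : H ≤ K) (hC : IsFrobeniusComplement C)
    (hCk : frobeniusKernel C = (H.subgroupOf K : Set ↥K)) (hD : IsFrobeniusComplement D)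
    (hDk : frobeniusKernel D = (K.map (QuotientGroup.mk' H) : Set (G ⧸ H))) :
    Group.IsSolvable G ∧ Odd (Nat.card (↥K ⧸ H.subgroupOf K)) ∧
      Nat.Coprime (Nat.card (↥K ⧸ H.subgroupOf K)) (Nat.card ↥H * Nat.card (G ⧸ K)) ∧
      IsCyclic (G ⧸ K) ∧
      ∀ p q : ℕ, p.Prime → q.Prime → p ≠ q → p ∣ Nat.card G → q ∣ Nat.card G →
        ((∃ g : G, orderOf g = p * q) ↔
          (p ∣ Nat.card (↥K ⧸ H.subgroupOf K) ↔ q ∣ Nat.card (↥K ⧸ H.subgroupOf K))) := by
  obtain ⟨hCcyc, hCodd⟩ := middle_cyclic hHK hC hCk hD hDk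
  obtain ⟨e⟩ := exists_equiv_kernel hHK hC hCk
  let e' : C ≃* kernel hD := e.trans (MulEquiv.subgroupCongr (map_eq_kernel hD hDk))
  haveI : IsCyclic (kernel hD) := e'.isCyclic.1 hCcyc
  haveI hDcyc : IsCyclic D := isCyclic_of_cyclic_kernel hD
  haveI := kernel_normal hD
  have hb : Nat.card (↥K ⧸ H.subgroupOf K) = Nat.card C := by
    rw [← Subgroup.index_eq_card, subgroupOf_eq_kernel hC hCk, index_kernel hC]
  have hcardH : Nat.card (kernel hC) = Nat.card H := by
    rw [← subgroupOf_eq_kernel hC hCk, Nat.card_congr (Subgroup.subgroupOfEquivOfLe hHK).toEquiv]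
  have hd : Nat.card (G ⧸ K) = Nat.card D := by
    rw [← Subgroup.index_eq_card, ← Subgroup.index_map_eq K (QuotientGroup.mk'_surjective H)
      (by rw [QuotientGroup.ker_mk']; exact hHK), map_eq_kernel hD hDk, index_kernel hD]
  have hcopH : (Nat.card C).Coprime (Nat.card H) := by
    rw [← hcardH, card_kernel_subgroup hC]; exact coprime_card_index hC
  have hcopD : (Nat.card C).Coprime (Nat.card D) := by
    rw [Nat.card_congr e'.toEquiv, card_kernel_subgroup hD]; exact (coprime_card_index hD).symm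
  have hG : Nat.card G = Nat.card H * Nat.card C * Nat.card D := by
    rw [Subgroup.card_eq_card_quotient_mul_card_subgroup H, ← Subgroup.card_mul_index (kernel hD),
      index_kernel hD, ← Nat.card_congr e'.toEquiv]
    ring
  have hGKcyc : IsCyclic (G ⧸ K) := by
    let g : G ⧸ H →* G ⧸ K := QuotientGroup.map H K (MonoidHom.id G) hHK
    refine isCyclic_of_surjective (g.comp D.subtype) fun y => ?_
    obtain ⟨x, rfl⟩ := QuotientGroup.mk'_surjective K y
    obtain ⟨⟨n, d⟩, hnd⟩ := (kernel_isComplement hD).2 (QuotientGroup.mk' H x)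
    refine ⟨d, ?_⟩
    have hn : g n = 1 := by
      obtain ⟨k, hk, hk'⟩ := (map_eq_kernel hD hDk).ge n.2
      rw [← hk']
      exact (QuotientGroup.eq_one_iff _).2 hk
    change g (d : G ⧸ H) = QuotientGroup.mk' K x
    have := congrArg g hnd
    rw [map_mul, hn, one_mul] at this
    exact this
  haveI := kernel_isNilpotent hC
  have hHnil : Group.IsNilpotent H := by
    haveI : Group.IsNilpotent (H.subgroupOf K) := by
      rw [subgroupOf_eq_kernel hC hCk]; infer_instance
    exact Group.nilpotent_of_mulEquiv (Subgroup.subgroupOfEquivOfLe hHK)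
  refine ⟨?_, hb ▸ hCodd, ?_, hGKcyc, ?_⟩
  · haveI : Group.IsNilpotent H := hHnil
    have hker : Group.IsSolvable (kernel hD) := inferInstance
    have hq : Group.IsSolvable ((G ⧸ H) ⧸ kernel hD) := by
      haveI : Group.IsNilpotent D := by
        open scoped IsMulCommutative in exact CommGroup.isNilpotent
      refine Group.isSolvable_of_surjective
        (f := (QuotientGroup.mk' (kernel hD)).comp D.subtype) fun y => ?_
      obtain ⟨x, rfl⟩ := QuotientGroup.mk'_surjective (kernel hD) y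
      obtain ⟨⟨n, d⟩, hnd⟩ := (kernel_isComplement hD).2 x
      refine ⟨d, ?_⟩
      change QuotientGroup.mk' (kernel hD) (d : G ⧸ H) = _
      rw [← hnd]
      change _ = QuotientGroup.mk' (kernel hD) ((n : G ⧸ H) * (d : G ⧸ H))
      rw [map_mul, show QuotientGroup.mk' (kernel hD) (n : G ⧸ H) = 1 from
        (QuotientGroup.eq_one_iff _).2 n.2, one_mul]
    have hGH : Group.IsSolvable (G ⧸ H) :=
      (Group.isSolvable_iff_subgroup_quotient (kernel hD)).2 ⟨hker, hq⟩
    exact (Group.isSolvable_iff_subgroup_quotient H).2 ⟨inferInstance, hGH⟩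
  · rw [hb, hd]; exact Nat.Coprime.mul_right hcopH hcopD
  intro p q hp hq hpq hpG hqG
  rw [hb]
  -- a prime of the middle layer is joined only to such primes
  have hsplit : ∀ p q : ℕ, p.Prime → q.Prime → p ∣ Nat.card C → ¬ q ∣ Nat.card C →
      ∀ g : G, orderOf g ≠ p * q := by
    intro p q hp hq hpC hqC g hg
    haveI := Fact.mk hp
    haveI := Fact.mk hq
    set x := g ^ q with hxdef
    set y := g ^ p with hydef
    have hx : orderOf x = p := by
      rw [hxdef, orderOf_pow_of_dvd hq.ne_zero (hg ▸ dvd_mul_left q p), hg,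
        Nat.mul_div_cancel _ hq.pos]
    have hy : orderOf y = q := by
      rw [hydef, orderOf_pow_of_dvd hp.ne_zero (hg ▸ dvd_mul_right p q), hg,
        Nat.mul_div_cancel_left _ hp.pos]
    have hxy : y * x = x * y := (Commute.pow_pow_self g p q).eq
    have hxH : x ∉ H := fun h => hp.ne_one (Nat.eq_one_of_dvd_coprimes hcopH hpC
      (hx ▸ Subgroup.orderOf_dvd_natCard H h))
    have hxK : x ∈ K := by
      rw [← QuotientGroup.eq_one_iff (N := K), ← orderOf_eq_one_iff]
      refine Nat.eq_one_of_dvd_coprimes (hcopD.coprime_dvd_left hpC) ?_ ?_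
      · exact hx ▸ orderOf_map_dvd (QuotientGroup.mk' K) x
      · exact hd ▸ orderOf_dvd_natCard _
    have hxbar : QuotientGroup.mk' H x ∈ kernel hD :=
      (map_eq_kernel hD hDk).le ⟨x, hxK, rfl⟩
    have hx1 : QuotientGroup.mk' H x ≠ 1 := fun h => hxH ((QuotientGroup.eq_one_iff _).1 h)
    have hybar : QuotientGroup.mk' H y ∈ kernel hD :=
      mem_kernel_of_commute hD hxbar hx1 (by rw [← map_mul, ← map_mul, hxy])
    have hyH : y ∈ H := by
      refine (QuotientGroup.eq_one_iff _).1 (orderOf_eq_one_iff.1 (Nat.eq_one_of_dvd_coprimes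
        ((Nat.Prime.coprime_iff_not_dvd hq).2 hqC)
        (hy ▸ orderOf_map_dvd (QuotientGroup.mk' H) y) ?_))
      rw [Nat.card_congr e'.toEquiv]
      exact Subgroup.orderOf_dvd_natCard _ hybar
    have hyK : (⟨y, hHK hyH⟩ : K) ∈ kernel hC :=
      (subgroupOf_eq_kernel hC hCk).le (Subgroup.mem_subgroupOf.2 hyH)
    have := mem_kernel_of_commute hC (g := (⟨x, hxK⟩ : K)) hyK
      (fun h => hq.ne_one (by rw [← hy, show y = 1 from congrArg Subtype.val h, orderOf_one]))
      (Subtype.ext hxy.symm)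
    exact hxH (Subgroup.mem_subgroupOf.1 ((subgroupOf_eq_kernel hC hCk).ge this))
  constructor
  · rintro ⟨g, hg⟩
    by_contra hne
    by_cases hpC : p ∣ Nat.card C
    · exact hsplit p q hp hq hpC (fun h => hne ⟨fun _ => h, fun _ => hpC⟩) g hg
    · exact hsplit q p hq hp (by by_contra h; exact hne ⟨fun h' => absurd h' hpC, fun h' => absurd h' h⟩)
        hpC g (by rw [hg, mul_comm])
  intro hiff
  haveI := Fact.mk hp
  haveI := Fact.mk hq
  by_cases hpC : p ∣ Nat.card C
  · obtain ⟨c, hc⟩ := IsCyclic.exists_ofOrder_eq_natCard (α := C)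
    obtain ⟨g, hg⟩ := exists_orderOf_eq_of_dvd (a := c) (d := p * q)
      (hc ▸ ((Nat.coprime_primes hp hq).2 hpq).mul_dvd_of_dvd_of_dvd hpC (hiff.1 hpC))
    exact ⟨((g : K) : G), by rw [Subgroup.orderOf_coe, Subgroup.orderOf_coe, hg]⟩
  have hqC : ¬ q ∣ Nat.card C := fun h => hpC (hiff.2 h)
  -- elements joining the Fitting layer to the top layer
  have hjoin : ∀ p q : ℕ, p.Prime → q.Prime → p ∣ Nat.card H → ¬ q ∣ Nat.card H → q ∣ Nat.card G →
      ¬ q ∣ Nat.card C → ∃ g : G, orderOf g = p * q := by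
    intro p q hp hq hpH hqH hqG hqC
    haveI := Fact.mk hp
    haveI := Fact.mk hq
    let V : Subgroup G :=
      { carrier := {x | x ∈ H ∧ x ^ p = 1 ∧ ∀ h ∈ H, h * x = x * h}
        one_mem' := ⟨one_mem _, one_pow _, fun h _ => by simp⟩
        mul_mem' := fun {a b} ⟨ha, hap, hac⟩ ⟨hb, hbp, hbc⟩ => ⟨H.mul_mem ha hb,
          by rw [(show Commute a b from hbc a ha).mul_pow, hap, hbp, one_mul],
          fun h hh => by rw [← mul_assoc, hac h hh, mul_assoc, hbc h hh, mul_assoc]⟩
        inv_mem' := fun {a} ⟨ha, hap, hac⟩ => ⟨H.inv_mem ha, by rw [inv_pow, hap, inv_one],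
          fun h hh => (show Commute h a from hac h hh).inv_right.eq⟩ }
    haveI hVn : V.Normal := ⟨fun x ⟨hx, hxp, hxc⟩ g => ⟨Subgroup.Normal.conj_mem inferInstance x hx g,
      by rw [conj_pow, hxp, mul_one, mul_inv_cancel], fun h hh => by
        have := hxc _ (Subgroup.Normal.conj_mem inferInstance h hh g⁻¹)
        rw [inv_inv] at this
        calc h * (g * x * g⁻¹) = g * (g⁻¹ * h * g * x) * g⁻¹ := by group
          _ = g * (x * (g⁻¹ * h * g)) * g⁻¹ := by rw [this]
          _ = g * x * g⁻¹ * h := by group⟩⟩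
    letI : CommGroup V :=
      { (inferInstance : Group V) with
        mul_comm := fun a b => Subtype.ext (b.2.2.2 a a.2.1) }
    haveI : Group.IsNilpotent H := hHnil
    obtain ⟨v₀, hv₀, hv₁⟩ : ∃ v ∈ V, v ≠ 1 := by
      obtain ⟨P⟩ := (inferInstance : Nonempty (Sylow p H))
      have hPn : (P : Subgroup H).Normal := sylow_normal_of_isNilpotent p P
      have hdZ : p ∣ Nat.card (Subgroup.center H) := by
        have hPne : (P : Subgroup H) ≠ ⊥ := P.ne_bot_of_dvd_card hpH
        haveI := hPn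
        have hint := H24.inf_center_ne_bot (P : Subgroup H) hPne
        obtain ⟨k, hk⟩ := (P.2.to_le (inf_le_left : (P : Subgroup H) ⊓ Subgroup.center H ≤ _)).exists_card_eq
        have hk0 : k ≠ 0 := by
          rintro rfl
          exact hint (Subgroup.eq_bot_of_card_eq _ (by rw [hk, pow_zero]))
        exact ((dvd_pow_self p hk0).trans (dvd_of_eq hk.symm)).trans
          (Subgroup.card_dvd_of_le inf_le_right)
      obtain ⟨z, hz⟩ := exists_prime_orderOf_dvd_card' (G := Subgroup.center H) p hdZ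
      refine ⟨((z : H) : G), ⟨(z : H).2, ?_, fun h hh => ?_⟩, ?_⟩
      · rw [← hz, ← Subgroup.orderOf_coe, ← Subgroup.orderOf_coe]
        exact pow_orderOf_eq_one _
      · exact congrArg Subtype.val (Subgroup.mem_center_iff.1 z.2 ⟨h, hh⟩)
      · intro h
        have : z = 1 := Subtype.ext (Subtype.ext h)
        rw [this, orderOf_one] at hz
        exact hp.ne_one hz.symm
    haveI : Nontrivial V := ⟨⟨⟨v₀, hv₀⟩, 1, fun h => hv₁ (congrArg Subtype.val h)⟩⟩
    let φ : G ⧸ H →* MulAut V := QuotientGroup.lift H MulAut.conjNormal fun h hh => by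
      ext v
      rw [MulAut.conjNormal_apply, v.2.2.2 h hh, mul_inv_cancel_right]
      rfl
    obtain ⟨y, hy⟩ := exists_prime_orderOf_dvd_card' (G := G) q hqG
    have hyH : y ∉ H := fun h => hqH (hy ▸ Subgroup.orderOf_dvd_natCard H h)
    have hybar : orderOf (QuotientGroup.mk' H y) = q := by
      rcases (Nat.dvd_prime hq).1 (hy ▸ orderOf_map_dvd (QuotientGroup.mk' H) y) with h | h
      · exact absurd ((QuotientGroup.eq_one_iff _).1 (orderOf_eq_one_iff.1 h)) hyH
      · exact h
    obtain ⟨v, hv1, hv⟩ := exists_fixed_of_kernel (kernel hD) φ (y := QuotientGroup.mk' H y) (q := q)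
      (by
        rw [← Nat.card_congr e'.toEquiv]
        refine Nat.Coprime.coprime_dvd_right ?_ hcopH
        exact Subgroup.card_dvd_of_le (show V ≤ H from fun x hx => hx.1))
      (fun v hv => by
        by_contra hv1
        obtain ⟨c, hc, hc1⟩ := exists_ne_one hC
        have := hv (QuotientGroup.mk' H ((c : K) : G)) ((map_eq_kernel hD hDk).le ⟨_, c.2, rfl⟩)
        have h2 := congrArg Subtype.val this
        change ((c : K) : G) * (v : G) * ((c : K) : G)⁻¹ = v at h2
        refine hc1 ?_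
        have hvK : (⟨v, hHK v.2.1⟩ : K) ∈ kernel hC :=
          (subgroupOf_eq_kernel hC hCk).le (Subgroup.mem_subgroupOf.2 v.2.1)
        have hmem := mem_kernel_of_commute hC (g := c) hvK
          (fun h => hv1 (Subtype.ext (congrArg Subtype.val h :)))
          (Subtype.ext (mul_inv_eq_iff_eq_mul.1 h2))
        exact kernel_inter ((mem_kernel hC).1 hmem) hc)
      hq.pos (hybar ▸ pow_orderOf_eq_one _)
      (fun i hi hiq k hk hkc => by
        by_contra hk1
        have hmem := mem_kernel_of_commute hD hk hk1 hkc.symm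
        have h1 : orderOf ((QuotientGroup.mk' H y) ^ i) = q := by
          rw [Nat.Coprime.orderOf_pow, hybar]
          rw [hybar]
          exact (Nat.Prime.coprime_iff_not_dvd hq).2 fun h => absurd (Nat.le_of_dvd hi h) (not_le.2 hiq)
        refine hqC ?_
        rw [Nat.card_congr e'.toEquiv, ← h1]
        exact Subgroup.orderOf_dvd_natCard _ hmem)
    have hv' := congrArg Subtype.val hv
    change y * (v : G) * y⁻¹ = v at hv'
    have hvp : orderOf (v : G) = p :=
      orderOf_eq_prime v.2.2.1 fun h => hv1 (Subtype.ext h)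
    refine ⟨(v : G) * y, ?_⟩
    rw [(show Commute (v : G) y from (mul_inv_eq_iff_eq_mul.1 hv').symm).orderOf_mul_eq_mul_orderOf_of_coprime,
      hvp, hy]
    rw [hvp, hy]
    exact (Nat.coprime_primes hp hq).2 fun e => hqH (e ▸ hpH)
  by_cases hpH : p ∣ Nat.card H
  · by_cases hqH : q ∣ Nat.card H
    · haveI : Group.IsNilpotent H := hHnil
      obtain ⟨g, hg⟩ := exists_orderOf_mul_of_nilpotent (N := H) hp hq hpq hpH hqH
      exact ⟨g, by rw [Subgroup.orderOf_coe, hg]⟩
    · exact hjoin p q hp hq hpH hqH hqG hqC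
  by_cases hqH : q ∣ Nat.card H
  · obtain ⟨g, hg⟩ := hjoin q p hq hp hqH hpH hpG hpC
    exact ⟨g, by rw [hg, mul_comm]⟩
  have hdiv : ∀ r : ℕ, r.Prime → r ∣ Nat.card G → ¬ r ∣ Nat.card H → ¬ r ∣ Nat.card C →
      r ∣ Nat.card (G ⧸ K) := by
    intro r hr hrG hrH hrC
    rw [hG] at hrG
    rw [hd]
    rcases hr.dvd_mul.1 hrG with h | h
    · rcases hr.dvd_mul.1 h with h | h
      · exact absurd h hrH
      · exact absurd h hrC
    · exact h
  obtain ⟨a, ha⟩ := IsCyclic.exists_ofOrder_eq_natCard (α := G ⧸ K)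
  obtain ⟨a', rfl⟩ := QuotientGroup.mk'_surjective K a
  refine exists_orderOf_eq_of_dvd (a := a') ?_
  refine Dvd.dvd.trans ?_ (orderOf_map_dvd (QuotientGroup.mk' K) a')
  rw [ha]
  exact ((Nat.coprime_primes hp hq).2 hpq).mul_dvd_of_dvd_of_dvd (hdiv p hp hpG hpH hpC)
    (hdiv q hq hqG hqH hqC)

end Cfsg.Agent.Frobenius
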